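import Groth.Agent.AzumayaX.EtaleSub
import Groth.Agent.CSALib.Generic
import Groth.Agent.CSALib.RedCharpoly
import Mathlib.FieldTheory.Finite.Extension
import Mathlib.FieldTheory.PrimitiveElement
import Mathlib.RingTheory.Etale.StandardEtale

/-!
Separable elements of maximal degree and the étale algebras they generate.
-/

universe u v w

set_option linter.style.haveILetI false

namespace Groth.Agent.AzumayaX

open Polynomial TensorProduct

section Field

variable {k : Type u} [Field k] {B : Type v} [Ring B] [Algebra k B]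

theorem exists_separable_of_finite [Finite k] [Algebra.IsCentral k B] [IsSimpleRing B]
    [FiniteDimensional k B] {r : ℕ} (hB : Module.finrank k B = r ^ 2) :
    ∃ b : B, (minpoly k b).Separable ∧ (minpoly k b).natDegree = r := by
  classical
  obtain ⟨n, hn, D, _, _, _, _, ⟨e⟩⟩ := CSALib.exists_division k B
  have hD : Module.finrank k D = 1 := (CSALib.natDegree_minpoly_of_subsingleton (k := k) (1 : D)).1
  have hr : r = n := by
    have h := e.toLinearEquiv.finrank_eq
    rw [hB, Module.finrank_matrix, Fintype.card_fin, hD, mul_one, ← sq] at h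
    exact Nat.pow_left_injective two_ne_zero h
  subst hr
  obtain ⟨p, hp⟩ := CharP.exists k
  haveI : Fact p.Prime := ⟨CharP.char_is_prime k p⟩
  haveI : NeZero r := hn
  let F := FiniteField.Extension k p r
  have hF : Module.finrank k F = r := FiniteField.finrank_extension k p r
  obtain ⟨β, hβ⟩ := Field.exists_primitive_element k F
  let e₁ : k ≃ₐ[k] D := AlgEquiv.ofBijective (Algebra.ofId k D)
    ⟨(algebraMap k D).injective, fun x => by
      obtain ⟨c, hc⟩ := (finrank_eq_one_iff_of_nonzero' (1 : D) one_ne_zero).1 hD x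
      exact ⟨c, by rw [← hc, Algebra.ofId_apply, Algebra.algebraMap_eq_smul_one]⟩⟩
  let e₂ : Module.End k F ≃ₐ[k] B :=
    (algEquivMatrix ((Module.finBasis k F).reindex (finCongr hF))).trans
      (e₁.mapMatrix.trans e.symm)
  let φ : F →ₐ[k] B := e₂.toAlgHom.comp (Algebra.lmul k F)
  have hφ : Function.Injective φ := φ.toRingHom.injective
  refine ⟨φ β, ?_, ?_⟩
  · rw [minpoly.algHom_eq φ hφ]
    exact Algebra.IsSeparable.isSeparable k β
  · rw [minpoly.algHom_eq φ hφ, ← IntermediateField.adjoin.finrank (Algebra.IsIntegral.isIntegral β), hβ,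
      IntermediateField.finrank_top', hF]

theorem exists_separable_of_infinite [Infinite k] [Algebra.IsCentral k B] [IsSimpleRing B]
    [FiniteDimensional k B] {r : ℕ} (hB : Module.finrank k B = r ^ 2) :
    ∃ b : B, (minpoly k b).Separable ∧ (minpoly k b).natDegree = r := by
  classical
  have hr : 0 < r := by
    rcases Nat.eq_zero_or_pos r with h | h
    · subst h; exact absurd hB (Module.finrank_pos (R := k) (M := B)).ne'
    · exact h
  obtain ⟨L, _, _, g, hg⟩ := CSALib.exists_splitting_redCharpoly (A := B) hB
  let Ω := AlgebraicClosure L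
  let φ : B →ₐ[k] Matrix (Fin r) (Fin r) Ω := ((IsScalarTower.toAlgHom k L Ω).mapMatrix).comp g
  haveI : Nonempty (Fin r) := ⟨⟨0, hr⟩⟩
  let Φ : Ω ⊗[k] B →ₐ[Ω] Matrix (Fin r) (Fin r) Ω :=
    Algebra.TensorProduct.lift (Algebra.ofId Ω _) φ fun x a => Algebra.commutes x (φ a)
  haveI := CSALib.isSimpleRing_baseChange k B Ω
  have hΦ : Function.Surjective Φ :=
    (LinearMap.injective_iff_surjective_of_finrank_eq_finrank (by
      rw [Module.finrank_baseChange, Module.finrank_matrix, Fintype.card_fin, Module.finrank_self,
        mul_one, hB, sq]) (f := Φ.toLinearMap)).1 Φ.toRingHom.injective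
  obtain ⟨f⟩ : Nonempty (Fin r ↪ Ω) := ⟨Fin.valEmbedding.trans (Infinite.natEmbedding Ω)⟩
  obtain ⟨w, hw⟩ := hΦ (Matrix.diagonal f)
  let b := Module.finBasis k B
  let R := MvPolynomial (Fin (Module.finrank k B)) Ω
  let ι : Ω →+* R := MvPolynomial.C
  let G : Matrix (Fin r) (Fin r) R := ∑ i, (MvPolynomial.X i : R) • ι.mapMatrix (φ (b i))
  let p : R := G.charpoly.resultant (derivative G.charpoly) r r
  have heval : ∀ x, MvPolynomial.eval x p = (∑ i, x i • φ (b i)).charpoly.resultant
      (derivative (∑ i, x i • φ (b i)).charpoly) r r := fun x => by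
    have hG : (MvPolynomial.eval x).mapMatrix G = ∑ i, x i • φ (b i) := by
      rw [map_sum]
      refine Finset.sum_congr rfl fun i _ => ?_
      ext s t
      simp [ι]
      exact Or.inl (MvPolynomial.eval_C _)
    rw [← hG, RingHom.mapMatrix_apply, Matrix.charpoly_map, derivative_map, resultant_map_map]
  have hp0 : p ≠ 0 := by
    intro h0
    have h := heval fun i => (b.baseChange Ω).repr w i
    rw [h0, map_zero] at h
    have hsum : ∑ i, (b.baseChange Ω).repr w i • φ (b i) = Matrix.diagonal f := by
      rw [← hw]
      conv_rhs => rw [← (b.baseChange Ω).sum_repr w, map_sum]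
      refine Finset.sum_congr rfl fun i _ => ?_
      rw [map_smul, Module.Basis.baseChange_apply]
      simp [Φ]
    rw [hsum] at h
    refine (CSALib.Generic.separable_iff_resultant hr _).1 ?_ h.symm
    rw [Matrix.charpoly_diagonal]
    exact separable_prod_X_sub_C_iff.2 f.injective
  obtain ⟨x, hx⟩ : ∃ x : Fin (Module.finrank k B) → k, MvPolynomial.eval (fun i => algebraMap k Ω (x i)) p ≠ 0 := by
    by_contra hc
    push Not at hc
    refine hp0 (MvPolynomial.funext_set (fun _ => Set.range (algebraMap k Ω))
      (fun _ => Set.infinite_range_of_injective (algebraMap k Ω).injective) fun x hx => ?_)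
    choose y hy using fun i => hx i (Set.mem_univ i)
    rw [map_zero, ← hc y]
    congr 2
    funext i
    exact (hy i).symm
  rw [heval, ← CSALib.Generic.separable_iff_resultant hr] at hx
  simp only [algebraMap_smul, ← map_smul, ← map_sum] at hx
  generalize ∑ i, x i • b i = a at hx
  have hint : IsIntegral k a := Algebra.IsIntegral.isIntegral a
  obtain ⟨P, hPm, hPn, hP⟩ := hg a
  have hPφ : (φ a).charpoly = P.map (algebraMap k Ω) := by
    show ((g a).map (algebraMap L Ω)).charpoly = _
    rw [Matrix.charpoly_map, ← hP, Polynomial.map_map, ← IsScalarTower.algebraMap_eq]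
  have hPa : aeval a P = 0 := by
    refine (map_eq_zero_iff g g.toRingHom.injective).1 ?_
    rw [← aeval_algHom_apply, ← aeval_map_algebraMap L, hP, Matrix.aeval_self_charpoly]
  rw [hPφ, separable_map] at hx
  have hQP : minpoly k a ∣ P := minpoly.dvd k a hPa
  have hφinj : Function.Injective φ := φ.toRingHom.injective
  have hannih : aeval (φ a) ((minpoly k a).map (algebraMap k Ω)) = 0 := by
    rw [aeval_map_algebraMap, aeval_algHom_apply, minpoly.aeval, map_zero]
  refine ⟨a, hx.of_dvd hQP, le_antisymm ((natDegree_le_of_dvd hQP hPm.ne_zero).trans hPn.le) ?_⟩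
  have hQm : ((minpoly k a).map (algebraMap k Ω)).Monic := (minpoly.monic hint).map _
  have hroots : (P.map (algebraMap k Ω)).roots ≤ ((minpoly k a).map (algebraMap k Ω)).roots := by
    refine (Multiset.le_iff_subset (nodup_roots ((separable_map _).2 hx))).2 fun c hc => ?_
    rw [mem_roots hQm.ne_zero, IsRoot.def]
    obtain ⟨v, hv0, hv⟩ := Matrix.exists_mulVec_eq_zero_iff.2
      (show (Matrix.scalar (Fin r) c - φ a).det = 0 by
        rw [← Matrix.eval_charpoly, hPφ]; exact isRoot_of_mem_roots hc)
    have hvec : (φ a).mulVec v = c • v := by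
      rw [Matrix.sub_mulVec, sub_eq_zero] at hv
      rw [← hv]
      funext i
      simp [Matrix.scalar_apply, Matrix.mulVec_diagonal]
    have heig : ∀ F : Polynomial Ω, (aeval (φ a) F).mulVec v = F.eval c • v := by
      intro F
      induction F using Polynomial.induction_on' with
      | add p q hp hq => rw [map_add, Matrix.add_mulVec, hp, hq, eval_add, add_smul]
      | monomial n s =>
        rw [aeval_monomial, eval_monomial, ← Algebra.smul_def, Matrix.smul_mulVec, mul_smul]
        congr 1
        induction n with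
        | zero => simp
        | succ n ih => rw [pow_succ, ← Matrix.mulVec_mulVec, hvec, Matrix.mulVec_smul, ih, smul_smul,
            ← pow_succ']
    have h := heig ((minpoly k a).map (algebraMap k Ω))
    rw [hannih, Matrix.zero_mulVec] at h
    exact (smul_eq_zero.1 h.symm).resolve_right hv0
  have h1 := Multiset.card_le_card hroots
  rw [← (IsAlgClosed.splits (P.map (algebraMap k Ω))).natDegree_eq_card_roots, natDegree_map, hPn] at h1
  exact h1.trans ((card_roots' _).trans_eq (natDegree_map _))

end Field

section Etale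

variable {R : Type u} [CommRing R]

/-- A monic separable polynomial gives an étale algebra. -/
theorem etale_adjoinRoot {P : R[X]} (hP : P.Monic) (hsep : P.Separable) :
    Algebra.Etale R (AdjoinRoot P) := by
  obtain ⟨a, b, hab⟩ := hsep
  let S : StandardEtalePair R := ⟨P, hP, 1, b, a, 0, by rw [pow_zero, ← hab]; ring⟩
  have hunit : IsUnit (AdjoinRoot.mk P (1 : R[X])) := by rw [map_one]; exact isUnit_one
  haveI : IsLocalization.Away (AdjoinRoot.mk P (1 : R[X])) (AdjoinRoot P) :=
    IsLocalization.away_of_isUnit_of_bijective _ hunit Function.bijective_id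
  exact Algebra.Etale.of_equiv (S.equivAwayAdjoinRoot.trans
    ((IsLocalization.algEquiv (Submonoid.powers (AdjoinRoot.mk P (1 : R[X])))
      (Localization.Away (AdjoinRoot.mk P (1 : R[X]))) (AdjoinRoot P)).restrictScalars R))

end Etale

section Local

variable {R : Type u} [CommRing R] [IsLocalRing R] {A : Type v} [Ring A] [Algebra R A] [IsAzumaya R A]

/-- The powers of a lift of a separable element of maximal degree. -/
theorem powers_of_separable {r : ℕ} (hA : Module.finrank R A = r ^ 2) (ξ : A)
    (hsep : (minpoly (IsLocalRing.ResidueField R) ((1 : IsLocalRing.ResidueField R) ⊗ₜ[R] ξ)).Separable)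
    (hdeg : (minpoly (IsLocalRing.ResidueField R) ((1 : IsLocalRing.ResidueField R) ⊗ₜ[R] ξ)).natDegree = r) :
    LinearIndependent R (fun i : Fin r => ξ ^ (i : ℕ)) ∧
      ∃ (E : Type u) (_ : CommRing E) (_ : Algebra R E), Algebra.Etale R E ∧ Module.Finite R E ∧
        Module.Free R E ∧ Module.finrank R E = r ∧
        ξ ^ r ∈ Submodule.span R (Set.range (fun i : Fin r => ξ ^ (i : ℕ))) ∧
        ∃ u : E →ₐ[R] A, Function.Injective (u.toLinearMap.lTensor (IsLocalRing.ResidueField R)) := by
  classical
  let κ := IsLocalRing.ResidueField R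
  haveI : Module.Free R A := Module.free_of_flat_of_isLocalRing
  haveI := isAzumaya_baseChange R κ A
  haveI := nontrivial_of_isAzumaya κ (κ ⊗[R] A)
  set z := (1 : κ) ⊗ₜ[R] ξ with hzdef
  have hint : IsIntegral κ z := Algebra.IsIntegral.isIntegral z
  let l : (Fin r → R) →ₗ[R] A := Fintype.linearCombination R fun i : Fin r => ξ ^ (i : ℕ)
  have hliz : LinearIndependent κ fun i : Fin r => z ^ (i : ℕ) :=
    (linearIndependent_pow z).comp (Fin.cast hdeg.symm) (Fin.cast_injective _)
  let η : (Fin r → κ) →ₗ[κ] κ ⊗[R] A := Fintype.linearCombination κ fun i : Fin r => z ^ (i : ℕ)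
  have hη : Function.Injective η := linearIndependent_iff_injective_fintypeLinearCombination.1 hliz
  let π : κ ⊗[R] (Fin r → R) ≃ₗ[κ] (Fin r → κ) := TensorProduct.piScalarRight R κ κ (Fin r)
  have hl : ∀ y, l.lTensor κ y = η (π y) := by
    intro y
    induction y using TensorProduct.induction_on with
    | zero => simp
    | add a b ha hb => simp [map_add, ha, hb]
    | tmul c y =>
      simp [l, η, π, z, Fintype.linearCombination_apply, TensorProduct.tmul_sum,
        Algebra.TensorProduct.tmul_pow, TensorProduct.smul_tmul', TensorProduct.tmul_smul]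
  have hlinj : Function.Injective (l.lTensor κ) := fun a b h => by
    rw [hl, hl] at h
    exact π.injective (hη h)
  obtain ⟨ρ, hρ⟩ := (IsLocalRing.split_injective_iff_lTensor_residueField_injective l).2 hlinj
  have hli : LinearIndependent R (fun i : Fin r => ξ ^ (i : ℕ)) :=
    linearIndependent_iff_injective_fintypeLinearCombination.2 fun a b h => by
      rw [← LinearMap.id_apply (R := R) a, ← hρ, LinearMap.comp_apply, show l a = l b from h,
        ← LinearMap.comp_apply, hρ, LinearMap.id_apply]
  refine ⟨hli, ?_⟩
  let Q := minpoly κ z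
  haveI : Algebra.Etale κ (AdjoinRoot Q) := etale_adjoinRoot (minpoly.monic hint) hsep
  haveI : Module.Finite κ (AdjoinRoot Q) := (minpoly.monic hint).finite_adjoinRoot
  let u₀ : AdjoinRoot Q →ₐ[κ] κ ⊗[R] A := CSALib.adjoinRootHom κ z
  have hu₀root : u₀ (AdjoinRoot.root Q) = z := CSALib.adjoinRootHom_root κ z
  have hu₀ : Function.Injective u₀ := by
    rw [injective_iff_map_eq_zero]
    intro y hy
    obtain ⟨F, rfl⟩ := AdjoinRoot.mk_surjective y
    rw [← AdjoinRoot.aeval_eq, ← aeval_algHom_apply, hu₀root] at hy
    exact AdjoinRoot.mk_eq_zero.2 (minpoly.dvd κ z hy)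
  let f : A →ₗ[R] A × (Fin r → R) := (LinearMap.mulRight R ξ - LinearMap.mulLeft R ξ).prod ρ
  have hf : Function.Injective (f.lTensor κ) := by
    rw [← LinearMap.ker_eq_bot, Submodule.eq_bot_iff]
    intro w hw
    rw [LinearMap.mem_ker] at hw
    have h1 : (LinearMap.mulRight R ξ - LinearMap.mulLeft R ξ).lTensor κ w = 0 := by
      rw [show LinearMap.mulRight R ξ - LinearMap.mulLeft R ξ =
        (LinearMap.fst R A (Fin r → R)).comp f from rfl, LinearMap.lTensor_comp_apply, hw, map_zero]
    have h2 : ρ.lTensor κ w = 0 := by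
      rw [show ρ = (LinearMap.snd R A (Fin r → R)).comp f from rfl, LinearMap.lTensor_comp_apply, hw,
        map_zero]
    have hc : Commute w z := by
      refine sub_eq_zero.1 (Eq.trans ?_ h1)
      clear hw h1 h2
      induction w using TensorProduct.induction_on with
      | zero => simp
      | add x y hx hy => rw [LinearMap.map_add, add_mul, mul_add, ← hx, ← hy]; abel
      | tmul c x => simp [z, TensorProduct.tmul_sub]
    obtain ⟨y, hy⟩ := mem_range_of_commute_field (k := κ) (B := κ ⊗[R] A) (r := r)
      (by rw [Module.finrank_baseChange, hA])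
      (by rw [(AdjoinRoot.powerBasis' (minpoly.monic hint)).finrank, AdjoinRoot.powerBasis'_dim]; exact hdeg)
      u₀ hu₀ w (fun e => by
        obtain ⟨F, rfl⟩ := AdjoinRoot.mk_surjective e
        rw [← AdjoinRoot.aeval_eq, ← aeval_algHom_apply, hu₀root]
        refine (show Commute w (aeval z F) from ?_).eq
        induction F using Polynomial.induction_on with
        | C a => rw [aeval_C]; exact Algebra.commute_algebraMap_right a w
        | add p q hp hq => rw [map_add]; exact hp.add_right hq
        | monomial n a ih => rw [map_mul, aeval_C, map_pow, aeval_X, pow_succ, ← mul_assoc]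
                             rw [map_mul, aeval_C, map_pow, aeval_X] at ih
                             exact ih.mul_right hc)
    change u₀ y = w at hy
    obtain ⟨F, rfl⟩ := AdjoinRoot.mk_surjective y
    rw [← AdjoinRoot.aeval_eq, ← aeval_algHom_apply, hu₀root] at hy
    have hrem : w = η fun i : Fin r => (F %ₘ Q).coeff i := by
      rw [← hy, ← Polynomial.aeval_modByMonic_eq_self_of_root (minpoly.aeval κ z),
        aeval_eq_sum_range' (n := r) (hdeg ▸ natDegree_modByMonic_lt F (minpoly.monic hint)
          (minpoly.ne_one κ z))]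
      simp [η, Fintype.linearCombination_apply, Finset.sum_range]
      rfl
    obtain ⟨v, hv⟩ := π.surjective fun i : Fin r => (F %ₘ Q).coeff i
    rw [← hv, ← hl] at hrem
    rw [hrem, ← LinearMap.lTensor_comp_apply, hρ, LinearMap.lTensor_id_apply] at h2
    rw [hrem, h2, map_zero]
  obtain ⟨f', hf'⟩ := (IsLocalRing.split_injective_iff_lTensor_residueField_injective f).2 hf
  have hfinj : Function.Injective f := fun a b h => by
    rw [← LinearMap.id_apply (R := R) a, ← hf', LinearMap.comp_apply, h, ← LinearMap.comp_apply, hf',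
      LinearMap.id_apply]
  set c := ρ (ξ ^ r) with hcdef
  have hlcomm : l c * ξ = ξ * l c := by
    simp [l, Fintype.linearCombination_apply, Finset.sum_mul, Finset.mul_sum, ← pow_succ, ← pow_succ']
  have hrel : ξ ^ r = l c := by
    refine sub_eq_zero.1 ((map_eq_zero_iff f hfinj).1 (Prod.ext ?_ ?_))
    · show (ξ ^ r - l c) * ξ - ξ * (ξ ^ r - l c) = 0
      rw [sub_mul, mul_sub, hlcomm, ← pow_succ, ← pow_succ', sub_self]
    · show ρ (ξ ^ r - l c) = 0
      rw [map_sub, show ρ (l c) = c from LinearMap.congr_fun hρ c, ← hcdef, sub_self]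
  let T : R[X] := ∑ i : Fin r, C (c i) * X ^ (i : ℕ)
  have hT : T.degree < r := degree_sum_fin_lt c
  let P : R[X] := X ^ r - T
  have hPm : P.Monic := monic_X_pow_sub hT
  have hPdeg : P.natDegree = r := natDegree_eq_of_degree_eq_some (by
    show (X ^ r - T).degree = ((r : ℕ) : WithBot ℕ)
    rw [degree_sub_eq_left_of_degree_lt (by rwa [degree_X_pow]), degree_X_pow])
  have hPξ : aeval ξ P = 0 := by
    show aeval ξ (X ^ r - T) = 0
    rw [map_sub, map_pow, aeval_X, hrel, sub_eq_zero]
    simp [T, l, Fintype.linearCombination_apply, map_sum, Algebra.smul_def]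
  have hPQ : P.map (algebraMap R κ) = Q := by
    refine minpoly.unique' κ z (hPm.map (algebraMap R κ)) ?_ fun q hq => ?_
    · rw [aeval_map_algebraMap]
      show aeval ((Algebra.TensorProduct.includeRight : A →ₐ[R] κ ⊗[R] A) ξ) P = 0
      rw [aeval_algHom_apply, hPξ, map_zero]
    · rw [or_iff_not_imp_left]
      intro hq0 h0
      have h := minpoly.degree_le_of_ne_zero κ z hq0 h0
      rw [degree_eq_natDegree hq0, degree_eq_natDegree (minpoly.ne_zero hint), hdeg] at h
      rw [degree_eq_natDegree hq0, hPm.degree_map, degree_eq_natDegree hPm.ne_zero, hPdeg] at hq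
      exact absurd hq (not_lt.2 h)
  have hPsep : P.Separable := by
    obtain ⟨a, b, -, -, hab⟩ := exists_mul_add_mul_eq_C_resultant P (derivative P)
      (m := r) (n := r) hPdeg.le ((natDegree_derivative_le _).trans (by omega)) (Or.inl (by
        have hpos : 0 < (minpoly κ z).natDegree := minpoly.natDegree_pos hint
        rw [hdeg] at hpos
        omega))
    have hunit : IsUnit (P.resultant (derivative P) r r) := by
      rw [← IsLocalRing.notMem_maximalIdeal, ← Ideal.Quotient.eq_zero_iff_mem]
      show ¬ algebraMap R κ _ = 0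
      rw [← resultant_map_map, ← derivative_map, hPQ]
      obtain ⟨e, he⟩ := Nat.exists_eq_add_of_le ((natDegree_derivative_le Q).trans
        (by rw [show Q.natDegree = r from hdeg]; omega) : (derivative Q).natDegree ≤ r)
      have h2 := resultant_ne_zero Q (derivative Q) hsep
      rw [show Q.natDegree = r from hdeg] at h2
      rw [show Q.resultant (derivative Q) r r = Q.resultant (derivative Q) r ((derivative Q).natDegree + e)
          from congrArg (fun n => Q.resultant (derivative Q) r n) he,
        resultant_add_right_deg _ _ _ _ _ le_rfl,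
        show Q.coeff r = 1 from (congrArg Q.coeff (show Q.natDegree = r from hdeg).symm).trans
          (minpoly.monic hint).coeff_natDegree, one_pow, one_mul]
      exact h2
    obtain ⟨w, hw⟩ := hunit
    refine ⟨C ((w⁻¹ : Rˣ) : R) * a, C ((w⁻¹ : Rˣ) : R) * b, ?_⟩
    rw [mul_assoc, mul_assoc, ← mul_add, mul_comm a, mul_comm b, hab, ← C_mul, ← hw, Units.inv_mul, C_1]
  haveI : Module.Free R (AdjoinRoot P) := hPm.free_adjoinRoot
  haveI : Module.Finite R (AdjoinRoot P) := hPm.finite_adjoinRoot
  let pb := AdjoinRoot.powerBasis' hPm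
  let u : AdjoinRoot P →ₐ[R] A :=
    Ideal.Quotient.liftₐ (Ideal.span {P}) (aeval ξ) fun a ha => by
      obtain ⟨b, rfl⟩ := Ideal.mem_span_singleton'.1 ha
      simp [hPξ]
  refine ⟨AdjoinRoot P, inferInstance, inferInstance, etale_adjoinRoot hPm hPsep, inferInstance,
    inferInstance, by rw [pb.finrank, AdjoinRoot.powerBasis'_dim, hPdeg], ?_, u, ?_⟩
  · rw [hrel]
    exact (Submodule.mem_span_range_iff_exists_fun R).2 ⟨c, by simp [l, Fintype.linearCombination_apply]⟩
  · let B : Module.Basis (Fin r) R (AdjoinRoot P) := pb.basis.reindex (finCongr (by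
      rw [AdjoinRoot.powerBasis'_dim, hPdeg]))
    have hu : u.toLinearMap = l ∘ₗ B.equivFun.toLinearMap := B.ext fun i => by
      have h1 : B i = AdjoinRoot.root P ^ (i : ℕ) := by simp [B, pb]
      rw [LinearMap.comp_apply, LinearEquiv.coe_coe]
      rw [show B.equivFun (B i) = Pi.single i (1 : R) from funext fun j => by
        rw [Module.Basis.equivFun_self, Pi.single_apply]; simp [eq_comm]]
      simp only [AlgHom.toLinearMap_apply, h1, map_pow]
      rw [show u (AdjoinRoot.root P) = ξ by show aeval ξ (X : R[X]) = ξ; simp]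
      simp [l, Fintype.linearCombination_apply]
    rw [hu, LinearMap.lTensor_comp]
    exact hlinj.comp (B.equivFun.lTensor κ).injective

end Local

end Groth.Agent.AzumayaX
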