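import Mathlib.RingTheory.Finiteness.Projective
import Mathlib.RingTheory.Flat.FaithfullyFlat.Basic
import Mathlib.RingTheory.Flat.FaithfullyFlat.Algebra
import Mathlib.LinearAlgebra.Contraction
import Mathlib.RingTheory.PicardGroup

/-!
Isomorphisms of endomorphism algebras of progenerators come from invertible modules.
-/

universe u v w

namespace Groth.Agent.AzumayaX

open TensorProduct

variable {A : Type u} [CommRing A] {F : Type v} [AddCommGroup F] [Module A F]
  {G : Type w} [AddCommGroup G] [Module A G]

/-- The maps intertwining the endomorphisms through `φ`. -/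
def intertwiners (φ : Module.End A F →ₐ[A] Module.End A G) : Submodule A (F →ₗ[A] G) where
  carrier := {l | ∀ f : Module.End A F, φ f ∘ₗ l = l ∘ₗ f}
  add_mem' := fun {a b} ha hb f => by rw [LinearMap.comp_add, LinearMap.add_comp, ha f, hb f]
  zero_mem' := fun f => by simp
  smul_mem' := fun r l hl f => by rw [LinearMap.comp_smul, LinearMap.smul_comp, hl f]

variable (φ : Module.End A F →ₐ[A] Module.End A G)

/-- The intertwiner attached to a functional and a vector. -/
def mkIntertwiner (μ : F →ₗ[A] A) : G →ₗ[A] intertwiners φ where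
  toFun g :=
    ⟨{ toFun := fun u => φ (μ.smulRight u) g
       map_add' := fun u u' => by
         rw [show μ.smulRight (u + u') = μ.smulRight u + μ.smulRight u' by ext; simp, map_add,
           LinearMap.add_apply]
       map_smul' := fun r u => by
         rw [show μ.smulRight (r • u) = r • μ.smulRight u by ext; exact smul_comm _ r u, map_smul,
           LinearMap.smul_apply, RingHom.id_apply] }, fun f => LinearMap.ext fun u => by
      show φ f (φ (μ.smulRight u) g) = φ (μ.smulRight (f u)) g
      rw [← Module.End.mul_apply, ← map_mul]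
      congr 2
      ext x
      simp⟩
  map_add' g g' := Subtype.ext (LinearMap.ext fun u => (φ (μ.smulRight u)).map_add g g')
  map_smul' r g := Subtype.ext (LinearMap.ext fun u => (φ (μ.smulRight u)).map_smul r g)

theorem mkIntertwiner_apply (μ : F →ₗ[A] A) (g : G) (u : F) :
    (mkIntertwiner φ μ g).1 u = φ (μ.smulRight u) g := by rfl

/-- Evaluation of intertwiners. -/
noncomputable def evalIntertwiner : F ⊗[A] intertwiners φ →ₗ[A] G :=
  TensorProduct.lift ((intertwiners φ).subtype.flip)

theorem evalIntertwiner_tmul (x : F) (l : intertwiners φ) :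
    evalIntertwiner φ (x ⊗ₜ l) = l.1 x := rfl

theorem evalIntertwiner_equivariant (f : Module.End A F) (z : F ⊗[A] intertwiners φ) :
    φ f (evalIntertwiner φ z) = evalIntertwiner φ (TensorProduct.map f LinearMap.id z) := by
  induction z using TensorProduct.induction_on with
  | zero => simp
  | tmul x l =>
    rw [TensorProduct.map_tmul, evalIntertwiner_tmul, evalIntertwiner_tmul]
    exact LinearMap.congr_fun (l.2 f) x
  | add x y hx hy => simp only [map_add, hx, hy]

variable [Module.Finite A F] [Module.Projective A F]

theorem exists_dualBasis (F : Type v) [AddCommGroup F] [Module A F] [Module.Finite A F]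
    [Module.Projective A F] :
    ∃ (n : ℕ) (μ : Fin n → (F →ₗ[A] A)) (y : Fin n → F), ∀ x, ∑ j, μ j x • y j = x := by
  obtain ⟨n, f, g, -, -, hfg⟩ := Module.Finite.exists_comp_eq_id_of_projective A F
  refine ⟨n, fun j => (LinearMap.proj j).comp g, fun j => f (Pi.single j 1), fun x => ?_⟩
  conv_rhs => rw [← show f (g x) = x from LinearMap.congr_fun hfg x, pi_eq_sum_univ' (g x)]
  rw [map_sum]
  exact Finset.sum_congr rfl fun j _ => (map_smul f _ _).symm

omit [Module.Projective A F] in
theorem evalIntertwiner_bijective_of_dualBasis {n : ℕ} (μ : Fin n → (F →ₗ[A] A)) (y : Fin n → F)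
    (hy : ∀ x, ∑ j, μ j x • y j = x) : Function.Bijective (evalIntertwiner φ) := by
  let inv : G →ₗ[A] F ⊗[A] intertwiners φ :=
    ∑ j, (TensorProduct.mk A F (intertwiners φ) (y j)).comp (mkIntertwiner φ (μ j))
  have h1 : ∀ g, evalIntertwiner φ (inv g) = g := fun g => by
    simp only [inv, LinearMap.sum_apply, LinearMap.comp_apply, TensorProduct.mk_apply, map_sum,
      evalIntertwiner_tmul, mkIntertwiner_apply]
    rw [← LinearMap.sum_apply, ← map_sum,
      show ∑ j, (μ j).smulRight (y j) = (1 : Module.End A F) from LinearMap.ext fun x => by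
        simp [hy x], map_one, Module.End.one_apply]
  have h2 : ∀ z, inv (evalIntertwiner φ z) = z := fun z => by
    induction z using TensorProduct.induction_on with
    | zero => simp
    | add a b ha hb => simp only [map_add, ha, hb]
    | tmul x l =>
      have hl : ∀ j, mkIntertwiner φ (μ j) (l.1 x) = μ j x • l := fun j => by
        refine Subtype.ext (LinearMap.ext fun u => ?_)
        rw [mkIntertwiner_apply, show φ ((μ j).smulRight u) (l.1 x) = l.1 ((μ j).smulRight u x) from
          LinearMap.congr_fun (l.2 _) x]
        simp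
      simp only [inv, LinearMap.sum_apply, LinearMap.comp_apply, TensorProduct.mk_apply,
        evalIntertwiner_tmul, hl, ← TensorProduct.smul_tmul]
      rw [← TensorProduct.sum_tmul, hy]
  exact Function.bijective_iff_has_inverse.2 ⟨inv, h2, h1⟩

/-- `F ⊗ L ≅ G` for `L` the module of intertwiners. -/
theorem evalIntertwiner_bijective : Function.Bijective (evalIntertwiner φ) := by
  obtain ⟨n, μ, y, hy⟩ := exists_dualBasis (A := A) F
  exact evalIntertwiner_bijective_of_dualBasis φ μ y hy

theorem exists_trace_one [Module.FaithfullyFlat A F] :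
    ∃ (n : ℕ) (μ : Fin n → (F →ₗ[A] A)) (z : Fin n → F), ∑ j, μ j (z j) = 1 := by
  obtain ⟨n, μ, y, hy⟩ := exists_dualBasis (A := A) F
  let J : Ideal A := Ideal.span (Set.range fun p : Fin n × F => μ p.1 p.2)
  have hJ : J = ⊤ := by
    by_contra hne
    obtain ⟨m, hm, hJm⟩ := Ideal.exists_le_maximal J hne
    refine Module.FaithfullyFlat.submodule_ne_top (M := F) hm (eq_top_iff.2 fun x _ => ?_)
    rw [← hy x]
    exact Submodule.sum_mem _ fun j _ =>
      Submodule.smul_mem_smul (hJm (Ideal.subset_span ⟨(j, x), rfl⟩)) Submodule.mem_top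
  have h1 : (1 : A) ∈ J := hJ ▸ Submodule.mem_top
  obtain ⟨c, hc⟩ := Finsupp.mem_span_range_iff_exists_finsupp.1 h1
  let e := Fintype.equivFin c.support
  refine ⟨_, fun j => μ (e.symm j).1.1, fun j => c (e.symm j).1 • (e.symm j).1.2, ?_⟩
  rw [e.symm.sum_comp (fun p : c.support => μ p.1.1 (c p.1 • p.1.2))]
  simp only [map_smul]
  rw [← hc, Finsupp.sum, Finset.sum_coe_sort c.support fun p => c p • μ p.1 p.2]

omit [Module.Projective A F] [Module.Finite A F] in
/-- An endomorphism commuting with all others is a scalar. -/
theorem eq_smul_of_commutes {n : ℕ} (μ : Fin n → (F →ₗ[A] A)) (z : Fin n → F)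
    (hz : ∑ j, μ j (z j) = 1) (T : Module.End A F) (hT : ∀ f : Module.End A F, f ∘ₗ T = T ∘ₗ f)
    (u : F) : T u = (∑ j, μ j (T (z j))) • u := by
  calc T u = ∑ j, T ((μ j).smulRight u (z j)) := by
        simp only [LinearMap.smulRight_apply, map_smul, ← Finset.sum_smul, hz, one_smul]
    _ = ∑ j, (μ j).smulRight u (T (z j)) := Finset.sum_congr rfl fun j _ =>
        (LinearMap.congr_fun (hT _) (z j)).symm
    _ = _ := by simp only [LinearMap.smulRight_apply, Finset.sum_smul]

/-- The intertwiners of an isomorphism of endomorphism algebras form an invertible module. -/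
theorem invertible_intertwiners [Module.FaithfullyFlat A F] [Module.Finite A G]
    [Module.Projective A G] (e : Module.End A F ≃ₐ[A] Module.End A G) :
    Module.Invertible A (intertwiners e.toAlgHom) := by
  obtain ⟨n, μ, z, hz⟩ := exists_trace_one (A := A) (F := F)
  let c : intertwiners e.toAlgHom ⊗[A] intertwiners e.symm.toAlgHom →ₗ[A] A :=
    TensorProduct.lift (LinearMap.mk₂ A (fun l l' => ∑ j, μ j (l'.1 (l.1 (z j))))
      (fun l₁ l₂ l' => by simp [Finset.sum_add_distrib])
      (fun r l l' => by simp [Finset.mul_sum])
      (fun l l'₁ l'₂ => by simp [Finset.sum_add_distrib])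
      (fun r l l' => by simp [Finset.mul_sum]))
  let ξ := LinearEquiv.ofBijective _ (evalIntertwiner_bijective e.toAlgHom)
  let ξ' := LinearEquiv.ofBijective _ (evalIntertwiner_bijective e.symm.toAlgHom)
  have hc : Function.Bijective c := by
    have hb : Function.Bijective (c.lTensor F) := by
      rw [← Function.Bijective.of_comp_iff' (TensorProduct.rid A F).bijective]
      have : ((TensorProduct.rid A F).toLinearMap ∘ₗ c.lTensor F) =
          ((TensorProduct.assoc A F _ _).symm ≪≫ₗ
            TensorProduct.congr ξ (LinearEquiv.refl A _) ≪≫ₗ ξ').toLinearMap := by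
        refine TensorProduct.ext' fun x p => ?_
        induction p using TensorProduct.induction_on with
        | zero => simp
        | add a b ha hb => simp only [TensorProduct.tmul_add, map_add, ha, hb]
        | tmul l l' =>
          have hT : ∀ f : Module.End A F, f ∘ₗ (l'.1 ∘ₗ l.1) = (l'.1 ∘ₗ l.1) ∘ₗ f := fun f => by
            rw [LinearMap.comp_assoc, ← l.2 f, ← LinearMap.comp_assoc, ← LinearMap.comp_assoc]
            congr 1
            have := l'.2 (e f)
            simp only [AlgEquiv.coe_toAlgHom, AlgEquiv.symm_apply_apply] at this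
            exact this
          have h := eq_smul_of_commutes μ z hz (l'.1 ∘ₗ l.1) hT x
          simp [c, ξ, ξ', evalIntertwiner_tmul]
          exact h.symm
      exact (congrArg Function.Bijective (congrArg DFunLike.coe this)).mpr (LinearEquiv.bijective _)
    have key : ∀ j (w : F ⊗[A] (intertwiners e.toAlgHom ⊗[A] intertwiners e.symm.toAlgHom)),
        c (TensorProduct.lid A _ ((μ j).rTensor _ w)) =
          TensorProduct.lid A A ((μ j).rTensor A (c.lTensor F w)) := fun j w => by
      induction w using TensorProduct.induction_on with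
      | zero => simp
      | tmul x p => simp
      | add a b ha hb => simp only [map_add, ha, hb]
    refine ⟨fun p q hpq => ?_, fun r => ?_⟩
    · have h0 : ∀ j, (z j) ⊗ₜ[A] (p - q) = 0 := fun j => hb.1 (by simp [hpq])
      calc p = ∑ j, μ j (z j) • (p - q) + q := by rw [← Finset.sum_smul, hz, one_smul, sub_add_cancel]
        _ = q := by
          rw [Finset.sum_eq_zero (fun j _ => ?_), zero_add]
          have := congrArg (fun w => TensorProduct.lid A _ ((μ j).rTensor _ w)) (h0 j)
          simpa using this
    · choose w hw using fun j => hb.2 ((z j) ⊗ₜ[A] r)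
      refine ⟨∑ j, TensorProduct.lid A _ ((μ j).rTensor _ (w j)), ?_⟩
      simp only [map_sum, key, hw]
      simp [← Finset.sum_mul, hz]
  exact Module.Invertible.left (LinearEquiv.ofBijective c hc)

end Groth.Agent.AzumayaX
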