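import Groth.Agent.AzumayaX.Fibres
import Groth.Agent.AzumayaX.Morita
import Mathlib.RingTheory.Localization.Away.Basic
import Mathlib.RingTheory.Artinian.Ring

/-!
Automorphisms of Azumaya algebras are locally inner.
-/

universe u v w

set_option linter.style.haveILetI false

namespace Groth.Agent.AzumayaX

open TensorProduct MulOpposite

variable {R : Type u} [CommRing R] {A : Type v} [Ring A] [Algebra R A] [IsAzumaya R A]

/-- The centre of an Azumaya algebra is the base ring. -/
theorem exists_algebraMap_of_central (z : A) (hz : ∀ x, z * x = x * z) :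
    ∃ c : R, z = algebraMap R A c := by
  haveI : Module.FaithfullyFlat R A := faithfullyFlat A
  obtain ⟨n, μ, w, hw⟩ := exists_trace_one (A := R) (F := A)
  have hT : ∀ f : Module.End R A, f ∘ₗ LinearMap.mulLeft R z = LinearMap.mulLeft R z ∘ₗ f := by
    intro f
    obtain ⟨t, rfl⟩ := (IsAzumaya.bij (R := R) (A := A)).2 f
    refine LinearMap.ext fun x => ?_
    induction t with
    | zero => simp
    | tmul a b =>
      simp only [LinearMap.comp_apply, LinearMap.mulLeft_apply, AlgHom.mulLeftRight_apply]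
      rw [← mul_assoc a z x, ← hz a, mul_assoc z, mul_assoc]
    | add a b ha hb => simp_all [add_mul, mul_add]
  refine ⟨∑ j, μ j (z * w j), ?_⟩
  have h := eq_smul_of_commutes μ w hw (LinearMap.mulLeft R z) hT 1
  simp only [LinearMap.mulLeft_apply, mul_one] at h
  rw [Algebra.algebraMap_eq_smul_one]
  exact h

variable (u : A ≃ₐ[R] A)

/-- The endomorphism algebra automorphism attached to an automorphism. -/
noncomputable def endTwist : Module.End R A →ₐ[R] Module.End R A :=
  let e := AlgEquiv.ofBijective (AlgHom.mulLeftRight R A) IsAzumaya.bij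
  (e.toAlgHom.comp (Algebra.TensorProduct.map u.toAlgHom (AlgHom.id R Aᵐᵒᵖ))).comp e.symm.toAlgHom

theorem endTwist_sandwich (a b : A) :
    endTwist u (AlgHom.mulLeftRight R A (a ⊗ₜ op b)) = AlgHom.mulLeftRight R A (u a ⊗ₜ op b) := by
  have h : (AlgEquiv.ofBijective (AlgHom.mulLeftRight R A) IsAzumaya.bij).symm
      (AlgHom.mulLeftRight R A (a ⊗ₜ op b)) = a ⊗ₜ op b :=
    (AlgEquiv.ofBijective (AlgHom.mulLeftRight R A) IsAzumaya.bij).symm_apply_apply _
  simp [endTwist, h]

/-- The elements implementing an automorphism span the algebra. -/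
theorem exists_intertwining_sum :
    ∃ (n : ℕ) (l x : Fin n → A), (∀ i y, u y * l i = l i * y) ∧ ∑ i, l i * x i = 1 := by
  obtain ⟨z, hz⟩ := (evalIntertwiner_bijective (endTwist u)).2 (1 : A)
  clear hz
  obtain ⟨z, hz⟩ := (evalIntertwiner_bijective (endTwist u)).2 (1 : A)
  obtain ⟨s, rfl⟩ := TensorProduct.exists_finset z
  rw [map_sum] at hz
  simp only [evalIntertwiner_tmul] at hz
  have hl : ∀ (l : intertwiners (endTwist u)) (a b y : A), u a * l.1 y * b = l.1 (a * y * b) :=
    fun l a b y => by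
      have h := LinearMap.congr_fun (l.2 (AlgHom.mulLeftRight R A (a ⊗ₜ op b))) y
      rw [endTwist_sandwich] at h
      simpa using h
  let e := s.equivFin.symm
  refine ⟨s.card, fun i => (e i).1.2.1 1, fun i => (e i).1.1, fun i y => ?_, ?_⟩
  · have h1 := hl (e i).1.2 y 1 1
    have h2 := hl (e i).1.2 1 y 1
    rw [mul_one, mul_one, mul_one] at h1
    rw [map_one, one_mul, one_mul, one_mul] at h2
    exact h1.trans h2.symm
  · rw [e.sum_comp (fun p : s => p.1.2.1 1 * p.1.1), Finset.sum_coe_sort s (fun p => p.2.1 1 * p.1)]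
    refine Eq.trans ?_ hz
    refine Finset.sum_congr rfl fun p _ => ?_
    have h2 := hl p.2 1 p.1 1
    rw [map_one, one_mul, one_mul, one_mul] at h2
    exact h2

/-- Over every point some implementing element is invertible. -/
theorem exists_intertwining_unit (k : Type w) [Field k] [Algebra R k] :
    ∃ l : A, (∀ y, u y * l = l * y) ∧ IsUnit ((1 : k) ⊗ₜ[R] l) := by
  obtain ⟨n, l, x, hl, hsum⟩ := exists_intertwining_sum u
  haveI := (fibre_of_isAzumaya (R := R) A k).2
  obtain ⟨i, hi⟩ : ∃ i, (1 : k) ⊗ₜ[R] l i ≠ 0 := by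
    by_contra hc
    push Not at hc
    have h1 : (1 : k) ⊗ₜ[R] (1 : A) = 0 := by
      rw [← hsum, TensorProduct.tmul_sum]
      refine Finset.sum_eq_zero fun i _ => ?_
      rw [← one_mul (1 : k), ← Algebra.TensorProduct.tmul_mul_tmul, hc i, zero_mul]
    exact one_ne_zero (Algebra.TensorProduct.one_def.trans h1)
  refine ⟨l i, hl i, ?_⟩
  set w := (1 : k) ⊗ₜ[R] l i
  let u' : k ⊗[R] A →ₐ[R] k ⊗[R] A := Algebra.TensorProduct.map (AlgHom.id R k) u.symm.toAlgHom
  have hcomm : ∀ y, y * w = w * u' y := by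
    intro y
    induction y using TensorProduct.induction_on with
    | zero => simp
    | add a b ha hb => rw [map_add, add_mul, mul_add, ha, hb]
    | tmul c a =>
      simp only [u', w, Algebra.TensorProduct.map_tmul, AlgHom.coe_id, id_eq, AlgEquiv.coe_toAlgHom,
        Algebra.TensorProduct.tmul_mul_tmul, mul_one, one_mul]
      rw [← hl i (u.symm a), AlgEquiv.apply_symm_apply]
  let J : TwoSidedIdeal (k ⊗[R] A) := TwoSidedIdeal.mk' (Set.range (w * ·))
    ⟨0, mul_zero _⟩ (fun ⟨a, ha⟩ ⟨b, hb⟩ => ⟨a + b, by simp only [mul_add]; rw [← ha, ← hb]⟩)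
    (fun ⟨a, ha⟩ => ⟨-a, by simp only [mul_neg]; rw [← ha]⟩)
    (fun {y z} ⟨a, ha⟩ => ⟨u' y * a, by simp only at ha ⊢; rw [← ha, ← mul_assoc, ← hcomm, mul_assoc]⟩)
    (fun {y z} ⟨a, ha⟩ => ⟨a * z, by simp only at ha ⊢; rw [← ha, mul_assoc]⟩)
  have hw : w ∈ J := (TwoSidedIdeal.mem_mk' ..).2 ⟨1, mul_one w⟩
  obtain ⟨b, hb⟩ := (TwoSidedIdeal.mem_mk' ..).1 (IsSimpleRing.one_mem_of_ne_zero_mem J hi hw)
  haveI : IsArtinianRing (k ⊗[R] A) := isArtinian_of_tower k inferInstance
  exact IsUnit.of_mul_eq_one b hb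

omit [IsAzumaya R A] in
/-- An element invertible on all closed fibres is invertible. -/
theorem isUnit_of_fibres [Module.Finite R A] [Module.Projective R A] (a : A)
    (h : ∀ m : Ideal R, [m.IsMaximal] → IsUnit ((1 : m.ResidueField) ⊗ₜ[R] a)) : IsUnit a := by
  have key : ∀ f : Module.End R A, (∀ m : Ideal R, [m.IsMaximal] →
      Function.Bijective (f.baseChange m.ResidueField)) → Function.Bijective f := fun f hf =>
    bijective_of_fibres f hf
  have hl : Function.Bijective (LinearMap.mulLeft R a) := key _ fun m _ => by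
    rw [show ⇑((LinearMap.mulLeft R a).baseChange m.ResidueField) =
      fun y => (1 : m.ResidueField) ⊗ₜ[R] a * y from funext fun y => by
        induction y using TensorProduct.induction_on with
        | zero => simp
        | add b c hb hc => simp [mul_add, hb, hc]
        | tmul c b => simp]
    exact IsUnit.isUnit_iff_mulLeft_bijective.1 (h m)
  exact IsUnit.isUnit_iff_mulLeft_bijective.2 hl

/-- An automorphism of an Azumaya algebra over a local ring is inner. -/
theorem exists_unit_conj [IsLocalRing R] : ∃ a : Aˣ, ∀ x : A, u x = (a : A) * x * (a⁻¹ : Aˣ) := by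
  obtain ⟨l, hl, hunit⟩ := exists_intertwining_unit u (IsLocalRing.maximalIdeal R).ResidueField
  have hu : IsUnit l := isUnit_of_fibres (R := R) l fun m hm => by
    obtain rfl := IsLocalRing.eq_maximalIdeal hm
    exact hunit
  exact ⟨hu.unit, fun x => by
    rw [← Units.mul_inv_eq_iff_eq_mul, inv_inv, IsUnit.unit_spec]
    exact hl x⟩

/-- Two elements implementing the same automorphism differ by a scalar. -/
theorem exists_scalar_of_conj (a a' : Aˣ) (h : ∀ x : A, u x = (a : A) * x * (a⁻¹ : Aˣ))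
    (h' : ∀ x : A, u x = (a' : A) * x * (a'⁻¹ : Aˣ)) :
    ∃ c : Rˣ, (a' : A) = algebraMap R A (c : R) * (a : A) := by
  have hcomm : ∀ (b b' : Aˣ), (∀ x : A, u x = (b : A) * x * (b⁻¹ : Aˣ)) →
      (∀ x : A, u x = (b' : A) * x * (b'⁻¹ : Aˣ)) → ∃ c : R, ((b' * b⁻¹ : Aˣ) : A) = algebraMap R A c :=
    fun b b' hb hb' => exists_algebraMap_of_central _ fun y => by
      obtain ⟨x, rfl⟩ := u.surjective y
      calc ((b' * b⁻¹ : Aˣ) : A) * u x = (b' : A) * x * ((b⁻¹ : Aˣ) : A) := by
            rw [hb x, Units.val_mul]; simp [mul_assoc]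
        _ = u x * ((b' * b⁻¹ : Aˣ) : A) := by rw [hb' x, Units.val_mul]; simp [mul_assoc]
  obtain ⟨c, hc⟩ := hcomm a a' h h'
  obtain ⟨d, hd⟩ := hcomm a' a h' h
  have hcd : c * d = 1 := FaithfulSMul.algebraMap_injective R A (by
    rw [map_mul, map_one, ← hc, ← hd, ← Units.val_mul,
      show a' * a⁻¹ * (a * a'⁻¹) = 1 by group, Units.val_one])
  exact ⟨Units.mkOfMulEqOne c d hcd, by simp [← hc]⟩

/-- Locally on the base an automorphism is inner. -/
theorem exists_away_unit (p : Ideal R) [p.IsPrime] :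
    ∃ (f : R) (_ : f ∉ p) (l : A), (∀ y, u y * l = l * y) ∧
      IsUnit ((1 : Localization.Away f) ⊗ₜ[R] l) := by
  obtain ⟨l, hl, hunit⟩ := exists_intertwining_unit u p.ResidueField
  let C := A ⧸ LinearMap.range (LinearMap.mulLeft R l)
  haveI : Subsingleton (p.ResidueField ⊗[R] C) := subsingleton_of_forall_eq 0 fun x => by
    obtain ⟨y, rfl⟩ := LinearMap.lTensor_surjective p.ResidueField
      (LinearMap.range (LinearMap.mulLeft R l)).mkQ_surjective x
    obtain ⟨b, hb⟩ := (IsUnit.isUnit_iff_mulLeft_bijective.1 hunit).2 y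
    rw [← hb]
    show _ = _
    simp only []
    rw [show (1 : p.ResidueField) ⊗ₜ[R] l * b = (LinearMap.mulLeft R l).lTensor p.ResidueField b by
      clear hb
      induction b using TensorProduct.induction_on with
      | zero => simp
      | add b c hb hc => simp [mul_add, hb, hc]
      | tmul c b => simp, ← LinearMap.lTensor_comp_apply, LinearMap.range_mkQ_comp]
    simp
  have hns : (⟨p, inferInstance⟩ : PrimeSpectrum R) ∉ Module.support R C := fun hmem => by
    rw [Module.mem_support_iff_nontrivial_residueField_tensorProduct] at hmem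
    haveI : Nontrivial (p.ResidueField ⊗[R] C) := hmem
    exact not_subsingleton (p.ResidueField ⊗[R] C) inferInstance
  obtain ⟨f, hf, hf1⟩ := Module.notMem_support_iff'.1 hns (Submodule.Quotient.mk 1)
  rw [← Submodule.Quotient.mk_smul, Submodule.Quotient.mk_eq_zero] at hf1
  obtain ⟨b, hb⟩ := hf1
  refine ⟨f, hf, l, hl, ?_⟩
  obtain ⟨g, hg⟩ := (IsLocalization.Away.algebraMap_isUnit (S := Localization.Away f) f)
  have hright : (1 : Localization.Away f) ⊗ₜ[R] l * ((g⁻¹ : _ˣ) : Localization.Away f) ⊗ₜ[R] b = 1 := by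
    rw [Algebra.TensorProduct.tmul_mul_tmul, one_mul, show l * b = f • (1 : A) from hb,
      TensorProduct.tmul_smul, TensorProduct.smul_tmul', Algebra.smul_def, ← hg, Units.mul_inv,
      Algebra.TensorProduct.one_def]
  refine IsUnit.isUnit_iff_mulLeft_bijective.2 ?_
  exact OrzechProperty.bijective_of_surjective_endomorphism
    (LinearMap.mulLeft (Localization.Away f) ((1 : Localization.Away f) ⊗ₜ[R] l))
    fun y => ⟨((g⁻¹ : _ˣ) : Localization.Away f) ⊗ₜ[R] b * y, by simp [← mul_assoc, hright]⟩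

end Groth.Agent.AzumayaX
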