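import Groth.Agent.AzumayaX.SkolemNoether
import Mathlib.Algebra.Azumaya.Matrix
import Mathlib.LinearAlgebra.PiTensorProduct.Basis
import Mathlib.RingTheory.PiTensorProduct
import Mathlib.GroupTheory.Perm.Sign

/-!
The antisymmetriser in a tensor power of a matrix algebra.
-/

universe u

set_option linter.style.haveILetI false

namespace Groth.Agent.AzumayaX

open TensorProduct

variable (T : Type u) [CommRing T] (n : ℕ)

/-- The matrix algebra. -/
local notation "Mat" => Matrix (Fin n) (Fin n) T

noncomputable local instance : SMulCommClass T (⨂[T] _k : Fin n, Mat) (⨂[T] _k : Fin n, Mat) :=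
  Algebra.to_smulCommClass (R := T) (A := ⨂[T] _k : Fin n, Mat)

noncomputable local instance : IsScalarTower T (⨂[T] _k : Fin n, Mat) (⨂[T] _k : Fin n, Mat) :=
  IsScalarTower.right (R := T) (A := ⨂[T] _k : Fin n, Mat)

/-- A tensor product of matrix units. -/
noncomputable def unitTensor (a b : Fin n → Fin n) : ⨂[T] _k : Fin n, Mat :=
  PiTensorProduct.tprod T fun k => Matrix.single (a k) (b k) (1 : T)

/-- The sign of a permutation in the ring. -/
noncomputable def sgn (π : Equiv.Perm (Fin n)) : T := ((Equiv.Perm.sign π : ℤ) : T)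

/-- The antisymmetrised line. -/
noncomputable def antisymLine (a : Fin n → Fin n) : ⨂[T] _k : Fin n, Mat :=
  ∑ π : Equiv.Perm (Fin n), sgn T n π • unitTensor T n a π

/-- The antisymmetriser. -/
noncomputable def antisym : ⨂[T] _k : Fin n, Mat :=
  ∑ π : Equiv.Perm (Fin n), sgn T n π • ∑ f : Fin n → Fin n, unitTensor T n f (f ∘ π)

/-- The basis of matrix units. -/
noncomputable def unitBasis : Module.Basis (Fin n → Fin n × Fin n) T (⨂[T] _k : Fin n, Mat) :=
  Basis.piTensorProduct fun _ => Matrix.stdBasis T (Fin n) (Fin n)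

theorem unitBasis_apply (q : Fin n → Fin n × Fin n) :
    unitBasis T n q = unitTensor T n (fun k => (q k).1) (fun k => (q k).2) := by
  rw [unitBasis, Basis.piTensorProduct_apply, unitTensor]
  exact congrArg _ (funext fun k => by obtain ⟨i, j⟩ := q k; exact Matrix.stdBasis_eq_single ..)

theorem unitTensor_mul (a b c d : Fin n → Fin n) :
    unitTensor T n a b * unitTensor T n c d = if b = c then unitTensor T n a d else 0 := by
  rw [unitTensor, unitTensor, PiTensorProduct.tprod_mul_tprod]
  split_ifs with h
  · subst h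
    congr 1
    funext k
    simp
  · obtain ⟨k, hk⟩ := Function.ne_iff.1 h
    refine MultilinearMap.map_coord_zero _ k ?_
    simp [Matrix.single_mul_single_of_ne, hk]

theorem unitTensor_mul_antisym (a b : Fin n → Fin n) :
    unitTensor T n a b * antisym T n =
      ∑ π : Equiv.Perm (Fin n), sgn T n π • unitTensor T n a (b ∘ π) := by
  simp only [antisym, Finset.mul_sum, mul_smul_comm]
  refine Finset.sum_congr rfl fun π _ => congrArg (sgn T n π • ·) ?_
  simp [unitTensor_mul]

theorem unitTensor_mul_antisym_mem (a b : Fin n → Fin n) :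
    unitTensor T n a b * antisym T n ∈ Submodule.span T (Set.range (antisymLine T n)) := by
  classical
  rw [unitTensor_mul_antisym]
  by_cases hb : Function.Injective b
  · let π₀ : Equiv.Perm (Fin n) := Equiv.ofBijective b (Finite.injective_iff_bijective.1 hb)
    have h : ∑ π : Equiv.Perm (Fin n), sgn T n π • unitTensor T n a (b ∘ π) =
        sgn T n π₀ • antisymLine T n a := by
      rw [antisymLine, Finset.smul_sum, ← Equiv.sum_comp (Equiv.mulLeft π₀)
        (fun π => sgn T n π₀ • sgn T n π • unitTensor T n a π)]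
      refine Finset.sum_congr rfl fun π _ => ?_
      rw [smul_smul, Equiv.coe_mulLeft]
      congr 1
      simp only [sgn, ← Int.cast_mul, map_mul, Units.val_mul]
      rw [← mul_assoc, ← Units.val_mul, Int.units_mul_self, Units.val_one, one_mul]
    rw [h]
    exact Submodule.smul_mem _ _ (Submodule.subset_span ⟨a, rfl⟩)
  · obtain ⟨i, j, hij, hne⟩ := Function.not_injective_iff.1 hb
    rw [Finset.sum_involution (fun π _ => Equiv.swap i j * π)]
    · exact zero_mem _
    · intro π _
      have h1 : sgn T n (Equiv.swap i j * π) = - sgn T n π := by simp [sgn, Equiv.Perm.sign_swap hne]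
      have h2 : b ∘ ⇑(Equiv.swap i j * π) = b ∘ ⇑π := by
        funext k
        show b (Equiv.swap i j (π k)) = b (π k)
        rcases Equiv.eq_or_eq_of_swap_apply_ne_self (a := i) (b := j) (x := π k) with h
        by_cases hi : π k = i
        · simp [hi, hij]
        by_cases hj : π k = j
        · simp [hj, hij]
        rw [Equiv.swap_apply_of_ne_of_ne hi hj]
      rw [h1, h2, ← add_smul, add_neg_cancel, zero_smul]
    · intro π _ _ h
      exact hne (Equiv.swap_eq_refl_iff.1 (mul_right_cancel (h.trans (one_mul π).symm)))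
    · intro π _
      exact Finset.mem_univ _
    · intro π _
      simp [← mul_assoc, Equiv.swap_mul_self]

theorem unitTensor_mul_antisym_self (a : Fin n → Fin n) :
    unitTensor T n a id * antisym T n = antisymLine T n a := by
  rw [unitTensor_mul_antisym]
  rfl

theorem range_mulRight_antisym :
    LinearMap.range (LinearMap.mulRight T (antisym T n)) =
      Submodule.span T (Set.range (antisymLine T n)) := by
  refine le_antisymm ?_ (Submodule.span_le.2 ?_)
  · rintro _ ⟨m, rfl⟩
    rw [← (unitBasis T n).sum_repr m, map_sum]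
    refine Submodule.sum_mem _ fun q _ => ?_
    rw [map_smul, LinearMap.mulRight_apply, unitBasis_apply]
    exact Submodule.smul_mem _ _ (unitTensor_mul_antisym_mem T n _ _)
  · rintro _ ⟨a, rfl⟩
    exact ⟨unitTensor T n a id, unitTensor_mul_antisym_self T n a⟩

theorem unitTensor_mul_antisymLine (c d a : Fin n → Fin n) :
    unitTensor T n c d * antisymLine T n a = if d = a then antisymLine T n c else 0 := by
  simp only [antisymLine, Finset.mul_sum, mul_smul_comm, unitTensor_mul]
  split_ifs with h <;> simp

theorem linearIndependent_antisymLine : LinearIndependent T (antisymLine T n) := by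
  classical
  refine Fintype.linearIndependent_iff.2 fun c hc a => ?_
  have hrepr : ∀ (x y : Fin n → Fin n) (q : Fin n → Fin n × Fin n),
      (unitBasis T n).repr (unitTensor T n x y) q = if (fun k => (x k, y k)) = q then (1 : T) else 0 := by
    intro x y q
    rw [show unitTensor T n x y = unitBasis T n (fun k => (x k, y k)) from (unitBasis_apply T n (fun k => (x k, y k))).symm,
      Module.Basis.repr_self, Finsupp.single_apply]
  have hline : ∀ x, (unitBasis T n).repr (antisymLine T n x) (fun k => (a k, k)) = if x = a then 1 else 0 := by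
    intro x
    simp only [antisymLine, map_sum, map_smul, Finsupp.coe_finset_sum, Finset.sum_apply, Finsupp.smul_apply,
      hrepr, smul_eq_mul]
    rw [Finset.sum_eq_single (1 : Equiv.Perm (Fin n))]
    · simp [sgn, funext_iff]
    · intro π _ hπ
      rw [if_neg fun h => hπ (Equiv.ext fun k => (Prod.ext_iff.1 (congrFun h k)).2), mul_zero]
    · intro h
      exact absurd (Finset.mem_univ _) h
  have h := congrArg (fun z => (unitBasis T n).repr z (fun k => (a k, k))) hc
  simp only [map_sum, map_smul, Finsupp.coe_finset_sum, Finset.sum_apply, Finsupp.smul_apply, hline,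
    map_zero, Finsupp.zero_apply, smul_eq_mul, mul_ite, mul_one, mul_zero] at h
  simpa using h

variable {T n}

theorem sum_prod_conj (u v : Mat) (huv : u * v = 1) (π : Equiv.Perm (Fin n)) (a b : Fin n → Fin n) :
    ∑ f : Fin n → Fin n, ∏ k, (u * Matrix.single (f k) (f (π k)) (1 : T) * v) (a k) (b k) =
      ∏ k, (1 : Mat) (a k) (b (π⁻¹ k)) := by
  classical
  have h1 : ∀ (f : Fin n → Fin n) (k : Fin n),
      (u * Matrix.single (f k) (f (π k)) (1 : T) * v) (a k) (b k) = u (a k) (f k) * v (f (π k)) (b k) := by
    intro f k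
    simp [Matrix.mul_apply, Matrix.single, ite_and]
  have h2 : ∀ f : Fin n → Fin n,
      ∏ k, v (f (π k)) (b k) = ∏ k, v (f k) (b (π⁻¹ k)) := fun f => by
    rw [← Equiv.prod_comp π fun k => v (f k) (b (π⁻¹ k))]
    simp
  simp only [h1, Finset.prod_mul_distrib, h2]
  simp only [← Finset.prod_mul_distrib, ← huv, Matrix.mul_apply]
  rw [Finset.prod_univ_sum, Fintype.piFinset_univ]

/-- The antisymmetriser is fixed by automorphisms of the matrix algebra. -/
theorem antisym_invariant (σ : Mat ≃ₐ[T] Mat) :
    ∑ π : Equiv.Perm (Fin n), sgn T n π • ∑ f : Fin n → Fin n,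
      PiTensorProduct.tprod T (fun k => σ (Matrix.single (f k) (f (π k)) (1 : T))) = antisym T n := by
  classical
  rcases Nat.eq_zero_or_pos n with rfl | hn
  · refine Finset.sum_congr rfl fun π _ => congrArg _ (Finset.sum_congr rfl fun f _ => ?_)
    exact congrArg _ (funext fun k => k.elim0)
  haveI : Nonempty (Fin n) := ⟨⟨0, hn⟩⟩
  haveI : IsAzumaya T Mat := IsAzumaya.matrix T (Fin n)
  refine Finset.sum_congr rfl fun π _ => congrArg _ ((unitBasis T n).ext_elem fun q => ?_)
  simp only [map_sum, Finsupp.coe_finset_sum, Finset.sum_apply, unitTensor, unitBasis,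
    Basis.piTensorProduct_repr_tprod_apply]
  have hrepr : ∀ (X : Mat) (i : Fin n × Fin n), (Matrix.stdBasis T (Fin n) (Fin n)).repr X i = X i.1 i.2 :=
    fun X i => by simp [Matrix.stdBasis]
  simp only [hrepr, Function.comp_apply]
  have hid : ∑ f : Fin n → Fin n, ∏ k, Matrix.single (f k) (f (π k)) (1 : T) (q k).1 (q k).2 =
      ∏ k, (1 : Mat) (q k).1 (q (π⁻¹ k)).2 := by
    rw [← sum_prod_conj 1 1 (one_mul 1) π (fun k => (q k).1) (fun k => (q k).2)]
    simp
  rw [hid]
  set c := (∑ f : Fin n → Fin n, ∏ k, σ (Matrix.single (f k) (f (π k)) (1 : T)) (q k).1 (q k).2) -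
    ∏ k, (1 : Mat) (q k).1 (q (π⁻¹ k)).2 with hc
  suffices h : c = 0 from sub_eq_zero.1 h
  by_contra hne
  obtain ⟨m, hm, hle⟩ := Ideal.exists_le_maximal ((⊥ : Ideal T).colon {c})
    (fun h => hne (by simpa [Submodule.mem_colon_singleton] using (Ideal.eq_top_iff_one _).1 h))
  obtain ⟨g, hg, l, hl, hu⟩ := exists_away_unit σ m
  let S := Localization.Away g
  let G : S ⊗[T] Mat →ₐ[S] Matrix (Fin n) (Fin n) S :=
    Algebra.TensorProduct.lift (Algebra.ofId S _) (Algebra.ofId T S).mapMatrix
      fun x y => Algebra.commutes x _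
  have hG : G ((1 : S) ⊗ₜ[T] l) = l.map (algebraMap T S) := by simp [G]; rfl
  obtain ⟨w, hw⟩ := hG ▸ hu.map G
  have hconj : ∀ M : Mat, (σ M).map (algebraMap T S) =
      (w : Matrix (Fin n) (Fin n) S) * M.map (algebraMap T S) * (w⁻¹ : _ˣ) := fun M => by
    rw [Units.eq_mul_inv_iff_mul_eq, hw, ← Matrix.map_mul, ← Matrix.map_mul, hl]
  have heq : algebraMap T S c = 0 := by
    have h := sum_prod_conj (T := S) (w : Matrix (Fin n) (Fin n) S) _ w.mul_inv π
      (fun k => (q k).1) (fun k => (q k).2)
    rw [hc, map_sub, map_sum, sub_eq_zero]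
    refine Eq.trans (Finset.sum_congr rfl fun f _ => ?_) (h.trans ?_)
    · rw [map_prod]
      refine Finset.prod_congr rfl fun k _ => ?_
      rw [← Matrix.map_apply (f := algebraMap T S), hconj, Matrix.map_single, map_one]
    · rw [map_prod]
      refine Finset.prod_congr rfl fun k _ => ?_
      rw [← Matrix.map_apply (f := algebraMap T S), Matrix.map_one _ (map_zero _) (map_one _)]
  obtain ⟨⟨_, i, rfl⟩, hi⟩ := (IsLocalization.map_eq_zero_iff (Submonoid.powers g) S c).1 heq
  exact hg ((hm.isPrime).mem_of_pow_mem i (hle (Submodule.mem_colon_singleton.2 (by simpa using hi))))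

end Groth.Agent.AzumayaX
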