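import Mathlib.Algebra.Azumaya.Basic
import Mathlib.Algebra.Azumaya.Matrix
import Mathlib.Algebra.Module.FinitePresentation
import Mathlib.LinearAlgebra.Contraction
import Mathlib.LinearAlgebra.FreeModule.Finite.Matrix
import Mathlib.LinearAlgebra.Matrix.ToLin
import Mathlib.LinearAlgebra.TensorProduct.Opposite
import Mathlib.RingTheory.Finiteness.Projective
import Mathlib.RingTheory.Flat.FaithfullyFlat.Algebra
import Mathlib.RingTheory.Nakayama
import Mathlib.RingTheory.Spectrum.Prime.FreeLocus

/-!
Azumaya algebras: tensor products, base change, endomorphisms of progenerators, idempotents.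
-/

universe u v w

namespace Groth.Agent.AzumayaX

open TensorProduct

section Flat

variable {R : Type u} [CommRing R]

/-- A finite projective faithful module is faithfully flat. -/
theorem faithfullyFlat (A : Type v) [AddCommGroup A] [Module R A] [Module.Finite R A]
    [Module.Projective R A] [FaithfulSMul R A] : Module.FaithfullyFlat R A where
  submodule_ne_top m hm htop := by
    obtain ⟨r, hr, hr0⟩ := Submodule.exists_sub_one_mem_and_smul_eq_zero_of_fg_of_le_smul m
      (⊤ : Submodule R A) Module.Finite.fg_top htop.ge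
    have hrz : r = 0 := FaithfulSMul.eq_of_smul_eq_smul (α := A) fun a => by
      rw [hr0 a Submodule.mem_top, zero_smul]
    subst hrz
    rw [zero_sub, neg_mem_iff] at hr
    exact hm.ne_top ((Ideal.eq_top_iff_one m).mpr hr)

/-- `x ↦ x ⊗ 1` is injective when the algebra is finite projective and faithful. -/
theorem tmul_one_injective (A : Type v) [Ring A] [Algebra R A] [Module.Finite R A]
    [Module.Projective R A] [FaithfulSMul R A] (M : Type w) [AddCommGroup M] [Module R M] :
    Function.Injective fun m : M => m ⊗ₜ[R] (1 : A) := by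
  haveI := faithfullyFlat (R := R) A
  let f : M →ₗ[R] M ⊗[R] A := (TensorProduct.mk R M A).flip 1
  change Function.Injective f
  rw [← Module.FaithfullyFlat.lTensor_injective_iff_injective R A]
  let g : A ⊗[R] (M ⊗[R] A) →ₗ[R] A ⊗[R] M :=
    (LinearMap.mul' R A).rTensor M ∘ₗ ((TensorProduct.assoc R A A M).symm.toLinearMap ∘ₗ
      (TensorProduct.comm R M A).toLinearMap.lTensor A)
  have hgf : g ∘ₗ f.lTensor A = LinearMap.id := by
    ext a m
    simp [g, f]
  exact LinearMap.injective_of_comp_eq_id _ _ hgf

end Flat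

section HomBC

variable {R : Type u} [CommRing R] (S : Type v) [CommRing S] [Algebra R S]

/-- The comparison map `S ⊗ Hom_R(M,N) → Hom_S(S ⊗ M, S ⊗ N)`. -/
noncomputable def homBC (M : Type*) [AddCommGroup M] [Module R M] (N : Type*) [AddCommGroup N]
    [Module R N] : S ⊗[R] (M →ₗ[R] N) →ₗ[S] (S ⊗[R] M →ₗ[S] S ⊗[R] N) :=
  LinearMap.liftBaseChange S (LinearMap.baseChangeHom R S M N)

theorem homBC_tmul {M : Type*} [AddCommGroup M] [Module R M] {N : Type*} [AddCommGroup N]
    [Module R N] (s : S) (f : M →ₗ[R] N) : homBC S M N (s ⊗ₜ f) = s • f.baseChange S := by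
  simp [homBC]

theorem homBC_lcomp {P : Type*} [AddCommGroup P] [Module R P] {Q : Type*} [AddCommGroup Q]
    [Module R Q] (N : Type*) [AddCommGroup N] [Module R N] (h : P →ₗ[R] Q)
    (x : S ⊗[R] (Q →ₗ[R] N)) :
    homBC S P N ((h.lcomp R N).baseChange S x) = (homBC S Q N x).comp (h.baseChange S) := by
  induction x using TensorProduct.induction_on with
  | zero => simp
  | tmul s φ =>
    rw [LinearMap.baseChange_tmul, homBC_tmul, homBC_tmul]
    apply TensorProduct.AlgebraTensorModule.curry_injective
    ext p
    simp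
  | add x y hx hy => simp_all [LinearMap.add_comp]

theorem homBC_bijective (M : Type*) [AddCommGroup M] [Module R M] [Module.Finite R M]
    [Module.Projective R M] (N : Type*) [AddCommGroup N] [Module R N] :
    Function.Bijective (homBC (R := R) S M N) := by
  obtain ⟨n, f, g, -, -, hfg⟩ := Module.Finite.exists_comp_eq_id_of_projective R M
  have hfree : Function.Bijective (homBC (R := R) S (Fin n → R) N) := by
    have h := Module.isBaseChange_map_of_finite_free (R := R) N S (Fin n)
    rw [show ⇑(homBC (R := R) S (Fin n → R) N) = ⇑h.equiv from funext fun x => by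
      induction x using TensorProduct.induction_on with
      | zero => simp
      | tmul s φ => simp [homBC, h.equiv_tmul]
      | add x y hx hy => simp_all]
    exact h.equiv.bijective
  have hbc : (f.baseChange S).comp (g.baseChange S) = LinearMap.id := by
    rw [← LinearMap.baseChange_comp, hfg, LinearMap.baseChange_id]
  constructor
  · intro x y hxy
    have e : ((f.lcomp R N).baseChange S) x = ((f.lcomp R N).baseChange S) y := by
      apply hfree.1
      rw [homBC_lcomp S N f x, homBC_lcomp S N f y, hxy]
    have hid : (g.lcomp R N).comp (f.lcomp R N) = LinearMap.id := by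
      ext φ m
      simp [show f (g m) = m from LinearMap.congr_fun hfg m]
    have := congrArg ((g.lcomp R N).baseChange S) e
    simpa [← LinearMap.comp_apply, ← LinearMap.baseChange_comp, hid] using this
  · intro φ
    obtain ⟨x, hx⟩ := hfree.2 (φ.comp (f.baseChange S))
    refine ⟨(g.lcomp R N).baseChange S x, ?_⟩
    rw [homBC_lcomp S N g x, hx, LinearMap.comp_assoc, hbc, LinearMap.comp_id]

end HomBC

section Azumaya

open MulOpposite

variable (R : Type u) [CommRing R]

variable (S : Type v) [CommRing S] [Algebra R S] (A : Type w) [Ring A] [Algebra R A]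

/-- `S ⊗ (A ⊗ Aᵐᵒᵖ)` is `(S ⊗ A) ⊗_S (S ⊗ A)ᵐᵒᵖ`. -/
noncomputable def bcEquiv :
    S ⊗[R] (A ⊗[R] Aᵐᵒᵖ) ≃ₗ[S] (S ⊗[R] A) ⊗[S] (S ⊗[R] A)ᵐᵒᵖ :=
  TensorProduct.AlgebraTensorModule.distribBaseChange R S A Aᵐᵒᵖ ≪≫ₗ
    TensorProduct.congr (LinearEquiv.refl S _)
      (TensorProduct.AlgebraTensorModule.congr (LinearEquiv.refl S S) (opLinearEquiv R).symm ≪≫ₗ
        opLinearEquiv S)

theorem mulLeftRight_bcEquiv (x : S ⊗[R] (A ⊗[R] Aᵐᵒᵖ)) :
    AlgHom.mulLeftRight S (S ⊗[R] A) (bcEquiv R S A x) =
      homBC S A A ((AlgHom.mulLeftRight R A).toLinearMap.baseChange S x) := by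
  induction x using TensorProduct.induction_on with
  | zero => simp
  | add x y hx hy => simp_all
  | tmul s x =>
    induction x using TensorProduct.induction_on with
    | zero => simp
    | add x y hx hy => simp_all [tmul_add]
    | tmul a b =>
      rw [LinearMap.baseChange_tmul, homBC_tmul]
      apply TensorProduct.AlgebraTensorModule.curry_injective
      ext y
      simp [bcEquiv, TensorProduct.smul_tmul']

theorem isAzumaya_baseChange [IsAzumaya R A] : IsAzumaya S (S ⊗[R] A) := by
  haveI : FaithfulSMul S (S ⊗[R] A) := by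
    refine ⟨fun {s t} h => ?_⟩
    have := h (1 ⊗ₜ[R] (1 : A))
    rw [TensorProduct.smul_tmul', TensorProduct.smul_tmul', smul_eq_mul, smul_eq_mul, mul_one,
      mul_one] at this
    exact tmul_one_injective (R := R) A S this
  refine { bij := ?_ }
  refine (Function.Bijective.of_comp_iff _ (bcEquiv R S A).bijective).1 ?_
  rw [show ⇑(AlgHom.mulLeftRight S (S ⊗[R] A)) ∘ ⇑(bcEquiv R S A) =
      ⇑(homBC S A A) ∘ ⇑((AlgHom.mulLeftRight R A).toLinearMap.baseChange S) from
    funext (mulLeftRight_bcEquiv R S A)]
  exact (homBC_bijective S A A).comp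
    (((LinearEquiv.ofBijective (AlgHom.mulLeftRight R A).toLinearMap
      IsAzumaya.bij).baseChange R S).bijective)

end Azumaya

section Azumaya2

open MulOpposite

variable (R : Type u) [CommRing R]

/-- A linear map, read between the opposite rings. -/
noncomputable def opMap {X : Type*} {Y : Type*} [Ring X] [Ring Y] [Algebra R X] [Algebra R Y]
    (f : X →ₗ[R] Y) : Xᵐᵒᵖ →ₗ[R] Yᵐᵒᵖ :=
  (opLinearEquiv R).toLinearMap ∘ₗ f ∘ₗ (opLinearEquiv R).symm.toLinearMap

/-- Corner algebras inherit bijectivity of `mulLeftRight`. -/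
theorem mulLeftRight_bijective_of_corner {B E : Type*} [Ring B] [Algebra R B] [Ring E]
    [Algebra R E] (ι : E →ₗ[R] B) (π : B →ₗ[R] E) (hπι : ∀ x, π (ι x) = x)
    (hmul : ∀ x y, ι (x * y) = ι x * ι y) (hιπ : ∀ m, ι (π m) = ι 1 * m * ι 1)
    (hB : Function.Bijective (AlgHom.mulLeftRight R B)) :
    Function.Bijective (AlgHom.mulLeftRight R E) := by
  have hl : ∀ x, ι 1 * ι x = ι x := fun x => by rw [← hmul, one_mul]
  have hr : ∀ x, ι x * ι 1 = ι x := fun x => by rw [← hmul, mul_one]
  let I := TensorProduct.map ι (opMap R ι)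
  let P := TensorProduct.map π (opMap R π)
  have hPI : ∀ z, P (I z) = z := by
    intro z
    induction z using TensorProduct.induction_on with
    | zero => simp
    | tmul x y => simp [P, I, opMap, hπι]
    | add x y hx hy => simp_all
  have h1 : ∀ z m, AlgHom.mulLeftRight R B (I z) m =
      ι (AlgHom.mulLeftRight R E z (π m)) := by
    intro z m
    induction z using TensorProduct.induction_on with
    | zero => simp
    | add x y hx hy => simp_all
    | tmul x y =>
      simp only [I, TensorProduct.map_tmul, AlgHom.mulLeftRight_apply, hmul, hιπ]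
      simp only [opMap, LinearMap.comp_apply, LinearEquiv.coe_coe, coe_opLinearEquiv_symm,
        coe_opLinearEquiv, unop_op]
      simp only [← mul_assoc, hr]
      simp only [mul_assoc, hl]
  have h2 : ∀ w x, ι (AlgHom.mulLeftRight R E (P w) x) =
      ι 1 * AlgHom.mulLeftRight R B w (ι x) * ι 1 := by
    intro w x
    induction w using TensorProduct.induction_on with
    | zero => simp
    | add x y hx hy => simp_all [add_mul, mul_add]
    | tmul a b =>
      simp only [P, TensorProduct.map_tmul, AlgHom.mulLeftRight_apply, hmul]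
      simp only [opMap, LinearMap.comp_apply, LinearEquiv.coe_coe, coe_opLinearEquiv_symm,
        coe_opLinearEquiv, unop_op, hιπ]
      simp only [← mul_assoc]
      simp only [mul_assoc _ (ι 1) (ι x), hl, mul_assoc _ (ι x) (ι 1), hr]
  constructor
  · intro z z' h
    have : I z = I z' := hB.1 (LinearMap.ext fun m => by rw [h1, h1, h])
    rw [← hPI z, this, hPI]
  · intro φ
    obtain ⟨w, hw⟩ := hB.2 (ι ∘ₗ φ ∘ₗ π)
    refine ⟨P w, LinearMap.ext fun x => ?_⟩
    apply Function.LeftInverse.injective hπι
    rw [h2, hw, LinearMap.comp_apply, LinearMap.comp_apply, hπι, hl, hr]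

theorem isAzumaya_end (P : Type v) [AddCommGroup P] [Module R P] [Module.Finite R P]
    [Module.Projective R P] [FaithfulSMul R P] : IsAzumaya R (Module.End R P) := by
  classical
  obtain ⟨n, f, g, -, -, hfg⟩ := Module.Finite.exists_comp_eq_id_of_projective R P
  have hfg' : ∀ x, f (g x) = x := fun x => LinearMap.congr_fun hfg x
  have hM : Function.Bijective (AlgHom.mulLeftRight R (Module.End R (Fin n → R))) := by
    let e : Matrix (Fin n) (Fin n) R ≃ₐ[R] Module.End R (Fin n → R) := Matrix.toLinAlgEquiv'
    refine (Function.Bijective.of_comp_iff (AlgHom.mulLeftRight R (Module.End R (Fin n → R)))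
      (Algebra.TensorProduct.congr e e.op).bijective).1 ?_
    rw [← AlgEquiv.coe_toAlgHom, ← AlgHom.coe_comp, IsAzumaya.mulLeftRight_comp_congr]
    simp only [AlgHom.coe_comp, AlgEquiv.coe_toAlgHom]
    exact (e.toLinearEquiv.conjAlgEquiv R).bijective.comp
      (Function.bijective_iff_has_inverse.mpr
        ⟨AlgHom.mulLeftRightMatrix_inv R (Fin n),
        DFunLike.congr_fun (AlgHom.mulLeftRightMatrix.inv_comp R (Fin n)),
        DFunLike.congr_fun (AlgHom.mulLeftRightMatrix.comp_inv R (Fin n))⟩)
  let π : Module.End R (Fin n → R) →ₗ[R] Module.End R P :=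
    { toFun := fun h => f ∘ₗ h ∘ₗ g
      map_add' := fun a b => by ext; simp
      map_smul' := fun r a => by ext; simp }
  let ι : Module.End R P →ₗ[R] Module.End R (Fin n → R) :=
    { toFun := fun h => g ∘ₗ h ∘ₗ f
      map_add' := fun a b => LinearMap.ext fun v => by simp
      map_smul' := fun r a => LinearMap.ext fun v => by simp }
  have hπι : ∀ x, π (ι x) = x := fun x => by ext v; simp [π, ι, hfg']
  haveI : Module.Projective R (Module.End R P) :=
    Module.Projective.of_split ι π (LinearMap.ext hπι)
  haveI : Module.Finite R (Module.End R P) :=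
    Module.Finite.of_surjective π (Function.LeftInverse.surjective hπι)
  haveI : FaithfulSMul R (Module.End R P) :=
    ⟨fun h => FaithfulSMul.eq_of_smul_eq_smul (α := P) fun p => by
      simpa using LinearMap.congr_fun (h 1) p⟩
  exact ⟨mulLeftRight_bijective_of_corner R ι π hπι
    (fun x y => LinearMap.ext fun v => by simp [ι, hfg'])
    (fun m => LinearMap.ext fun v => by simp [ι, π]) hM⟩

theorem isAzumaya_tensor (A : Type v) [Ring A] [Algebra R A] [IsAzumaya R A]
    (B : Type w) [Ring B] [Algebra R B] [IsAzumaya R B] : IsAzumaya R (A ⊗[R] B) := by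
  haveI : FaithfulSMul R (A ⊗[R] B) := by
    refine ⟨fun {r s} h => ?_⟩
    have h1 := h (1 ⊗ₜ[R] (1 : B))
    rw [TensorProduct.smul_tmul', TensorProduct.smul_tmul'] at h1
    have h2 := tmul_one_injective (R := R) B A h1
    exact FaithfulSMul.algebraMap_injective R A (by simpa [Algebra.algebraMap_eq_smul_one] using h2)
  refine { bij := ?_ }
  let ρ : (A ⊗[R] Aᵐᵒᵖ) ⊗[R] (B ⊗[R] Bᵐᵒᵖ) ≃ₗ[R] (A ⊗[R] B) ⊗[R] (A ⊗[R] B)ᵐᵒᵖ :=
    TensorProduct.tensorTensorTensorComm R A Aᵐᵒᵖ B Bᵐᵒᵖ ≪≫ₗ
      TensorProduct.congr (LinearEquiv.refl R _)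
        (Algebra.TensorProduct.opAlgEquiv R R A B).toLinearEquiv
  refine (Function.Bijective.of_comp_iff _ ρ.bijective).1 ?_
  let eA := LinearEquiv.ofBijective (AlgHom.mulLeftRight R A).toLinearMap IsAzumaya.bij
  let eB := LinearEquiv.ofBijective (AlgHom.mulLeftRight R B).toLinearMap IsAzumaya.bij
  convert (TensorProduct.congr eA eB ≪≫ₗ homTensorHomEquiv R A B A B).bijective using 1
  have : (AlgHom.mulLeftRight R (A ⊗[R] B)).toLinearMap ∘ₗ ρ.toLinearMap =
      (TensorProduct.congr eA eB ≪≫ₗ homTensorHomEquiv R A B A B).toLinearMap := by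
    ext a a' b b' x y
    simp [ρ, eA, eB]
  exact congrArg DFunLike.coe this

/-- An idempotent of a finite projective algebra over a connected base which dies in some
nonzero base change is zero. -/
theorem idempotent_eq_zero [ConnectedSpace (PrimeSpectrum R)] {A : Type v} [Ring A] [Algebra R A]
    [Module.Finite R A] [Module.Projective R A] (e : A) (he : IsIdempotentElem e)
    (R' : Type w) [CommRing R'] [Nontrivial R'] [Algebra R R']
    (h : (1 : R') ⊗ₜ[R] e = (0 : R' ⊗[R] A)) : e = 0 := by
  let P : Submodule R A := LinearMap.range (LinearMap.mulLeft R e)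
  let π : A →ₗ[R] P := (LinearMap.mulLeft R e).rangeRestrict
  have hπ : π ∘ₗ P.subtype = LinearMap.id := by
    ext ⟨x, a, rfl⟩
    simp [π, ← mul_assoc, he.eq]
  haveI : Module.Projective R P := Module.Projective.of_split P.subtype π hπ
  haveI : Module.Finite R P :=
    Module.Finite.of_surjective π (LinearMap.surjective_rangeRestrict _)
  haveI : Subsingleton (R' ⊗[R] P) := by
    refine subsingleton_of_forall_eq 0 fun z => ?_
    have hinj : Function.Injective (P.subtype.baseChange R') :=
      LinearMap.injective_of_comp_eq_id _ (π.baseChange R')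
        (by rw [← LinearMap.baseChange_comp, hπ, LinearMap.baseChange_id])
    apply hinj
    rw [map_zero]
    induction z using TensorProduct.induction_on with
    | zero => simp
    | add x y hx hy => simp [map_add, hx, hy]
    | tmul r x =>
      obtain ⟨x, a, rfl⟩ := x
      have h2 : r ⊗ₜ[R] (e * a) = ((1 : R') ⊗ₜ[R] e) * (r ⊗ₜ[R] a) := by simp
      simp only [LinearMap.baseChange_tmul, Submodule.coe_subtype, LinearMap.mulLeft_apply]
      rw [h2, h, zero_mul]
  obtain ⟨q⟩ : Nonempty (PrimeSpectrum R') := inferInstance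
  haveI : Subsingleton P := by
    rw [← Module.rankAtStalk_eq_zero_iff_subsingleton (R := R)]
    ext p
    have hq := congrFun (Module.rankAtStalk_eq_zero_of_subsingleton (R := R') (M := R' ⊗[R] P)) q
    rw [Module.rankAtStalk_baseChange] at hq
    haveI : Module.FinitePresentation R P := Module.finitePresentation_of_projective R P
    rw [Module.isLocallyConstant_rankAtStalk.apply_eq_of_preconnectedSpace p
      (PrimeSpectrum.comap (algebraMap R R') q), hq]
    simp
  have : (⟨e, ⟨1, by simp⟩⟩ : P) = 0 := Subsingleton.elim _ _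
  simpa using congrArg Subtype.val this

end Azumaya2

end Groth.Agent.AzumayaX
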