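import Groth.Agent.AzumayaX.SplitNear
import Mathlib.RingTheory.Flat.FaithfullyFlat.Algebra
import Mathlib.LinearAlgebra.DFinsupp

/-!
A faithfully flat splitting of an Azumaya algebra of constant rank.
-/

universe u v w

set_option linter.style.haveILetI false

namespace Groth.Agent.AzumayaX

open Polynomial TensorProduct

variable {R : Type u} [CommRing R] {A : Type u} [Ring A] [Algebra R A] [IsAzumaya R A] {n : ℕ}

/-- The fibre dimension over any field is the rank at the corresponding prime. -/
theorem finrank_fibre (hA : ∀ p : PrimeSpectrum R, Module.rankAtStalk (R := R) A p = n ^ 2)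
    (K : Type u) [Field K] [Algebra R K] : Module.finrank K (K ⊗[R] A) = n ^ 2 := by
  have h := Module.rankAtStalk_baseChange (R := R) (M := A) (S := K) ⟨⊥, Ideal.bot_prime⟩
  rw [Module.rankAtStalk_eq_finrank_of_free, hA] at h
  simpa using h

/-- A hom from a base change of an Azumaya algebra to matrices of the same rank is bijective. -/
theorem algHom_matrix_bijective' (hA : ∀ p : PrimeSpectrum R, Module.rankAtStalk (R := R) A p = n ^ 2)
    (hn : 0 < n) (E : Type u) [CommRing E] [Algebra R E]
    (Φ : E ⊗[R] A →ₐ[E] Matrix (Fin n) (Fin n) E) : Function.Bijective Φ := by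
  refine bijective_of_fibres Φ.toLinearMap fun m _ => ?_
  let K := m.ResidueField
  haveI := isAzumaya_baseChange R E A
  haveI : Nontrivial E := (algebraMap E K).domain_nontrivial
  obtain ⟨-, hsimple⟩ := fibre_of_isAzumaya (R := E) (E ⊗[R] A) K
  haveI : Nonempty (Fin n) := ⟨⟨0, hn⟩⟩
  haveI : Nontrivial (K ⊗[E] Matrix (Fin n) (Fin n) E) :=
    Module.nontrivial_of_finrank_pos (R := K) (by
      rw [Module.finrank_baseChange, Module.finrank_matrix, Module.finrank_self, Fintype.card_fin,
        mul_one]
      exact Nat.mul_pos hn hn)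
  let ΦK : K ⊗[E] (E ⊗[R] A) →ₐ[K] K ⊗[E] Matrix (Fin n) (Fin n) E :=
    Algebra.TensorProduct.map (AlgHom.id K K) Φ
  have hinj : Function.Injective ΦK := ΦK.toRingHom.injective
  have hbij : Function.Bijective ΦK.toLinearMap := by
    refine ⟨hinj, (LinearMap.injective_iff_surjective_of_finrank_eq_finrank ?_).1 hinj⟩
    rw [(cancelAlg (R := R) E K A).toLinearEquiv.finrank_eq, finrank_fibre hA K, Module.finrank_baseChange,
      Module.finrank_matrix, Module.finrank_self, Fintype.card_fin, mul_one, sq]
  have heq : ∀ x, Φ.toLinearMap.baseChange K x = ΦK x := fun x => by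
    induction x using TensorProduct.induction_on with
    | zero => simp
    | add x y hx hy => rw [map_add, map_add, hx, hy]
    | tmul c y => rfl
  rw [show (⇑(Φ.toLinearMap.baseChange K) : _ → _) = ⇑ΦK.toLinearMap from funext heq]
  exact hbij

variable (R A) in
/-- An Azumaya algebra of constant rank is split by a faithfully flat algebra. -/
theorem exists_cover (hA : ∀ p : PrimeSpectrum R, Module.rankAtStalk (R := R) A p = n ^ 2) (hn : 0 < n) :
    ∃ (T : Type u) (_ : CommRing T) (_ : Algebra R T), Module.FaithfullyFlat R T ∧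
      Nonempty ((T ⊗[R] A) ≃ₐ[T] Matrix (Fin n) (Fin n) T) := by
  classical
  choose f hf r hr P hPm hPdeg hPsep e using fun p : PrimeSpectrum R => exists_split_near R A p.asIdeal
  have hspan : Ideal.span (Set.range f) = ⊤ := by
    by_contra hc
    obtain ⟨m, hm, hle⟩ := Ideal.exists_le_maximal _ hc
    exact hf ⟨m, hm.isPrime⟩ (hle (Ideal.subset_span ⟨_, rfl⟩))
  obtain ⟨s, hs⟩ : ∃ s : Finset (PrimeSpectrum R), ∀ q : PrimeSpectrum R, ∃ p ∈ s, f p ∉ q.asIdeal := by
    rw [Ideal.eq_top_iff_one, Finsupp.mem_ideal_span_range_iff_exists_finsupp] at hspan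
    obtain ⟨c, hc⟩ := hspan
    refine ⟨c.support, fun q => ?_⟩
    by_contra hcon
    push Not at hcon
    refine q.isPrime.ne_top ((Ideal.eq_top_iff_one _).2 (hc ▸ ?_))
    exact Ideal.sum_mem _ fun p hp => Ideal.mul_mem_left _ _ (hcon p hp)
  haveI : ∀ p, Module.Free (Localization.Away (f p)) (AdjoinRoot (P p)) := fun p => (hPm p).free_adjoinRoot
  haveI : ∀ p, Module.Finite (Localization.Away (f p)) (AdjoinRoot (P p)) := fun p => (hPm p).finite_adjoinRoot
  haveI hnt : ∀ p, Nontrivial (AdjoinRoot (P p)) := fun p => by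
    have hκ : IsUnit (algebraMap R p.asIdeal.ResidueField (f p)) :=
      isUnit_iff_ne_zero.2 fun h => hf p (Ideal.algebraMap_residueField_eq_zero.1 h)
    haveI : Nontrivial (Localization.Away (f p)) :=
      (IsLocalization.Away.lift (S := Localization.Away (f p)) (f p) hκ).domain_nontrivial
    refine Module.nontrivial_of_finrank_pos (R := Localization.Away (f p)) ?_
    rw [(AdjoinRoot.powerBasis' (hPm p)).finrank, AdjoinRoot.powerBasis'_dim, hPdeg p]
    exact hr p
  let eR : ∀ p, (AdjoinRoot (P p) ⊗[R] A) ≃ₐ[AdjoinRoot (P p)]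
      Matrix (Fin (r p)) (Fin (r p)) (AdjoinRoot (P p)) := fun p =>
    (cancelAlg (R := R) (Localization.Away (f p)) (AdjoinRoot (P p)) A).symm.trans (e p).some
  have hrn : ∀ p, r p = n := fun p => by
    obtain ⟨m, hm⟩ := Ideal.exists_maximal (AdjoinRoot (P p))
    have h := Module.rankAtStalk_baseChange (R := R) (M := A) (S := AdjoinRoot (P p)) ⟨m, hm.isPrime⟩
    rw [Module.rankAtStalk_eq_of_equiv (eR p).toLinearEquiv, Module.rankAtStalk_eq_finrank_of_free, hA] at h
    have h' : r p ^ 2 = n ^ 2 := by
      simpa [Module.finrank_matrix, sq] using h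
    exact Nat.pow_left_injective two_ne_zero h'
  let T := ∀ p : s, AdjoinRoot (P p)
  let g : ∀ p : s, A →ₐ[R] Matrix (Fin n) (Fin n) (AdjoinRoot (P p)) := fun p =>
    ((((eR p).trans (Matrix.reindexAlgEquiv _ _ (finCongr (hrn p)))).toAlgHom.restrictScalars R).comp
      Algebra.TensorProduct.includeRight)
  let G : A →ₐ[R] Matrix (Fin n) (Fin n) T :=
    { toFun := fun a => Matrix.of fun i j p => g p a i j
      map_one' := by
        ext i j p
        show g p 1 i j = _
        rw [map_one]
        by_cases h : i = j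
        · subst h; simp; rfl
        · simp [Matrix.one_apply_ne h]; rfl
      map_mul' := fun a b => by
        ext i j p
        show g p (a * b) i j = _
        rw [map_mul]
        simp only [Matrix.mul_apply]
        exact (Finset.sum_apply p Finset.univ fun x q => g q a i x * g q b x j).symm
      map_zero' := by ext i j p; simp; rfl
      map_add' := fun a b => by ext i j p; simp; rfl
      commutes' := fun c => by
        ext i j p
        show g p (algebraMap R A c) i j = _
        rw [AlgHom.commutes]
        by_cases h : i = j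
        · subst h; simp [Matrix.algebraMap_matrix_apply]; rfl
        · simp [Matrix.algebraMap_matrix_apply, h]; rfl }
  let Φ : T ⊗[R] A →ₐ[T] Matrix (Fin n) (Fin n) T :=
    Algebra.TensorProduct.lift (Algebra.ofId T _) G fun t _ => Algebra.commutes t _
  haveI : ∀ p : s, Module.Flat R (AdjoinRoot (P p)) := fun p =>
    haveI : Module.Flat R (Localization.Away (f p)) :=
      IsLocalization.flat (Localization.Away (f p)) (Submonoid.powers (f p))
    Module.Flat.trans R (Localization.Away (f p)) (AdjoinRoot (P p))
  haveI : Module.Flat R T := Module.Flat.of_linearEquiv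
    (DFinsupp.linearEquivFunOnFintype (R := R) (M := fun p : s => AdjoinRoot (P p))).symm
  refine ⟨T, inferInstance, inferInstance, Module.FaithfullyFlat.of_comap_surjective fun q => ?_,
    ⟨AlgEquiv.ofBijective Φ (algHom_matrix_bijective' hA hn T Φ)⟩⟩
  obtain ⟨p, hp, hpq⟩ := hs q
  obtain ⟨q₁, hq₁⟩ : q ∈ Set.range (PrimeSpectrum.comap (algebraMap R (Localization.Away (f p)))) := by
    rw [PrimeSpectrum.localization_away_comap_range (Localization.Away (f p)) (f p)]
    exact hpq
  haveI : Module.FaithfullyFlat (Localization.Away (f p)) (AdjoinRoot (P p)) := by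
    haveI : Nontrivial (Localization.Away (f p)) := (algebraMap _ (AdjoinRoot (P p))).domain_nontrivial
    infer_instance
  obtain ⟨q₂, hq₂⟩ := PrimeSpectrum.comap_surjective_of_faithfullyFlat (B := AdjoinRoot (P p)) q₁
  refine ⟨PrimeSpectrum.comap (Pi.evalRingHom (fun p : s => AdjoinRoot (P p)) ⟨p, hp⟩) q₂, ?_⟩
  rw [← PrimeSpectrum.comap_comp_apply,
    show (Pi.evalRingHom (fun p : s => AdjoinRoot (P p)) ⟨p, hp⟩).comp (algebraMap R T) =
      (algebraMap (Localization.Away (f p)) (AdjoinRoot (P p))).comp
        (algebraMap R (Localization.Away (f p))) by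
      ext c; exact IsScalarTower.algebraMap_apply R (Localization.Away (f p)) (AdjoinRoot (P p)) c,
    PrimeSpectrum.comap_comp_apply, hq₂, hq₁]

end Groth.Agent.AzumayaX
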