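import Groth.Agent.AzumayaX.Basic
import Mathlib.RingTheory.Finiteness.Descent
import Mathlib.RingTheory.Flat.EquationalCriterion
import Mathlib.RingTheory.LocalRing.Module

/-!
Descent of the Azumaya property along faithfully flat and `Spec`-surjective ring maps.
-/

universe u v w

namespace Groth.Agent.AzumayaX

open TensorProduct

section Modules

variable {R : Type u} [CommRing R] (S : Type v) [CommRing S] [Algebra R S]

/-- Finite projectivity descends along faithfully flat maps. -/
theorem projective_descent (M : Type w) [AddCommGroup M] [Module R M] [Module.FaithfullyFlat R S]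
    [Module.Finite R M] [Module.Projective S (S ⊗[R] M)] : Module.Projective R M := by
  obtain ⟨n, π, hπ⟩ := Module.Finite.exists_fin' R M
  have hex : Function.Exact ((LinearMap.ker π).subtype.baseChange S) (π.baseChange S) :=
    lTensor_exact S (LinearMap.exact_subtype_ker_map π) hπ
  have hsurj : Function.Surjective (π.baseChange S) := LinearMap.lTensor_surjective S hπ
  have hinj : Function.Injective ((LinearMap.ker π).subtype.baseChange S) :=
    Module.Flat.lTensor_preserves_injective_linearMap _ Subtype.val_injective
  obtain ⟨σ, hσ⟩ := Module.projective_lifting_property (π.baseChange S) LinearMap.id hsurj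
  let pr : S ⊗[R] (Fin n → R) →ₗ[S] LinearMap.ker (π.baseChange S) :=
    LinearMap.codRestrict _ (LinearMap.id - σ ∘ₗ π.baseChange S) fun x => by
      have := LinearMap.congr_fun hσ (π.baseChange S x)
      simp only [LinearMap.coe_comp, Function.comp_apply, LinearMap.id_coe, id_eq] at this
      simp [LinearMap.mem_ker, this]
  have hpr : Function.Surjective pr := fun y => ⟨y, Subtype.ext (by
    simp [pr, LinearMap.mem_ker.mp y.2])⟩
  haveI : Module.Finite S (LinearMap.ker (π.baseChange S)) := Module.Finite.of_surjective pr hpr
  haveI : Module.Finite S (S ⊗[R] LinearMap.ker π) :=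
    Module.Finite.equiv ((LinearEquiv.ofInjective _ hinj).trans
      (LinearEquiv.ofEq _ _ (LinearMap.exact_iff.mp hex).symm)).symm
  haveI : Module.Finite R (LinearMap.ker π) :=
    Module.Finite.of_finite_tensorProduct_of_faithfullyFlat S
  haveI : Module.FinitePresentation R M :=
    Module.finitePresentation_of_surjective π hπ (Module.Finite.iff_fg.mp inferInstance)
  haveI : Module.Flat R M := Module.Flat.of_flat_tensorProduct R M S
  exact Module.Flat.projective_of_finitePresentation

/-- A finite module dying along a `Spec`-surjective map is zero. -/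
theorem subsingleton_of_baseChange (hS : Function.Surjective (PrimeSpectrum.comap (algebraMap R S)))
    (C : Type w) [AddCommGroup C] [Module R C] [Module.Finite R C] [Subsingleton (S ⊗[R] C)] :
    Subsingleton C := by
  rw [← Module.support_eq_empty_iff (R := R), Set.eq_empty_iff_forall_notMem]
  intro p hp
  obtain ⟨q, hq⟩ := hS p
  rw [Module.mem_support_iff_nontrivial_residueField_tensorProduct] at hp
  letI : Algebra p.asIdeal.ResidueField q.asIdeal.ResidueField :=
    (Ideal.ResidueField.map p.asIdeal q.asIdeal (algebraMap R S)
      (by rw [← hq]; rfl)).toAlgebra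
  haveI : IsScalarTower R p.asIdeal.ResidueField q.asIdeal.ResidueField :=
    IsScalarTower.of_algebraMap_eq fun r => by
      rw [RingHom.algebraMap_toAlgebra, Ideal.ResidueField.map_algebraMap,
        ← IsScalarTower.algebraMap_apply R S q.asIdeal.ResidueField]
  let e₁ := TensorProduct.AlgebraTensorModule.cancelBaseChange R p.asIdeal.ResidueField
    q.asIdeal.ResidueField q.asIdeal.ResidueField C
  let e₂ := TensorProduct.AlgebraTensorModule.cancelBaseChange R S
    q.asIdeal.ResidueField q.asIdeal.ResidueField C
  have h2 : Subsingleton (q.asIdeal.ResidueField ⊗[R] C) := e₂.symm.toEquiv.subsingleton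
  have h3 : Subsingleton (q.asIdeal.ResidueField ⊗[p.asIdeal.ResidueField]
      (p.asIdeal.ResidueField ⊗[R] C)) := e₁.toEquiv.subsingleton
  haveI : Nontrivial (p.asIdeal.ResidueField ⊗[R] C) := hp
  have := (Module.FaithfullyFlat.subsingleton_tensorProduct_iff_right p.asIdeal.ResidueField
    q.asIdeal.ResidueField (N := p.asIdeal.ResidueField ⊗[R] C)).mp h3
  exact not_subsingleton _ this

/-- A map of finite projective modules is bijective if it is so after a `Spec`-surjective base
change. -/
theorem bijective_of_baseChange (hS : Function.Surjective (PrimeSpectrum.comap (algebraMap R S)))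
    {M N : Type w} [AddCommGroup M] [Module R M] [Module.Finite R M]
    [AddCommGroup N] [Module R N] [Module.Finite R N] [Module.Projective R N]
    (f : M →ₗ[R] N) (h : Function.Bijective (f.baseChange S)) : Function.Bijective f := by
  have hsurj : Function.Surjective f := by
    rw [← LinearMap.range_eq_top, ← Submodule.Quotient.subsingleton_iff]
    haveI : Subsingleton (S ⊗[R] (N ⧸ LinearMap.range f)) := by
      refine subsingleton_of_forall_eq 0 fun x => ?_
      obtain ⟨y, rfl⟩ := LinearMap.lTensor_surjective S
        (LinearMap.range f).mkQ_surjective x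
      obtain ⟨z, rfl⟩ := h.2 y
      rw [show (f.baseChange S) z = f.lTensor S z from rfl, ← LinearMap.lTensor_comp_apply,
        LinearMap.range_mkQ_comp]
      simp
    exact subsingleton_of_baseChange S hS _
  refine ⟨?_, hsurj⟩
  obtain ⟨σ, hσ⟩ := Module.projective_lifting_property f LinearMap.id hsurj
  let pr : M →ₗ[R] LinearMap.ker f :=
    LinearMap.codRestrict _ (LinearMap.id - σ ∘ₗ f) fun x => by
      have := LinearMap.congr_fun hσ (f x)
      simp only [LinearMap.coe_comp, Function.comp_apply, LinearMap.id_coe, id_eq] at this
      simp [LinearMap.mem_ker, this]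
  have hpr : pr ∘ₗ (LinearMap.ker f).subtype = LinearMap.id := LinearMap.ext fun y => Subtype.ext
    (by simp [pr])
  haveI : Module.Finite R (LinearMap.ker f) :=
    Module.Finite.of_surjective pr fun y => ⟨y, LinearMap.congr_fun hpr y⟩
  haveI : Subsingleton (S ⊗[R] LinearMap.ker f) := by
    refine subsingleton_of_forall_eq 0 fun x => ?_
    apply LinearMap.injective_of_comp_eq_id ((LinearMap.ker f).subtype.baseChange S)
      (pr.baseChange S) (by rw [← LinearMap.baseChange_comp, hpr, LinearMap.baseChange_id])
    apply h.1
    rw [map_zero, map_zero, ← LinearMap.comp_apply, ← LinearMap.baseChange_comp,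
      LinearMap.comp_ker_subtype, LinearMap.baseChange_zero, LinearMap.zero_apply]
  haveI := subsingleton_of_baseChange S hS (LinearMap.ker f)
  rw [← LinearMap.ker_eq_bot]
  exact Submodule.eq_bot_of_subsingleton

end Modules

section Azumaya

theorem end_finite_projective (R : Type u) [CommRing R] (P : Type w) [AddCommGroup P] [Module R P]
    [Module.Finite R P] [Module.Projective R P] :
    Module.Finite R (Module.End R P) ∧ Module.Projective R (Module.End R P) := by
  obtain ⟨n, f, g, -, -, hfg⟩ := Module.Finite.exists_comp_eq_id_of_projective R P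
  have hfg' : ∀ x, f (g x) = x := fun x => LinearMap.congr_fun hfg x
  let π : Module.End R (Fin n → R) →ₗ[R] Module.End R P :=
    { toFun := fun h => f ∘ₗ h ∘ₗ g
      map_add' := fun a b => by ext; simp
      map_smul' := fun r a => by ext; simp }
  let ι : Module.End R P →ₗ[R] Module.End R (Fin n → R) :=
    { toFun := fun h => g ∘ₗ h ∘ₗ f
      map_add' := fun a b => LinearMap.ext fun v => by simp
      map_smul' := fun r a => LinearMap.ext fun v => by simp }
  have hπι : ∀ x, π (ι x) = x := fun x => by ext v; simp [π, ι, hfg']
  exact ⟨Module.Finite.of_surjective π (Function.LeftInverse.surjective hπι),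
    Module.Projective.of_split ι π (LinearMap.ext hπι)⟩

variable (R : Type u) [CommRing R] (S : Type v) [CommRing S] [Algebra R S]
  (B : Type w) [Ring B] [Algebra R B]

theorem bijective_baseChange_mulLeftRight [Module.Finite R B] [Module.Projective R B]
    [IsAzumaya S (S ⊗[R] B)] :
    Function.Bijective ((AlgHom.mulLeftRight R B).toLinearMap.baseChange S) := by
  refine (Function.Bijective.of_comp_iff' (homBC_bijective S B B) _).1 ?_
  rw [show ⇑(homBC S B B) ∘ ⇑((AlgHom.mulLeftRight R B).toLinearMap.baseChange S) =
      ⇑(AlgHom.mulLeftRight S (S ⊗[R] B)) ∘ ⇑(bcEquiv R S B) from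
    funext fun x => (mulLeftRight_bcEquiv R S B x).symm]
  exact (IsAzumaya.bij).comp (bcEquiv R S B).bijective

theorem isAzumaya_of_faithfullyFlat [Module.FaithfullyFlat R S] [IsAzumaya S (S ⊗[R] B)] :
    IsAzumaya R B := by
  haveI : Module.Finite R B := Module.Finite.of_finite_tensorProduct_of_faithfullyFlat S
  haveI : Module.Projective R B := projective_descent S B
  haveI : FaithfulSMul R B := by
    refine ⟨fun {r r'} h => FaithfulSMul.algebraMap_injective R S ?_⟩
    refine FaithfulSMul.eq_of_smul_eq_smul (α := S ⊗[R] B) fun x => ?_
    rw [algebraMap_smul, algebraMap_smul]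
    induction x using TensorProduct.induction_on with
    | zero => simp
    | tmul s b => rw [← TensorProduct.tmul_smul, ← TensorProduct.tmul_smul, h b]
    | add x y hx hy => rw [smul_add, smul_add, hx, hy]
  obtain ⟨_, _⟩ := end_finite_projective R B
  refine ⟨bijective_of_baseChange S
    (PrimeSpectrum.comap_surjective_of_faithfullyFlat) (AlgHom.mulLeftRight R B).toLinearMap ?_⟩
  exact bijective_baseChange_mulLeftRight R S B

theorem isAzumaya_of_surjective (hS : Function.Surjective (PrimeSpectrum.comap (algebraMap R S)))
    [Module.Finite R B] [Module.Projective R B] [IsAzumaya S (S ⊗[R] B)] : IsAzumaya R B := by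
  haveI : Module.FaithfullyFlat R B :=
    { submodule_ne_top := fun m hm htop => by
        haveI := faithfullyFlat (R := S) (S ⊗[R] B)
        obtain ⟨q, hq⟩ := hS ⟨m, hm.isPrime⟩
        obtain ⟨M, hM, hqM⟩ := Ideal.exists_le_maximal _ q.isPrime.ne_top
        apply Module.FaithfullyFlat.submodule_ne_top (R := S) (M := S ⊗[R] B) hM
        refine eq_top_iff.mpr fun x _ => ?_
        induction x using TensorProduct.induction_on with
        | zero => exact zero_mem _
        | add x y hx hy => exact add_mem (hx trivial) (hy trivial)
        | tmul s b =>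
          have hb : b ∈ m • (⊤ : Submodule R B) := by rw [htop]; exact Submodule.mem_top
          refine Submodule.smul_induction_on hb (fun r hr b' _ => ?_) fun b₁ b₂ h₁ h₂ => ?_
          · rw [TensorProduct.tmul_smul, ← algebraMap_smul S r]
            refine Submodule.smul_mem_smul (hqM ?_) Submodule.mem_top
            have : r ∈ (PrimeSpectrum.comap (algebraMap R S) q).asIdeal := by rw [hq]; exact hr
            exact this
          · rw [TensorProduct.tmul_add]; exact add_mem h₁ h₂ }
  haveI : FaithfulSMul R B := by
    refine ⟨fun {r r'} h => ?_⟩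
    have h0 : Function.Injective (LinearMap.id (R := R) (M := R)) := Function.injective_id
    have := (Module.FaithfullyFlat.zero_iff_lTensor_zero R B
      ((LinearMap.lsmul R R r) - (LinearMap.lsmul R R r'))).mpr (by
        ext b
        have e : ∀ c : R, b ⊗ₜ[R] c = (c • b) ⊗ₜ[R] (1 : R) := fun c => by
          rw [TensorProduct.smul_tmul, smul_eq_mul, mul_one]
        simp [sub_eq_zero]
        rw [e r, e r', h b])
    simpa [sub_eq_zero] using LinearMap.congr_fun this 1
  obtain ⟨_, _⟩ := end_finite_projective R B
  exact ⟨bijective_of_baseChange S hS (AlgHom.mulLeftRight R B).toLinearMap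
    (bijective_baseChange_mulLeftRight R S B)⟩

end Azumaya

end Groth.Agent.AzumayaX
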