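import Groth.Agent.AzumayaX.Fibres
import Groth.Agent.CSALib.Splitting
import Mathlib.RingTheory.Etale.Field
import Mathlib.RingTheory.Unramified.Finite
import Mathlib.RingTheory.LocalRing.Module
import Mathlib.RingTheory.Ideal.GoingUp
import Mathlib.RingTheory.Finiteness.Prod

/-!
Maximal étale subalgebras of Azumaya algebras over local rings.
-/

universe u v w

set_option linter.style.haveILetI false

namespace Groth.Agent.AzumayaX

open TensorProduct MulOpposite

section Matrix

variable {Ω : Type u} [Field Ω] {r : ℕ} {I : Type v} [Fintype I] [DecidableEq I]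

/-- A full system of orthogonal idempotents is its own centralizer. -/
theorem mem_span_of_commute_idempotents (ε : I → Matrix (Fin r) (Fin r) Ω)
    (hI : Fintype.card I = r) (hε : ∀ i j, ε i * ε j = if i = j then ε i else 0) (hne : ∀ i, ε i ≠ 0)
    (Y : Matrix (Fin r) (Fin r) Ω) (hY : ∀ i, Y * ε i = ε i * Y) :
    Y ∈ Submodule.span Ω (Set.range ε) := by
  have hv : ∀ i, ∃ v : Fin r → Ω, v ≠ 0 ∧ (ε i).mulVec v = v := fun i => by
    obtain ⟨a, b, hab⟩ : ∃ a b, ε i a b ≠ 0 := by
      by_contra hc
      push Not at hc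
      exact hne i (Matrix.ext hc)
    refine ⟨(ε i).mulVec (Pi.single b 1), fun h0 => hab ?_, ?_⟩
    · simpa [Matrix.mulVec_single] using congrFun h0 a
    · rw [Matrix.mulVec_mulVec, hε, if_pos rfl]
  choose v hv0 hvv using hv
  have hev : ∀ i j, (ε i).mulVec (v j) = if i = j then v j else 0 := fun i j => by
    rw [← hvv j, Matrix.mulVec_mulVec, hε]
    split_ifs with h
    · rw [h, hvv]
    · rw [Matrix.zero_mulVec]
  have hli : LinearIndependent Ω v := by
    refine Fintype.linearIndependent_iff.2 fun c hc i => ?_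
    have h := congrArg (ε i).mulVec hc
    simp [Matrix.mulVec_sum, Matrix.mulVec_smul, hev, Matrix.mulVec_zero] at h
    exact h.resolve_right (hv0 i)
  have hspan : Submodule.span Ω (Set.range v) = ⊤ := by
    rcases isEmpty_or_nonempty I with hI0 | hI0
    · rw [Fintype.card_eq_zero] at hI
      subst hI
      exact Subsingleton.elim _ _
    · exact hli.span_eq_top_of_card_eq_finrank (by rw [Module.finrank_fin_fun, hI])
  let b := Module.Basis.mk hli hspan.ge
  have hb : ∀ i, b i = v i := fun i => Module.Basis.mk_apply hli _ i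
  have hc : ∀ i, ∃ c : Ω, Y.mulVec (v i) = c • v i := fun i => by
    refine ⟨b.repr (Y.mulVec (v i)) i, ?_⟩
    have h : Y.mulVec (v i) = (ε i).mulVec (Y.mulVec (v i)) := by
      rw [Matrix.mulVec_mulVec, ← hY, ← Matrix.mulVec_mulVec, hvv]
    conv_lhs => rw [h, ← b.sum_repr (Y.mulVec (v i))]
    simp [Matrix.mulVec_sum, Matrix.mulVec_smul, hb, hev]
  choose c hc using hc
  rw [show Y = ∑ i, c i • ε i from ?_]
  · exact Submodule.sum_mem _ fun i _ => Submodule.smul_mem _ _ (Submodule.subset_span ⟨i, rfl⟩)
  refine Matrix.toLin'.injective (b.ext fun j => ?_)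
  rw [Matrix.toLin'_apply, Matrix.toLin'_apply, hb, hc, Matrix.sum_mulVec]
  simp [Matrix.smul_mulVec, hev]

end Matrix

section Field

variable {k : Type u} [Field k] {B : Type v} [Ring B] [Algebra k B] [IsAzumaya k B] {r : ℕ}
  {E : Type w} [CommRing E] [Algebra k E] [Algebra.Etale k E] [Module.Finite k E]

/-- An étale commutative subalgebra of dimension the degree is its own centralizer. -/
theorem mem_range_of_commute_field (hB : Module.finrank k B = r ^ 2) (hE : Module.finrank k E = r)
    (u : E →ₐ[k] B) (hu : Function.Injective u) (b : B) (hb : ∀ e, b * u e = u e * b) :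
    b ∈ u.range := by
  classical
  by_contra hmem
  obtain ⟨φ, hφb, hφ⟩ := Submodule.exists_dual_map_eq_bot_of_notMem
    (show b ∉ Subalgebra.toSubmodule u.range from hmem) inferInstance
  let Ω := AlgebraicClosure k
  haveI := isAzumaya_baseChange k Ω B
  haveI := isSimpleRing_of_isAzumaya Ω (Ω ⊗[k] B)
  obtain ⟨n, _, ⟨ψ⟩⟩ := CSALib.exists_algEquiv_matrix_of_isSepClosed Ω (Ω ⊗[k] B)
  have hn : n = r := by
    have h := ψ.toLinearEquiv.finrank_eq
    rw [Module.finrank_baseChange, hB, Module.finrank_matrix, Fintype.card_fin, Module.finrank_self,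
      mul_one, ← sq] at h
    exact (Nat.pow_left_injective two_ne_zero h).symm
  haveI : Algebra.FormallyEtale Ω (Ω ⊗[k] E) := inferInstance
  let e := Algebra.FormallyEtale.equivPiOfIsSepClosed Ω (Ω ⊗[k] E)
  haveI : IsArtinianRing (Ω ⊗[k] E) := isArtinian_of_tower Ω inferInstance
  haveI : Fintype (PrimeSpectrum (Ω ⊗[k] E)) := Fintype.ofFinite _
  let uΩ : Ω ⊗[k] E →ₐ[Ω] Ω ⊗[k] B := Algebra.TensorProduct.map (AlgHom.id Ω Ω) u
  have huΩ : Function.Injective uΩ := by
    have h : Function.Injective (u.toLinearMap.lTensor Ω) :=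
      Module.Flat.lTensor_preserves_injective_linearMap _ hu
    exact h
  let ε : PrimeSpectrum (Ω ⊗[k] E) → Matrix (Fin n) (Fin n) Ω :=
    fun i => ψ (uΩ (e.symm (Pi.single i 1)))
  have hY : ∀ w : Ω ⊗[k] E, ((1 : Ω) ⊗ₜ[k] b) * uΩ w = uΩ w * ((1 : Ω) ⊗ₜ[k] b) := by
    intro w
    induction w using TensorProduct.induction_on with
    | zero => simp
    | add x y hx hy => rw [map_add, mul_add, add_mul, hx, hy]
    | tmul c x => simp [uΩ, hb]
  have hspan := mem_span_of_commute_idempotents ε (by
      have h := e.toLinearEquiv.finrank_eq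
      rw [Module.finrank_baseChange, hE, Module.finrank_fintype_fun_eq_card] at h
      rw [← h, hn])
    (fun i j => by
      rw [← map_mul, ← map_mul, ← map_mul]
      split_ifs with h
      · subst h; rw [← Pi.single_mul, one_mul]
      · rw [show (Pi.single i (1 : Ω) : _ → Ω) * Pi.single j 1 = 0 from funext fun x => by
          by_cases hx : x = i
          · subst hx; simp [Pi.single_eq_of_ne h]
          · simp [hx]]
        simp)
    (fun i h0 => by
      rw [map_eq_zero_iff _ ψ.injective, map_eq_zero_iff _ huΩ, map_eq_zero_iff _ e.symm.injective,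
        Pi.single_eq_zero_iff] at h0
      exact one_ne_zero h0)
    (ψ ((1 : Ω) ⊗ₜ[k] b)) (fun i => by rw [← map_mul, ← map_mul, hY])
  obtain ⟨c, hc⟩ := (Submodule.mem_span_range_iff_exists_fun Ω).1 hspan
  have h1 : uΩ (∑ i, c i • e.symm (Pi.single i 1)) = (1 : Ω) ⊗ₜ[k] b := ψ.injective (by
    rw [map_sum, map_sum, ← hc]
    exact Finset.sum_congr rfl fun i _ => by rw [map_smul, map_smul])
  generalize ∑ i, c i • e.symm (Pi.single i 1) = w at h1
  have h2 := congrArg (fun z => TensorProduct.rid k Ω (φ.lTensor Ω z)) h1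
  have hzero : ∀ w, TensorProduct.rid k Ω (φ.lTensor Ω (uΩ w)) = 0 := by
    intro w
    induction w using TensorProduct.induction_on with
    | zero => simp
    | add x y hx hy => simp [map_add, hx, hy]
    | tmul a x =>
      have : φ (u x) = 0 := by
        have hm : φ (u x) ∈ Submodule.map φ (Subalgebra.toSubmodule u.range) :=
          ⟨u x, ⟨x, rfl⟩, rfl⟩
        rw [hφ] at hm
        simpa using hm
      simp [uΩ, this]
  simp [hzero] at h2
  exact hφb (by simpa using h2.symm)

end Field

section Local

variable {R : Type u} [CommRing R] [IsLocalRing R] {A : Type v} [Ring A] [Algebra R A] [IsAzumaya R A]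
  {r : ℕ} {E : Type w} [CommRing E] [Algebra R E] [Algebra.Etale R E] [Module.Finite R E]
  [Module.Free R E]

/-- An étale subalgebra of rank the degree is its own centralizer. -/
theorem mem_range_of_commute (hA : Module.finrank R A = r ^ 2) (hE : Module.finrank R E = r)
    (u : E →ₐ[R] A) (hu : Function.Injective (u.toLinearMap.lTensor (IsLocalRing.ResidueField R)))
    (a : A) (ha : ∀ e, a * u e = u e * a) : a ∈ u.range := by
  classical
  let κ := IsLocalRing.ResidueField R
  haveI : Module.Free R A := Module.free_of_flat_of_isLocalRing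
  obtain ⟨ρ, hρ⟩ := (IsLocalRing.split_injective_iff_lTensor_residueField_injective u.toLinearMap).2 hu
  let b := Module.Free.chooseBasis R E
  let ad : Module.Free.ChooseBasisIndex R E → (A →ₗ[R] A) := fun i =>
    LinearMap.mulRight R (u (b i)) - LinearMap.mulLeft R (u (b i))
  let f : A →ₗ[R] (Module.Free.ChooseBasisIndex R E → A) × E := (LinearMap.pi ad).prod ρ
  have hf : Function.Injective (f.lTensor κ) := by
    rw [← LinearMap.ker_eq_bot, Submodule.eq_bot_iff]
    intro z hz
    rw [LinearMap.mem_ker] at hz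
    have h1 : ∀ i, (ad i).lTensor κ z = 0 := fun i => by
      rw [show ad i = ((LinearMap.proj i).comp (LinearMap.fst R _ E)).comp f from LinearMap.ext fun _ => rfl,
        LinearMap.lTensor_comp_apply, hz, map_zero]
    have h2 : ρ.lTensor κ z = 0 := by
      rw [show ρ = (LinearMap.snd R _ E).comp f from LinearMap.ext fun _ => rfl,
        LinearMap.lTensor_comp_apply, hz, map_zero]
    haveI := isAzumaya_baseChange R κ A
    let u₀ : κ ⊗[R] E →ₐ[κ] κ ⊗[R] A := Algebra.TensorProduct.map (AlgHom.id κ κ) u
    have hu₀ : ∀ w, u₀ w = u.toLinearMap.lTensor κ w := fun w => rfl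
    have hcomm : ∀ w, z * u₀ w = u₀ w * z := by
      have hgen : ∀ i, z * (1 : κ) ⊗ₜ[R] u (b i) = (1 : κ) ⊗ₜ[R] u (b i) * z := fun i => by
        refine sub_eq_zero.1 (Eq.trans ?_ (h1 i))
        clear hz h1 h2
        induction z using TensorProduct.induction_on with
        | zero => simp
        | add x y hx hy => simp [add_mul, mul_add, ← hx, ← hy]; abel
        | tmul c x => simp [ad, TensorProduct.tmul_sub]
      intro w
      induction w using TensorProduct.induction_on with
      | zero => simp
      | add x y hx hy => rw [map_add, mul_add, add_mul, hx, hy]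
      | tmul c x =>
        rw [← b.sum_repr x, TensorProduct.tmul_sum, map_sum, Finset.mul_sum, Finset.sum_mul]
        refine Finset.sum_congr rfl fun i _ => ?_
        rw [show u₀ (c ⊗ₜ[R] (b.repr x i • b i)) = (b.repr x i • c) • ((1 : κ) ⊗ₜ[R] u (b i)) by
          simp [u₀, TensorProduct.smul_tmul', TensorProduct.tmul_smul], mul_smul_comm, smul_mul_assoc, hgen]
    obtain ⟨y, hy⟩ := mem_range_of_commute_field (k := κ) (B := κ ⊗[R] A) (r := r)
      (by rw [Module.finrank_baseChange, hA]) (by rw [Module.finrank_baseChange, hE]) u₀ hu z hcomm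
    change u₀ y = z at hy
    rw [← hy, hu₀, ← LinearMap.lTensor_comp_apply, hρ, LinearMap.lTensor_id_apply] at h2
    rw [← hy, h2, map_zero]
  haveI hpi : Module.Finite R ((Module.Free.ChooseBasisIndex R E) → A) := Module.Finite.pi
  haveI : Module.Finite R ((Module.Free.ChooseBasisIndex R E → A) × E) :=
    @Module.Finite.prod R _ _ _ _ _ _ _ hpi ‹_›
  obtain ⟨f', hf'⟩ := (IsLocalRing.split_injective_iff_lTensor_residueField_injective f).2 hf
  have hinj : Function.Injective f := fun x y h => by
    rw [← LinearMap.id_apply (R := R) x, ← hf', LinearMap.comp_apply, h, ← LinearMap.comp_apply, hf',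
      LinearMap.id_apply]
  refine ⟨ρ a, (sub_eq_zero.1 ((map_eq_zero_iff f hinj).1 (Prod.ext (funext fun i => ?_) ?_))).symm⟩
  · show (a - u (ρ a)) * u (b i) - u (b i) * (a - u (ρ a)) = 0
    rw [sub_mul, mul_sub, ha, ← map_mul, ← map_mul, mul_comm (b i)]
    abel
  · show ρ (a - u (ρ a)) = 0
    rw [map_sub, show ρ (u (ρ a)) = ρ a from LinearMap.congr_fun hρ (ρ a), sub_self]

omit [Algebra.Etale R E] in
theorem finite_maximalSpectrum (E : Type w) [CommRing E] [Algebra R E] [Module.Finite R E] :
    Finite (MaximalSpectrum E) := by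
  let I : Ideal E := (IsLocalRing.maximalIdeal R).map (algebraMap R E)
  haveI : IsArtinianRing (IsLocalRing.ResidueField R ⊗[R] E) :=
    isArtinian_of_tower (IsLocalRing.ResidueField R) inferInstance
  let g : E →ₐ[R] IsLocalRing.ResidueField R ⊗[R] E := Algebra.TensorProduct.includeRight
  have hsurj : Function.Surjective g := by
    intro w
    induction w using TensorProduct.induction_on with
    | zero => exact ⟨0, map_zero _⟩
    | add x y hx hy =>
      obtain ⟨a, rfl⟩ := hx
      obtain ⟨b, rfl⟩ := hy
      exact ⟨a + b, map_add _ _ _⟩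
    | tmul c x =>
      obtain ⟨c, rfl⟩ := IsLocalRing.residue_surjective c
      exact ⟨c • x, by
        rw [map_smul]
        simp [g, TensorProduct.smul_tmul', Algebra.smul_def]⟩
  have hker : ∀ m : MaximalSpectrum E, RingHom.ker g.toRingHom ≤ m.asIdeal := by
    intro m
    haveI := m.isMaximal
    have hcomap : m.asIdeal.comap (algebraMap R E) = IsLocalRing.maximalIdeal R :=
      IsLocalRing.eq_maximalIdeal (Ideal.isMaximal_comap_of_isIntegral_of_isMaximal (R := R) m.asIdeal)
    intro x hx
    letI := Ideal.Quotient.field m.asIdeal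
    let π : IsLocalRing.ResidueField R ⊗[R] E →ₐ[R] E ⧸ m.asIdeal :=
      Algebra.TensorProduct.lift
        (Ideal.Quotient.liftₐ _ (Algebra.ofId R (E ⧸ m.asIdeal)) fun a ha => by
          show Ideal.Quotient.mk m.asIdeal (algebraMap R E a) = 0
          rw [Ideal.Quotient.eq_zero_iff_mem, ← Ideal.mem_comap, hcomap]
          exact ha)
        (Ideal.Quotient.mkₐ R m.asIdeal) fun _ _ => Commute.all _ _
    have h0 : g x = 0 := hx
    have h1 : π (g x) = Ideal.Quotient.mk m.asIdeal x := by simp [π, g]
    rw [h0, map_zero] at h1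
    exact Ideal.Quotient.eq_zero_iff_mem.1 h1.symm
  refine Finite.of_injective (β := MaximalSpectrum (IsLocalRing.ResidueField R ⊗[R] E))
    (fun m => ⟨m.asIdeal.map g.toRingHom,
      haveI := m.isMaximal
      Ideal.IsMaximal.map_of_surjective_of_ker_le hsurj (hker m)⟩) fun m m' h => ?_
  have h' := congrArg (fun q => q.asIdeal.comap g.toRingHom) h
  simp only [Ideal.comap_map_of_surjective g.toRingHom hsurj] at h'
  ext1
  rw [← RingHom.ker_eq_comap_bot, sup_eq_left.2 (hker m), sup_eq_left.2 (hker m')] at h'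
  exact h'

variable (hA : Module.finrank R A = r ^ 2) (hE : Module.finrank R E = r) (u : E →ₐ[R] A)
  (hu : Function.Injective (u.toLinearMap.lTensor (IsLocalRing.ResidueField R)))
  [Module E A] (hmod : ∀ (e : E) (a : A), e • a = a * u e)

include hA hE hu hmod

/-- A maximal étale subalgebra splits the algebra. -/
theorem free_and_split :
    Module.Free E A ∧ Module.finrank E A = r ∧ Nonempty ((E ⊗[R] A) ≃ₐ[E] Module.End E A) := by
  classical
  haveI : Module.Free R A := Module.free_of_flat_of_isLocalRing
  haveI : IsScalarTower R E A := ⟨fun c e a => by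
    rw [hmod, hmod, map_smul, mul_smul_comm]⟩
  haveI : SMulCommClass E A A := ⟨fun e x a => by
    rw [hmod, hmod, smul_eq_mul, smul_eq_mul, mul_assoc]⟩
  haveI : SMulCommClass R E A := ⟨fun c e a => by rw [hmod, hmod, smul_mul_assoc]⟩
  haveI : SMulCommClass E R A := SMulCommClass.symm _ _ _
  haveI : SMulCommClass A E A := SMulCommClass.symm _ _ _
  haveI : Module.Finite E A := Module.Finite.of_restrictScalars_finite R E A
  haveI : Module.Projective E A := Algebra.FormallyUnramified.projective_of_restrictScalars R E A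
  let L : A →ₐ[R] Module.End E A :=
    { toFun := fun a => DistribSMul.toLinearMap E A a
      map_one' := LinearMap.ext fun x => one_mul x
      map_mul' := fun a b => LinearMap.ext fun x => mul_assoc a b x
      map_zero' := LinearMap.ext fun x => zero_mul x
      map_add' := fun a b => LinearMap.ext fun x => add_mul a b x
      commutes' := fun c => LinearMap.ext fun x => by
        show algebraMap R A c * x = c • x
        rw [Algebra.smul_def] }
  let Φ : E ⊗[R] A →ₐ[E] Module.End E A :=
    Algebra.TensorProduct.lift (Algebra.ofId E (Module.End E A)) L fun e a => Algebra.commutes e (L a)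
  have hΦ : ∀ (e : E) (a x : A), Φ (e ⊗ₜ a) x = a * x * u e := fun e a x => by
    simp only [Φ, Algebra.TensorProduct.lift_tmul, Module.End.mul_apply]
    show e • (a * x) = a * x * u e
    rw [hmod]
  obtain ⟨ρ, hρ⟩ := (IsLocalRing.split_injective_iff_lTensor_residueField_injective u.toLinearMap).2 hu
  let G : E ⊗[R] A →ₗ[R] A ⊗[R] Aᵐᵒᵖ :=
    (((opLinearEquiv R).toLinearMap ∘ₗ u.toLinearMap).lTensor A) ∘ₗ (TensorProduct.comm R E A).toLinearMap
  have hG : ∀ z x, Φ z x = AlgHom.mulLeftRight R A (G z) x := by
    intro z x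
    induction z using TensorProduct.induction_on with
    | zero => simp
    | add a b ha hb => simp [map_add, LinearMap.add_apply, ha, hb]
    | tmul e a => simp [G, hΦ]
  have hGinj : Function.Injective G := by
    let G' : A ⊗[R] Aᵐᵒᵖ →ₗ[R] E ⊗[R] A :=
      (TensorProduct.comm R A E).toLinearMap ∘ₗ ((ρ ∘ₗ (opLinearEquiv R).symm.toLinearMap).lTensor A)
    refine LinearMap.injective_of_comp_eq_id G G' (TensorProduct.ext' fun e a => ?_)
    have he : ρ (u e) = e := LinearMap.congr_fun hρ e
    simp [G, G', he]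
  have hinj : Function.Injective Φ := fun z z' h => hGinj (IsAzumaya.bij.1 (LinearMap.ext fun x => by
    rw [← hG, ← hG, h]))
  have hsurj : Function.Surjective Φ := by
    intro f
    obtain ⟨t, ht⟩ := (IsAzumaya.bij (R := R) (A := A)).2 (f.restrictScalars R)
    let b := Module.Free.chooseBasis R A
    obtain ⟨c, hc⟩ := TensorProduct.eq_repr_basis_left b t
    have hfx : ∀ x, f x = c.sum fun i d => b i * x * d.unop := fun x => by
      rw [show f x = (f.restrictScalars R) x from rfl, ← ht, ← hc, map_finsuppSum,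
        Finsupp.sum, LinearMap.sum_apply]
      simp
      rfl
    have hcomm : ∀ i, (c i).unop ∈ u.range := fun i => by
      refine mem_range_of_commute hA hE u hu _ fun e => ?_
      let c₁ := c.mapRange (fun d : Aᵐᵒᵖ => op (d.unop * u e)) (by simp)
      let c₂ := c.mapRange (fun d : Aᵐᵒᵖ => op (u e * d.unop)) (by simp)
      have heq : (c₁.sum fun i d => b i ⊗ₜ[R] d) = c₂.sum fun i d => b i ⊗ₜ[R] d := by
        refine IsAzumaya.bij.1 (LinearMap.ext fun x => ?_)
        have h1 : f (x * u e) = f x * u e := by rw [← hmod, map_smul, hmod]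
        rw [hfx, hfx, Finsupp.sum_mul] at h1
        rw [Finsupp.sum_mapRange_index (by simp), Finsupp.sum_mapRange_index (by simp),
          map_finsuppSum, map_finsuppSum, Finsupp.sum, LinearMap.sum_apply, Finsupp.sum, LinearMap.sum_apply]
        simp only [AlgHom.mulLeftRight_apply, unop_op]
        simp only [Finsupp.sum] at h1
        simpa [mul_assoc] using h1.symm
      have h2 := congrArg (fun z => TensorProduct.lid R Aᵐᵒᵖ ((b.coord i).rTensor Aᵐᵒᵖ z)) heq
      have hext : ∀ c' : _ →₀ Aᵐᵒᵖ, TensorProduct.lid R Aᵐᵒᵖ ((b.coord i).rTensor Aᵐᵒᵖ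
          (c'.sum fun i d => b i ⊗ₜ[R] d)) = c' i := fun c' => by
        simp [map_finsuppSum, Finsupp.single_apply, ite_smul, eq_comm]
      simp only [hext, c₁, c₂, Finsupp.mapRange_apply] at h2
      exact op_injective h2
    choose e he using hcomm
    refine ⟨c.sum fun i _ => e i ⊗ₜ[R] b i, LinearMap.ext fun x => ?_⟩
    rw [map_finsuppSum, Finsupp.sum, LinearMap.sum_apply, hfx]
    refine Finset.sum_congr rfl fun i _ => ?_
    show Φ (e i ⊗ₜ b i) x = b i * x * (c i).unop
    rw [hΦ, show u (e i) = (c i).unop from he i]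
  let ΦE : (E ⊗[R] A) ≃ₐ[E] Module.End E A := AlgEquiv.ofBijective Φ ⟨hinj, hsurj⟩
  haveI := finite_maximalSpectrum (R := R) E
  haveI : Nontrivial A := by
    by_contra h
    rw [not_nontrivial_iff_subsingleton] at h
    exact zero_ne_one (FaithfulSMul.algebraMap_injective R A (Subsingleton.elim _ _) : (0 : R) = 1)
  haveI : Nontrivial E := u.toRingHom.domain_nontrivial
  have hrk : ∀ P : MaximalSpectrum E, Module.finrank (E ⧸ P.1) ((E ⧸ P.1) ⊗[E] A) = r := fun P => by
    letI := Ideal.Quotient.field P.1
    have h1 := (LinearEquiv.ofBijective _ (homBC_bijective (R := E) (E ⧸ P.1) A A)).finrank_eq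
    rw [Module.finrank_linearMap, ← (ΦE.toLinearEquiv.baseChange E (E ⧸ P.1)).finrank_eq,
      Module.finrank_baseChange, Module.finrank_baseChange, hA] at h1
    exact Nat.mul_self_inj.1 (by rw [← h1, sq])
  obtain ⟨B⟩ := Module.nonempty_basis_of_flat_of_finrank_eq E A r hrk
  exact ⟨Module.Free.of_basis B, by rw [Module.finrank_eq_card_basis B, Fintype.card_fin], ⟨ΦE⟩⟩

end Local

end Groth.Agent.AzumayaX
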