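import Groth.Agent.AzumayaX.Descent
import Groth.Agent.CSALib.Basic
import Mathlib.RingTheory.LocalRing.ResidueField.Ideal

/-!
Azumaya algebras are the finite projective algebras with central simple fibres.
-/

universe u v w

set_option linter.style.haveILetI false

namespace Groth.Agent.AzumayaX

open TensorProduct

variable {R : Type u} [CommRing R]

/-- A finite module whose fibres vanish at the maximal ideals is zero. -/
theorem subsingleton_of_fibres (C : Type w) [AddCommGroup C] [Module R C] [Module.Finite R C]
    (h : ∀ m : Ideal R, [m.IsMaximal] → Subsingleton (m.ResidueField ⊗[R] C)) : Subsingleton C := by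
  rw [← Module.support_eq_empty_iff (R := R), Set.eq_empty_iff_forall_notMem]
  intro p hp
  obtain ⟨m, hm, hpm⟩ := Ideal.exists_le_maximal p.asIdeal p.isPrime.ne_top
  have hmp : (⟨m, hm.isPrime⟩ : PrimeSpectrum R) ∈ Module.support R C :=
    Module.mem_support_mono (p := p) (q := ⟨m, hm.isPrime⟩) hpm hp
  rw [Module.mem_support_iff_nontrivial_residueField_tensorProduct] at hmp
  haveI : Subsingleton (m.ResidueField ⊗[R] C) := h m
  haveI : Nontrivial (m.ResidueField ⊗[R] C) := hmp
  exact not_subsingleton (m.ResidueField ⊗[R] C) inferInstance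

/-- A map to a finite projective module which is bijective on the closed fibres is bijective. -/
theorem bijective_of_fibres {M N : Type w} [AddCommGroup M] [Module R M] [Module.Finite R M]
    [AddCommGroup N] [Module R N] [Module.Finite R N] [Module.Projective R N] (f : M →ₗ[R] N)
    (h : ∀ m : Ideal R, [m.IsMaximal] → Function.Bijective (f.baseChange m.ResidueField)) :
    Function.Bijective f := by
  have hsurj : Function.Surjective f := by
    rw [← LinearMap.range_eq_top, ← Submodule.Quotient.subsingleton_iff]
    refine subsingleton_of_fibres (R := R) (N ⧸ LinearMap.range f) fun m _ =>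
      subsingleton_of_forall_eq 0 fun x => ?_
    obtain ⟨y, rfl⟩ := LinearMap.lTensor_surjective m.ResidueField (LinearMap.range f).mkQ_surjective x
    obtain ⟨z, rfl⟩ := (h m).2 y
    rw [show (f.baseChange m.ResidueField) z = f.lTensor m.ResidueField z from rfl,
      ← LinearMap.lTensor_comp_apply, LinearMap.range_mkQ_comp]
    simp
  refine ⟨?_, hsurj⟩
  obtain ⟨σ, hσ⟩ := Module.projective_lifting_property f LinearMap.id hsurj
  let pr : M →ₗ[R] LinearMap.ker f :=
    LinearMap.codRestrict _ (LinearMap.id - σ ∘ₗ f) fun x => by
      have := LinearMap.congr_fun hσ (f x)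
      simp only [LinearMap.coe_comp, Function.comp_apply, LinearMap.id_coe, id_eq] at this
      simp [LinearMap.mem_ker, this]
  have hpr : pr ∘ₗ (LinearMap.ker f).subtype = LinearMap.id := LinearMap.ext fun y => Subtype.ext
    (by simp [pr])
  haveI : Module.Finite R (LinearMap.ker f) :=
    Module.Finite.of_surjective pr fun y => ⟨y, LinearMap.congr_fun hpr y⟩
  haveI : Subsingleton (LinearMap.ker f) := subsingleton_of_fibres (R := R) (LinearMap.ker f) fun m _ =>
    subsingleton_of_forall_eq 0 fun x => by
      apply LinearMap.injective_of_comp_eq_id ((LinearMap.ker f).subtype.baseChange m.ResidueField)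
        (pr.baseChange m.ResidueField)
        (by rw [← LinearMap.baseChange_comp, hpr, LinearMap.baseChange_id])
      apply (h m).1
      rw [map_zero, map_zero, ← LinearMap.comp_apply, ← LinearMap.baseChange_comp,
        LinearMap.comp_ker_subtype, LinearMap.baseChange_zero, LinearMap.zero_apply]
  rw [← LinearMap.ker_eq_bot]
  exact Submodule.eq_bot_of_subsingleton

/-- An Azumaya algebra over a field is central. -/
theorem isCentral_of_isAzumaya (k : Type u) [Field k] (A : Type v) [Ring A] [Algebra k A]
    [IsAzumaya k A] : Algebra.IsCentral k A :=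
  inferInstance

theorem nontrivial_of_isAzumaya (k : Type u) [Field k] (A : Type v) [Ring A] [Algebra k A]
    [IsAzumaya k A] : Nontrivial A := by
  by_contra h
  rw [not_nontrivial_iff_subsingleton] at h
  exact one_ne_zero (FaithfulSMul.eq_of_smul_eq_smul (α := A) (m₁ := (1 : k)) (m₂ := 0)
    fun a => Subsingleton.elim _ _)

/-- An Azumaya algebra over a field is simple. -/
theorem isSimpleRing_of_isAzumaya (k : Type u) [Field k] (A : Type v) [Ring A] [Algebra k A]
    [IsAzumaya k A] : IsSimpleRing A := by
  haveI := nontrivial_of_isAzumaya k A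
  refine IsSimpleRing.of_eq_bot_or_eq_top fun I => ?_
  by_cases hI : I = ⊥
  · exact Or.inl hI
  right
  obtain ⟨x, hx, hx0⟩ : ∃ x ∈ I, x ≠ 0 := by
    by_contra h
    push Not at h
    exact hI (le_bot_iff.1 fun x hx => by simpa using h x hx)
  obtain ⟨φ, hφ⟩ := Module.Projective.exists_dual_ne_zero k hx0
  obtain ⟨t, ht⟩ := (IsAzumaya.bij (R := k) (A := A)).2
    (((φ x)⁻¹ • φ).smulRight (1 : A))
  have hmem : AlgHom.mulLeftRight k A t x ∈ I := by
    clear ht
    induction t with
    | zero => simp
    | tmul a b => simpa using I.mul_mem_right _ b.unop (I.mul_mem_left a _ hx)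
    | add a b ha hb => simpa using I.add_mem ha hb
  rw [← I.one_mem_iff]
  rw [ht] at hmem
  simpa [hφ] using hmem

/-- Fibres of an Azumaya algebra are central simple. -/
theorem fibre_of_isAzumaya (A : Type v) [Ring A] [Algebra R A] [IsAzumaya R A] (k : Type w) [Field k]
    [Algebra R k] : Algebra.IsCentral k (k ⊗[R] A) ∧ IsSimpleRing (k ⊗[R] A) := by
  haveI := isAzumaya_baseChange R k A
  exact ⟨inferInstance, isSimpleRing_of_isAzumaya k _⟩

/-- The cancellation of base change for a noncommutative algebra. -/
noncomputable def cancelAlg (S : Type w) [CommRing S] [Algebra R S] (T : Type*) [CommRing T] [Algebra R T]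
    [Algebra S T] [IsScalarTower R S T] (A : Type v) [Ring A] [Algebra R A] :
    T ⊗[S] (S ⊗[R] A) ≃ₐ[T] T ⊗[R] A :=
  AlgEquiv.symm <| AlgEquiv.ofLinearEquiv
    (TensorProduct.AlgebraTensorModule.cancelBaseChange R S T T A).symm
    (by simp [Algebra.TensorProduct.one_def]) <|
      LinearMap.map_mul_of_map_mul_tmul (fun _ _ _ _ ↦ by simp)

/-- A finite projective algebra with Azumaya closed fibres is Azumaya. -/
theorem isAzumaya_of_fibres (A : Type v) [Ring A] [Algebra R A] [Module.Finite R A]
    [Module.Projective R A]
    (h : ∀ m : Ideal R, [m.IsMaximal] → IsAzumaya m.ResidueField (m.ResidueField ⊗[R] A)) :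
    IsAzumaya R A := by
  haveI : Module.FaithfullyFlat R A :=
    { submodule_ne_top := fun m hm htop => by
        haveI := hm
        haveI := h m
        haveI : Nontrivial (m.ResidueField ⊗[R] A) := nontrivial_of_isAzumaya m.ResidueField _
        refine not_subsingleton (m.ResidueField ⊗[R] A) (subsingleton_of_forall_eq 0 fun x => ?_)
        induction x using TensorProduct.induction_on with
        | zero => rfl
        | add a b ha hb => rw [ha, hb, add_zero]
        | tmul s b =>
          have hb : b ∈ m • (⊤ : Submodule R A) := by rw [htop]; exact Submodule.mem_top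
          refine Submodule.smul_induction_on hb (fun r hr b' _ => ?_) fun b₁ b₂ h₁ h₂ => ?_
          · rw [TensorProduct.tmul_smul, ← algebraMap_smul m.ResidueField r,
              Ideal.algebraMap_residueField_eq_zero.2 hr, zero_smul]
          · rw [TensorProduct.tmul_add, h₁, h₂, add_zero] }
  haveI : FaithfulSMul R A := by
    refine ⟨fun {r r'} hrr => ?_⟩
    have := (Module.FaithfullyFlat.zero_iff_lTensor_zero R A
      ((LinearMap.lsmul R R r) - (LinearMap.lsmul R R r'))).mpr (by
        ext b
        have e : ∀ c : R, b ⊗ₜ[R] c = (c • b) ⊗ₜ[R] (1 : R) := fun c => by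
          rw [TensorProduct.smul_tmul, smul_eq_mul, mul_one]
        simp [sub_eq_zero]
        rw [e r, e r', hrr b])
    simpa [sub_eq_zero] using LinearMap.congr_fun this 1
  obtain ⟨_, _⟩ := end_finite_projective R A
  refine ⟨bijective_of_fibres (AlgHom.mulLeftRight R A).toLinearMap fun m _ => ?_⟩
  haveI := h m
  exact bijective_baseChange_mulLeftRight R m.ResidueField A

/-- Over a local ring it is enough to look at the residue field. -/
theorem isAzumaya_of_residueField [IsLocalRing R] (A : Type v) [Ring A] [Algebra R A] [Module.Finite R A]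
    [Module.Projective R A]
    [IsAzumaya (IsLocalRing.ResidueField R) (IsLocalRing.ResidueField R ⊗[R] A)] : IsAzumaya R A := by
  refine isAzumaya_of_fibres A fun m hm => ?_
  obtain rfl := IsLocalRing.eq_maximalIdeal hm
  let K := (IsLocalRing.maximalIdeal R).ResidueField
  letI : Algebra (IsLocalRing.ResidueField R) K :=
    (Ideal.Quotient.lift (IsLocalRing.maximalIdeal R) (algebraMap R K) fun a ha =>
      Ideal.algebraMap_residueField_eq_zero.2 ha).toAlgebra
  haveI : IsScalarTower R (IsLocalRing.ResidueField R) K := IsScalarTower.of_algebraMap_eq fun _ => rfl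
  haveI := isAzumaya_baseChange (IsLocalRing.ResidueField R) K (IsLocalRing.ResidueField R ⊗[R] A)
  exact IsAzumaya.of_AlgEquiv K _ _
    (cancelAlg (IsLocalRing.ResidueField R) K A)

end Groth.Agent.AzumayaX
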