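import Groth.Agent.AzumayaX.LGModules

/-!
Cancellation for Azumaya algebras over LG-rings.
-/

universe u v w x

set_option linter.style.haveILetI false

namespace Groth.Agent.AzumayaX

open TensorProduct

variable {R : Type u} [CommRing R]

/-- The rank of an Azumaya algebra is positive. -/
theorem rankAtStalk_pos_of_isAzumaya (A : Type v) [Ring A] [Algebra R A] [IsAzumaya R A] (p : PrimeSpectrum R) :
    0 < Module.rankAtStalk (R := R) A p := by
  rw [← Ideal.finrank_fiber_eq_rankAtStalk]
  haveI := isAzumaya_baseChange R p.asIdeal.ResidueField A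
  haveI := nontrivial_of_isAzumaya p.asIdeal.ResidueField (p.asIdeal.ResidueField ⊗[R] A)
  exact Module.finrank_pos (R := p.asIdeal.ResidueField) (M := p.asIdeal.ResidueField ⊗[R] A)

section Corner

variable {A : Type v} [Ring A] [Algebra R A] {P : Type w} [AddCommGroup P] [Module R P]
  (m₀ : P) (f : Module.Dual R P)

/-- The rank-one endomorphism. -/
noncomputable def rankOne : Module.End R P := LinearMap.smulRight f m₀

/-- The coefficient of a rank-one corner. -/
noncomputable def cornerCoeff : A ⊗[R] Module.End R P →ₗ[R] A :=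
  (TensorProduct.rid R A).toLinearMap ∘ₗ (f ∘ₗ LinearMap.applyₗ m₀).lTensor A

theorem cornerCoeff_tmul (a : A) (g : Module.End R P) : cornerCoeff m₀ f (a ⊗ₜ g) = f (g m₀) • a := by
  simp [cornerCoeff]

variable {m₀ f} (hf : f m₀ = 1)

include hf

theorem rankOne_idem : rankOne m₀ f * rankOne m₀ f = rankOne m₀ f := by
  ext x
  simp [rankOne, hf]

theorem cornerCoeff_rankOne (a : A) : cornerCoeff m₀ f (a ⊗ₜ rankOne m₀ f) = a := by
  simp [cornerCoeff_tmul, rankOne, hf]

theorem corner_eq (z : A ⊗[R] Module.End R P) :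
    (1 : A) ⊗ₜ[R] rankOne m₀ f * z * (1 : A) ⊗ₜ[R] rankOne m₀ f =
      cornerCoeff m₀ f z ⊗ₜ[R] rankOne m₀ f := by
  induction z using TensorProduct.induction_on with
  | zero => simp
  | add x y hx hy => rw [mul_add, add_mul, map_add, TensorProduct.add_tmul, hx, hy]
  | tmul a g =>
    rw [Algebra.TensorProduct.tmul_mul_tmul, Algebra.TensorProduct.tmul_mul_tmul, one_mul, mul_one,
      cornerCoeff_tmul, TensorProduct.smul_tmul]
    congr 1
    ext x
    simp [rankOne, smul_comm (f x), smul_smul]

end Corner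

section LG

variable {A : Type v} [Ring A] [Algebra R A] [IsAzumaya R A] {B : Type v} [Ring B] [Algebra R B]
  [IsAzumaya R B] {P : Type w} [AddCommGroup P] [Module R P] [Module.Finite R P] [Module.Projective R P]
  {Q : Type x} [AddCommGroup Q] [Module R Q] [Module.Finite R Q] [Module.Projective R Q]

theorem rankAtStalk_pos_of_faithful (m₀ : P) (f : Module.Dual R P) (hf : f m₀ = 1) (p : PrimeSpectrum R) :
    0 < Module.rankAtStalk (R := R) P p := by
  rw [← Ideal.finrank_fiber_eq_rankAtStalk]
  haveI : Nontrivial (p.asIdeal.ResidueField ⊗[R] P) := by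
    refine nontrivial_of_ne ((1 : p.asIdeal.ResidueField) ⊗ₜ m₀) 0 fun h => ?_
    have := congrArg (TensorProduct.rid R p.asIdeal.ResidueField ∘ f.lTensor p.asIdeal.ResidueField) h
    simp [hf] at this
  exact Module.finrank_pos (R := p.asIdeal.ResidueField) (M := p.asIdeal.ResidueField ⊗[R] P)

/-- Cancellation of endomorphism algebras over an LG-ring. -/
theorem cancel_end (hR : LGRing.IsLGRing R) [FaithfulSMul R P] [FaithfulSMul R Q]
    (hdeg : ∀ p : PrimeSpectrum R, Module.rankAtStalk A p = Module.rankAtStalk B p)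
    (e : A ⊗[R] Module.End R P ≃ₐ[R] B ⊗[R] Module.End R Q) : Nonempty (A ≃ₐ[R] B) := by
  classical
  obtain ⟨m₀, f, hf⟩ := LGRingLib.exists_unimodular P hR
  obtain ⟨n₀, g, hg⟩ := LGRingLib.exists_unimodular Q hR
  haveI := isAzumaya_end (R := R) P
  haveI := isAzumaya_end (R := R) Q
  haveI hD : IsAzumaya R (B ⊗[R] Module.End R Q) := isAzumaya_tensor R B (Module.End R Q)
  let D := B ⊗[R] Module.End R Q
  set ε : D := e ((1 : A) ⊗ₜ[R] rankOne m₀ f) with hεdef
  set ε' : D := (1 : B) ⊗ₜ[R] rankOne n₀ g with hε'def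
  have hε : ε * ε = ε := by
    rw [hεdef, ← map_mul, Algebra.TensorProduct.tmul_mul_tmul, one_mul, rankOne_idem hf]
  have hε' : ε' * ε' = ε' := by
    rw [hε'def, Algebra.TensorProduct.tmul_mul_tmul, one_mul, rankOne_idem hg]
  let I : D → Submodule D D := fun z => LinearMap.range (LinearMap.toSpanSingleton D D z)
  have hmem : ∀ {z y : D}, z * z = z → y ∈ I z → y * z = y := by
    rintro z _ hz ⟨c, rfl⟩
    simp [mul_assoc, hz]
  have hself : ∀ z : D, z ∈ I z := fun z => ⟨1, one_mul z⟩
  have hproj : ∀ z : D, z * z = z → Module.Projective D (I z) ∧ Module.Finite D (I z) := fun z hz =>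
    ⟨Module.Projective.of_split (I z).subtype (LinearMap.toSpanSingleton D D z).rangeRestrict
      (LinearMap.ext fun y => Subtype.ext (hmem hz y.2)),
     Module.Finite.range _⟩
  obtain ⟨_, _⟩ := hproj ε hε
  obtain ⟨_, _⟩ := hproj ε' hε'
  let JA : A ⊗[R] P →ₗ[R] A ⊗[R] Module.End R P :=
    (LinearMap.smulRightₗ (R := R) (M := P) (M₂ := P) f).lTensor A
  let KA : A ⊗[R] Module.End R P →ₗ[R] A ⊗[R] P := (LinearMap.applyₗ m₀).lTensor A
  let JB : B ⊗[R] Q →ₗ[R] D := (LinearMap.smulRightₗ (R := R) (M := Q) (M₂ := Q) g).lTensor B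
  let KB : D →ₗ[R] B ⊗[R] Q := (LinearMap.applyₗ n₀).lTensor B
  have hJA : ∀ t, JA t * (1 : A) ⊗ₜ[R] rankOne m₀ f = JA t := fun t => by
    induction t using TensorProduct.induction_on with
    | zero => simp
    | add x y hx hy => rw [map_add, add_mul, hx, hy]
    | tmul a x =>
      simp only [JA, LinearMap.lTensor_tmul, Algebra.TensorProduct.tmul_mul_tmul, mul_one]
      congr 1
      ext y
      simp [rankOne, hf]
  have hJB : ∀ t, JB t * ε' = JB t := fun t => by
    induction t using TensorProduct.induction_on with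
    | zero => simp
    | add x y hx hy => rw [map_add, add_mul, hx, hy]
    | tmul a x =>
      show a ⊗ₜ[R] (g.smulRight x) * ε' = a ⊗ₜ[R] (g.smulRight x)
      rw [hε'def, Algebra.TensorProduct.tmul_mul_tmul, mul_one]
      congr 1
      ext y
      simp [rankOne, hg]
  have hKJA : ∀ t, KA (JA t) = t := fun t => by
    induction t using TensorProduct.induction_on with
    | zero => simp
    | add x y hx hy => rw [map_add, map_add, hx, hy]
    | tmul a x => simp [JA, KA, hf]
  have hKJB : ∀ t, KB (JB t) = t := fun t => by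
    induction t using TensorProduct.induction_on with
    | zero => simp
    | add x y hx hy => rw [map_add, map_add, hx, hy]
    | tmul a x =>
      show a ⊗ₜ[R] (g n₀ • x) = a ⊗ₜ[R] x
      rw [hg, one_smul]
  have hJKA : ∀ z, JA (KA z) = z * (1 : A) ⊗ₜ[R] rankOne m₀ f := fun z => by
    induction z using TensorProduct.induction_on with
    | zero => simp
    | add x y hx hy => rw [map_add, map_add, add_mul, hx, hy]
    | tmul a h =>
      simp only [JA, KA, LinearMap.lTensor_tmul, Algebra.TensorProduct.tmul_mul_tmul, mul_one]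
      congr 1
      ext y
      simp [rankOne]
  have hJKB : ∀ z, JB (KB z) = z * ε' := fun z => by
    induction z using TensorProduct.induction_on with
    | zero => simp
    | add x y hx hy => rw [map_add, map_add, add_mul, hx, hy]
    | tmul a h =>
      show a ⊗ₜ[R] (g.smulRight (h n₀)) = a ⊗ₜ[R] h * ε'
      rw [hε'def, Algebra.TensorProduct.tmul_mul_tmul, mul_one]
      congr 1
      ext y
      simp [rankOne]
  let θA : (A ⊗[R] P) ≃ₗ[R] I ε :=
    { toFun := fun t => ⟨e (JA t), e (JA t), by
        show e (JA t) * ε = e (JA t)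
        rw [hεdef, ← map_mul, hJA]⟩
      map_add' := fun s t => Subtype.ext (by simp)
      map_smul' := fun r t => Subtype.ext (by simp)
      invFun := fun y => KA (e.symm y)
      left_inv := fun t => by simp [hKJA]
      right_inv := fun y => Subtype.ext (by
        show e (JA (KA (e.symm y))) = y
        rw [hJKA, map_mul, AlgEquiv.apply_symm_apply]
        exact hmem hε y.2) }
  let θB : (B ⊗[R] Q) ≃ₗ[R] I ε' :=
    { toFun := fun t => ⟨JB t, JB t, hJB t⟩
      map_add' := fun s t => Subtype.ext (by simp)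
      map_smul' := fun r t => Subtype.ext (by simp)
      invFun := fun y => KB y
      left_inv := fun t => hKJB t
      right_inv := fun y => Subtype.ext (by
        show JB (KB y) = y
        rw [hJKB]
        exact hmem hε' y.2) }
  obtain ⟨φ⟩ : Nonempty (I ε ≃ₗ[D] I ε') := by
    refine nonempty_linearEquiv_of_rank (R := R) (A := D) (I ε) (I ε') hR fun m hm => ?_
    refine ((congrFun (Module.rankAtStalk_eq_of_equiv θB) ⟨m, hm.isPrime⟩).symm.trans ?_).trans
      (congrFun (Module.rankAtStalk_eq_of_equiv θA) ⟨m, hm.isPrime⟩)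
    rw [Module.rankAtStalk_tensorProduct, Module.rankAtStalk_tensorProduct, Pi.mul_apply, Pi.mul_apply]
    have he := congrFun (Module.rankAtStalk_eq_of_equiv e.toLinearEquiv) ⟨m, hm.isPrime⟩
    rw [Module.rankAtStalk_tensorProduct, Module.rankAtStalk_tensorProduct, Pi.mul_apply, Pi.mul_apply,
      hdeg] at he
    have hb := rankAtStalk_pos_of_isAzumaya (R := R) B ⟨m, hm.isPrime⟩
    have he' := Nat.eq_of_mul_eq_mul_left hb he
    rw [hdeg]
    congr 1
    rw [← Ideal.finrank_fiber_eq_rankAtStalk, ← Ideal.finrank_fiber_eq_rankAtStalk] at he' ⊢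
    let K := Ideal.ResidueField m
    have h1 := (LinearEquiv.ofBijective _ (homBC_bijective (R := R) K P P)).finrank_eq
    have h2 := (LinearEquiv.ofBijective _ (homBC_bijective (R := R) K Q Q)).finrank_eq
    rw [Module.finrank_linearMap] at h1 h2
    exact (Nat.mul_self_inj.1 (h2.symm.trans (he'.symm.trans h1)))
  let x : D := (φ ⟨ε, hself ε⟩ : D)
  let y : D := (φ.symm ⟨ε', hself ε'⟩ : D)
  have hxε' : x * ε' = x := hmem hε' (φ _).2
  have hyε : y * ε = y := hmem hε (φ.symm _).2
  have hεx : ε * x = x := by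
    have : ε • φ ⟨ε, hself ε⟩ = φ ⟨ε, hself ε⟩ := by
      rw [← map_smul]; exact congrArg φ (Subtype.ext hε)
    exact congrArg Subtype.val this
  have hε'y : ε' * y = y := by
    have : ε' • φ.symm ⟨ε', hself ε'⟩ = φ.symm ⟨ε', hself ε'⟩ := by
      rw [← map_smul]; exact congrArg φ.symm (Subtype.ext hε')
    exact congrArg Subtype.val this
  have hxy : x * y = ε := by
    have : x • φ.symm ⟨ε', hself ε'⟩ = ⟨ε, hself ε⟩ := by
      rw [← map_smul, LinearEquiv.symm_apply_eq]
      exact Subtype.ext hxε'
    exact congrArg Subtype.val this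
  have hyx : y * x = ε' := by
    have : y • φ ⟨ε, hself ε⟩ = ⟨ε', hself ε'⟩ := by
      rw [← map_smul, ← LinearEquiv.eq_symm_apply]
      exact Subtype.ext hyε
    exact congrArg Subtype.val this
  let ιA : A → D := fun a => e (a ⊗ₜ[R] rankOne m₀ f)
  let ιB : B → D := fun b => b ⊗ₜ[R] rankOne n₀ g
  have hιA : ∀ a, ε * ιA a = ιA a ∧ ιA a * ε = ιA a := fun a => by
    simp only [ιA, hεdef]
    constructor <;> rw [← map_mul, Algebra.TensorProduct.tmul_mul_tmul, rankOne_idem hf] <;> simp
  have hιB : ∀ b, ε' * ιB b = ιB b ∧ ιB b * ε' = ιB b := fun b => by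
    simp only [ιB, hε'def]
    constructor <;> rw [Algebra.TensorProduct.tmul_mul_tmul, rankOne_idem hg] <;> simp
  have hF : ∀ a, ιB (cornerCoeff n₀ g (y * ιA a * x)) = y * ιA a * x := fun a => by
    show cornerCoeff n₀ g (y * ιA a * x) ⊗ₜ[R] rankOne n₀ g = _
    rw [← corner_eq hg, ← hε'def]
    simp only [← mul_assoc, hε'y]
    simp only [mul_assoc, hxε']
  have hG : ∀ b, ιA (cornerCoeff m₀ f (e.symm (x * ιB b * y))) = x * ιB b * y := fun b => by
    show e (cornerCoeff m₀ f (e.symm (x * ιB b * y)) ⊗ₜ[R] rankOne m₀ f) = _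
    rw [← corner_eq hf, map_mul, map_mul, AlgEquiv.apply_symm_apply, ← hεdef]
    simp only [← mul_assoc, hεx]
    simp only [mul_assoc, hyε]
  refine ⟨AlgEquiv.ofLinearEquiv
    { toFun := fun a => cornerCoeff n₀ g (y * ιA a * x)
      map_add' := fun a b => by simp [ιA, TensorProduct.add_tmul, mul_add, add_mul]
      map_smul' := fun r a => by
        simp only [ιA, ← TensorProduct.smul_tmul', map_smul, mul_smul_comm, smul_mul_assoc, RingHom.id_apply]
      invFun := fun b => cornerCoeff m₀ f (e.symm (x * ιB b * y))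
      left_inv := fun a => by
        simp only [hF]
        rw [show x * (y * ιA a * x) * y = ιA a by
          rw [show x * (y * ιA a * x) * y = (x * y) * ιA a * (x * y) by simp only [mul_assoc], hxy,
            (hιA a).1, (hιA a).2]]
        simp [ιA, cornerCoeff_rankOne hf]
      right_inv := fun b => by
        simp only [hG]
        rw [show y * (x * ιB b * y) * x = ιB b by
          rw [show y * (x * ιB b * y) * x = (y * x) * ιB b * (y * x) by simp only [mul_assoc], hyx,
            (hιB b).1, (hιB b).2]]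
        simp [ιB, cornerCoeff_rankOne hg] } ?_ (fun a b => ?_)⟩
  · show cornerCoeff n₀ g (y * ιA 1 * x) = 1
    rw [show y * ιA 1 * x = ε' by rw [show ιA 1 = ε from rfl, hyε, hyx]]
    exact cornerCoeff_rankOne hg 1
  · show cornerCoeff n₀ g (y * ιA (a * b) * x) =
      cornerCoeff n₀ g (y * ιA a * x) * cornerCoeff n₀ g (y * ιA b * x)
    have h : ιB (cornerCoeff n₀ g (y * ιA a * x) * cornerCoeff n₀ g (y * ιA b * x)) =
        y * ιA (a * b) * x := by
      rw [show ιB (cornerCoeff n₀ g (y * ιA a * x) * cornerCoeff n₀ g (y * ιA b * x)) =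
          ιB (cornerCoeff n₀ g (y * ιA a * x)) * ιB (cornerCoeff n₀ g (y * ιA b * x)) by
        simp only [ιB]
        exact ((Algebra.TensorProduct.tmul_mul_tmul _ _ _ _).trans (by rw [rankOne_idem hg])).symm, hF, hF,
        show ιA (a * b) = ιA a * ιA b by simp [ιA, ← map_mul, rankOne_idem hf],
        show y * ιA a * x * (y * ιA b * x) = y * (ιA a * (x * y)) * ιA b * x by simp only [mul_assoc], hxy,
        (hιA a).2]
      simp only [mul_assoc]
    rw [← h]
    exact cornerCoeff_rankOne hg _

end LG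

end Groth.Agent.AzumayaX
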