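import Groth.Agent.AzumayaX.Fibres
import Groth.Agent.CSALib.Modules
import Groth.Agent.LGRingLib.Basic

/-!
Projective modules over Azumaya algebras over LG-rings.
-/

universe u v w

set_option linter.style.haveILetI false

namespace Groth.Agent.AzumayaX

open TensorProduct

variable {R : Type u} [CommRing R] {A : Type v} [Ring A] [Algebra R A] [IsAzumaya R A]

section Basic

theorem finite_projective_restrict (A : Type v) [Ring A] [Algebra R A] [IsAzumaya R A] (M : Type w)
    [AddCommGroup M] [Module R M] [Module A M] [IsScalarTower R A M]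
    [Module.Finite A M] [Module.Projective A M] : Module.Finite R M ∧ Module.Projective R M := by
  obtain ⟨n, f, g, -, -, hfg⟩ := Module.Finite.exists_comp_eq_id_of_projective A M
  haveI : Module.Finite R M := Module.Finite.trans A M
  haveI : Module.Projective R (Fin n → A) := by
    obtain ⟨k, p, hp⟩ := Module.Finite.exists_fin' R A
    obtain ⟨i, hi⟩ := Module.projective_lifting_property p LinearMap.id hp
    exact Module.Projective.of_split
      (LinearMap.pi fun l : Fin n => i ∘ₗ (LinearMap.proj l : (Fin n → A) →ₗ[R] A))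
      (LinearMap.pi fun l : Fin n => p ∘ₗ (LinearMap.proj l : (Fin n → Fin k → R) →ₗ[R] (Fin k → R)))
      (LinearMap.ext fun x => funext fun l => LinearMap.congr_fun hi (x l))
  refine ⟨inferInstance, Module.Projective.of_split (g.restrictScalars R) (f.restrictScalars R) ?_⟩
  exact LinearMap.ext fun x => LinearMap.congr_fun hfg x

end Basic

section LG

variable (M N : Type w) [AddCommGroup M] [Module R M] [Module A M] [IsScalarTower R A M]
  [Module.Finite A M] [Module.Projective A M]
  [AddCommGroup N] [Module R N] [Module A N] [IsScalarTower R A N]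
  [Module.Finite A N] [Module.Projective A N]

/-- The residual step: a map which is surjective modulo a maximal ideal. -/
theorem exists_surjective_mod (m : Ideal R) [hm : m.IsMaximal]
    (h : Module.rankAtStalk (R := R) N ⟨m, hm.isPrime⟩ ≤ Module.rankAtStalk (R := R) M ⟨m, hm.isPrime⟩) :
    ∃ (φ : M →ₗ[A] N) (ψ : N →ₗ[R] M), ∀ y, φ (ψ y) - y ∈ m • (⊤ : Submodule R N) := by
  classical
  obtain ⟨_, _⟩ := finite_projective_restrict (R := R) A M
  obtain ⟨_, _⟩ := finite_projective_restrict (R := R) A N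
  letI := Ideal.Quotient.field m
  let κ := R ⧸ m
  haveI := isAzumaya_baseChange R κ A
  haveI := isSimpleRing_of_isAzumaya κ (κ ⊗[R] A)
  have hstable : ∀ (X : Type w) [AddCommGroup X] [Module R X] [Module A X] [IsScalarTower R A X] (a : A),
      m • (⊤ : Submodule R X) ≤ (m • (⊤ : Submodule R X)).comap (Algebra.lsmul R R X a) := by
    intro X _ _ _ _ a x hx
    refine Submodule.smul_induction_on hx (fun r hr y _ => ?_) (fun y z hy hz => ?_)
    · show a • r • y ∈ m • (⊤ : Submodule R X)
      rw [smul_comm]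
      exact Submodule.smul_mem_smul hr Submodule.mem_top
    · exact add_mem (s := (m • (⊤ : Submodule R X)).comap (Algebra.lsmul R R X a)) hy hz
  let Lm : ∀ (X : Type w) [AddCommGroup X] [Module R X] [Module A X] [IsScalarTower R A X],
      A →ₐ[R] Module.End κ (X ⧸ m • (⊤ : Submodule R X)) := fun X _ _ _ _ =>
    { toFun := fun a => LinearMap.extendScalarsOfSurjective Ideal.Quotient.mk_surjective
        (Submodule.mapQ _ _ (Algebra.lsmul R R X a) (hstable X a))
      map_one' := LinearMap.ext fun x => Submodule.Quotient.induction_on _ x fun y => by simp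
      map_mul' := fun a b => LinearMap.ext fun x => Submodule.Quotient.induction_on _ x fun y => by
        simp [mul_smul]
      map_zero' := LinearMap.ext fun x => Submodule.Quotient.induction_on _ x fun y => by simp
      map_add' := fun a b => LinearMap.ext fun x => Submodule.Quotient.induction_on _ x fun y => by
        simp [add_smul]
      commutes' := fun r => LinearMap.ext fun x => Submodule.Quotient.induction_on _ x fun y => by
        simp }
  let ΛM : κ ⊗[R] A →ₐ[κ] Module.End κ (M ⧸ m • (⊤ : Submodule R M)) :=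
    Algebra.TensorProduct.lift (Algebra.ofId κ _) (Lm M) fun c a => Algebra.commutes c _
  let ΛN : κ ⊗[R] A →ₐ[κ] Module.End κ (N ⧸ m • (⊤ : Submodule R N)) :=
    Algebra.TensorProduct.lift (Algebra.ofId κ _) (Lm N) fun c a => Algebra.commutes c _
  letI : Module (κ ⊗[R] A) (M ⧸ m • (⊤ : Submodule R M)) := Module.compHom _ ΛM.toRingHom
  letI : Module (κ ⊗[R] A) (N ⧸ m • (⊤ : Submodule R N)) := Module.compHom _ ΛN.toRingHom
  have hsmulM : ∀ (a : A) (x : M ⧸ m • (⊤ : Submodule R M)), ((1 : κ) ⊗ₜ[R] a) • x = Lm M a x := fun a x => by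
    show ΛM ((1 : κ) ⊗ₜ[R] a) x = _
    simp [ΛM]
  have hsmulN : ∀ (a : A) (x : N ⧸ m • (⊤ : Submodule R N)), ((1 : κ) ⊗ₜ[R] a) • x = Lm N a x := fun a x => by
    show ΛN ((1 : κ) ⊗ₜ[R] a) x = _
    simp [ΛN]
  haveI : IsScalarTower κ (κ ⊗[R] A) (M ⧸ m • (⊤ : Submodule R M)) := ⟨fun c z x => by
    show ΛM (c • z) x = _
    rw [map_smul]
    rfl⟩
  haveI : IsScalarTower κ (κ ⊗[R] A) (N ⧸ m • (⊤ : Submodule R N)) := ⟨fun c z x => by
    show ΛN (c • z) x = _
    rw [map_smul]
    rfl⟩
  obtain ⟨S, -, hpos, hpow⟩ := CSALib.exists_simple_power.{u, max u v, w} κ (κ ⊗[R] A)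
  haveI : Module.Finite κ (M ⧸ m • (⊤ : Submodule R M)) := Module.Finite.of_restrictScalars_finite R κ _
  haveI : Module.Finite κ (N ⧸ m • (⊤ : Submodule R N)) := Module.Finite.of_restrictScalars_finite R κ _
  haveI := Module.Finite.of_restrictScalars_finite κ (κ ⊗[R] A) (M ⧸ m • (⊤ : Submodule R M))
  haveI := Module.Finite.of_restrictScalars_finite κ (κ ⊗[R] A) (N ⧸ m • (⊤ : Submodule R N))
  obtain ⟨a, ⟨eM⟩⟩ := hpow (M ⧸ m • (⊤ : Submodule R M))
  obtain ⟨b, ⟨eN⟩⟩ := hpow (N ⧸ m • (⊤ : Submodule R N))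
  haveI : Module.Finite κ S :=
    Module.Finite.of_injective (S.subtype.restrictScalars κ) S.injective_subtype
  have hba : b ≤ a := by
    have h1 := (eM.restrictScalars κ).finrank_eq
    have h2 := (eN.restrictScalars κ).finrank_eq
    rw [LGRingLib.finrank_quotient_eq_rankAtStalk M m, Module.finrank_pi_fintype] at h1
    rw [LGRingLib.finrank_quotient_eq_rankAtStalk N m, Module.finrank_pi_fintype] at h2
    rw [h1, h2] at h
    simp only [Finset.sum_const, Finset.card_univ, Fintype.card_fin, smul_eq_mul] at h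
    exact Nat.le_of_mul_le_mul_right h hpos
  let q : (M ⧸ m • (⊤ : Submodule R M)) →ₗ[κ ⊗[R] A] (N ⧸ m • (⊤ : Submodule R N)) :=
    eN.symm.toLinearMap ∘ₗ LinearMap.funLeft (κ ⊗[R] A) S (Fin.castLE hba) ∘ₗ eM.toLinearMap
  have hq : Function.Surjective q := eN.symm.surjective.comp
    ((LinearMap.funLeft_surjective_of_injective (κ ⊗[R] A) S (Fin.castLE hba) (Fin.castLE_injective hba)).comp eM.surjective)
  letI : Module A (N ⧸ m • (⊤ : Submodule R N)) := Module.compHom _ (Lm N).toRingHom
  let π : N →ₗ[A] (N ⧸ m • (⊤ : Submodule R N)) :=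
    { toFun := Submodule.Quotient.mk
      map_add' := fun _ _ => rfl
      map_smul' := fun _ _ => rfl }
  let θ : M →ₗ[A] (N ⧸ m • (⊤ : Submodule R N)) :=
    { toFun := fun x => q (Submodule.Quotient.mk x)
      map_add' := fun x y => by rw [Submodule.Quotient.mk_add, map_add]
      map_smul' := fun c x => by
        rw [show (Submodule.Quotient.mk (c • x) : M ⧸ m • (⊤ : Submodule R M)) =
          ((1 : κ) ⊗ₜ[R] c) • Submodule.Quotient.mk x from (hsmulM c (Submodule.Quotient.mk x)).symm, map_smul,
          hsmulN]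
        rfl }
  obtain ⟨φ, hφ⟩ := Module.projective_lifting_property π θ (Submodule.mkQ_surjective _)
  let qR : M →ₗ[R] (N ⧸ m • (⊤ : Submodule R N)) := (m • (⊤ : Submodule R N)).mkQ ∘ₗ φ.restrictScalars R
  have hqR : Function.Surjective qR := fun y => by
    obtain ⟨x, rfl⟩ := hq y
    obtain ⟨x, rfl⟩ := Submodule.Quotient.mk_surjective _ x
    exact ⟨x, LinearMap.congr_fun hφ x⟩
  obtain ⟨ψ, hψ⟩ := Module.projective_lifting_property qR (m • (⊤ : Submodule R N)).mkQ hqR
  exact ⟨φ, ψ, fun y => (Submodule.Quotient.eq _).1 (LinearMap.congr_fun hψ y)⟩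

/-- Over an LG-ring a larger projective module surjects onto a smaller one. -/
theorem exists_surjective (hR : LGRing.IsLGRing R)
    (h : ∀ (m : Ideal R) (hm : m.IsMaximal),
      Module.rankAtStalk (R := R) N ⟨m, hm.isPrime⟩ ≤ Module.rankAtStalk (R := R) M ⟨m, hm.isPrime⟩) :
    ∃ f : M →ₗ[A] N, Function.Surjective f := by
  classical
  obtain ⟨_, _⟩ := finite_projective_restrict (R := R) A M
  obtain ⟨_, _⟩ := finite_projective_restrict (R := R) A N
  obtain ⟨n, p, hp⟩ := Module.Finite.exists_fin' R N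
  obtain ⟨i, hi⟩ := Module.projective_lifting_property p LinearMap.id hp
  haveI : SMulCommClass A R N := SMulCommClass.symm _ _ _
  obtain ⟨k, P, Q, -, -, hPQ⟩ := Module.Finite.exists_comp_eq_id_of_projective A M
  haveI : Module.Finite R (M →ₗ[A] N) := by
    let T : (Fin k → N) →ₗ[R] (M →ₗ[A] N) :=
      { toFun := fun y => (∑ j, (LinearMap.toSpanSingleton A N (y j)).comp (LinearMap.proj j)).comp Q
        map_add' := fun y z => by ext x; simp [smul_add, Finset.sum_add_distrib]
        map_smul' := fun r y => by ext x; simp [Finset.smul_sum, smul_comm r] }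
    refine Module.Finite.of_surjective T fun f => ⟨fun j => f (P (Pi.single j 1)), LinearMap.ext fun x => ?_⟩
    have hx : P (Q x) = x := LinearMap.congr_fun hPQ x
    conv_rhs => rw [← hx, pi_eq_sum_univ' (Q x)]
    simp [T, map_sum, map_smul]
  obtain ⟨a, f, hf⟩ := Module.Finite.exists_fin (R := R) (M := M →ₗ[A] N)
  obtain ⟨m', p', hp'⟩ := Module.Finite.exists_fin' R M
  haveI : Module.Finite R (N →ₗ[R] M) := Module.Finite.of_surjective (LinearMap.lcomp R M i)
    fun h => ⟨h ∘ₗ p, LinearMap.ext fun x => congrArg h (LinearMap.congr_fun hi x)⟩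
  obtain ⟨b, g, hg⟩ := Module.Finite.exists_fin (R := R) (M := N →ₗ[R] M)
  let fR : Fin a → (M →ₗ[R] N) := fun j => (f j).restrictScalars R
  obtain ⟨s, hs⟩ := LGRingLib.exists_unit_value' hR (LGRingLib.detPoly N M i p g fR) fun m hm => by
    obtain ⟨φ, ψ, h1⟩ := exists_surjective_mod (R := R) (A := A) M N m (h m hm)
    obtain ⟨cf, hcf⟩ := (Submodule.mem_span_range_iff_exists_fun R).mp
      (hf ▸ Submodule.mem_top : φ ∈ Submodule.span R (Set.range f))
    obtain ⟨cg, hcg⟩ := (Submodule.mem_span_range_iff_exists_fun R).mp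
      (hg ▸ Submodule.mem_top : ψ ∈ Submodule.span R (Set.range g))
    refine ⟨Sum.elim cg cf, ?_⟩
    rw [LGRingLib.eval_detPoly]
    simp only [Sum.elim_inl, Sum.elim_inr, hcg]
    have hφ : ∑ j, cf j • fR j = φ.restrictScalars R := by
      rw [← hcf]; ext x; simp [fR]
    rw [hφ]
    exact LGRingLib.det_notMem N i p (φ.restrictScalars R ∘ₗ ψ) m h1
  rw [LGRingLib.eval_detPoly] at hs
  have hb := LGRingLib.bijective_of_isUnit_det N i p hi (_ ∘ₗ _) hs
  refine ⟨∑ j, s (Sum.inr j) • f j, ?_⟩
  rw [show ∑ j, s (Sum.inr j) • fR j = (∑ j, s (Sum.inr j) • f j).restrictScalars R by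
    ext x; simp [fR]] at hb
  exact Function.Surjective.of_comp hb.2

/-- Over an LG-ring projective modules of equal rank are isomorphic. -/
theorem nonempty_linearEquiv_of_rank (hR : LGRing.IsLGRing R)
    (h : ∀ (m : Ideal R) (hm : m.IsMaximal),
      Module.rankAtStalk (R := R) N ⟨m, hm.isPrime⟩ = Module.rankAtStalk (R := R) M ⟨m, hm.isPrime⟩) :
    Nonempty (M ≃ₗ[A] N) := by
  obtain ⟨_, _⟩ := finite_projective_restrict (R := R) A M
  obtain ⟨_, _⟩ := finite_projective_restrict (R := R) A N
  obtain ⟨f, hf⟩ := exists_surjective (R := R) (A := A) M N hR fun m hm => (h m hm).le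
  have hbij : Function.Bijective (f.restrictScalars R) := bijective_of_fibres _ fun m hm => by
    have hs : Function.Surjective ((f.restrictScalars R).baseChange m.ResidueField) :=
      LinearMap.lTensor_surjective m.ResidueField hf
    refine ⟨(LinearMap.injective_iff_surjective_of_finrank_eq_finrank ?_).2 hs, hs⟩
    rw [Ideal.finrank_fiber_eq_rankAtStalk, Ideal.finrank_fiber_eq_rankAtStalk]
    exact (h m hm).symm
  exact ⟨LinearEquiv.ofBijective f hbij⟩

end LG

end Groth.Agent.AzumayaX
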