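import Groth.Agent.AzumayaX.LGCancel
import Mathlib.Topology.LocallyConstant.Basic

/-!
Over a connected base every Azumaya algebra is Brauer equivalent to one without nontrivial idempotents.
-/

universe u v w

set_option linter.style.haveILetI false

namespace Groth.Agent.AzumayaX

open TensorProduct MulOpposite

variable {R : Type u} [CommRing R]

/-- A finite projective module of positive rank is faithful. -/
theorem faithfulSMul_of_rankAtStalk_pos (M : Type v) [AddCommGroup M] [Module R M] [Module.Finite R M]
    [Module.Projective R M] (h : ∀ p, 0 < Module.rankAtStalk (R := R) M p) : FaithfulSMul R M := by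
  haveI : Module.FaithfullyFlat R M :=
    { submodule_ne_top := fun m hm htop => by
        haveI : Subsingleton (m.ResidueField ⊗[R] M) := subsingleton_of_forall_eq 0 fun x => by
          induction x using TensorProduct.induction_on with
          | zero => rfl
          | add a b ha hb => rw [ha, hb, add_zero]
          | tmul s b =>
            have hb : b ∈ m • (⊤ : Submodule R M) := by rw [htop]; exact Submodule.mem_top
            refine Submodule.smul_induction_on hb (fun r hr b' _ => ?_) fun b₁ b₂ h₁ h₂ => ?_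
            · rw [TensorProduct.tmul_smul, ← algebraMap_smul m.ResidueField r,
                Ideal.algebraMap_residueField_eq_zero.2 hr, zero_smul]
            · rw [TensorProduct.tmul_add, h₁, h₂, add_zero]
        have := h ⟨m, hm.isPrime⟩
        rw [← Ideal.finrank_fiber_eq_rankAtStalk] at this
        have h0 : Module.finrank m.ResidueField (m.ResidueField ⊗[R] M) = 0 := Module.finrank_zero_of_subsingleton
        exact this.ne' h0 }
  refine ⟨fun {r r'} hrr => ?_⟩
  have := (Module.FaithfullyFlat.zero_iff_lTensor_zero R M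
    ((LinearMap.lsmul R R r) - (LinearMap.lsmul R R r'))).mpr (by
      ext b
      have e : ∀ c : R, b ⊗ₜ[R] c = (c • b) ⊗ₜ[R] (1 : R) := fun c => by
        rw [TensorProduct.smul_tmul, smul_eq_mul, mul_one]
      simp [sub_eq_zero]
      rw [e r, e r', hrr b])
  simpa [sub_eq_zero] using LinearMap.congr_fun this 1

section Ideal

variable {A : Type u} [Ring A] [Algebra R A] [IsAzumaya R A]

/-- The left ideal of an idempotent. -/
def leftIdeal (z : A) : Submodule A A := LinearMap.range (LinearMap.toSpanSingleton A A z)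

theorem self_mem_leftIdeal (z : A) : z ∈ leftIdeal z := ⟨1, one_mul z⟩

theorem mem_leftIdeal {z y : A} (hz : IsIdempotentElem z) : y ∈ leftIdeal z ↔ y * z = y := by
  constructor
  · rintro ⟨c, rfl⟩
    simp [mul_assoc, hz.eq]
  · intro h
    exact ⟨y, h⟩

/-- The projection onto the left ideal of an idempotent. -/
def toLeftIdeal (z : A) : A →ₗ[A] leftIdeal z := (LinearMap.toSpanSingleton A A z).rangeRestrict

theorem toLeftIdeal_val (z y : A) : ((toLeftIdeal z y : leftIdeal z) : A) = y * z := rfl

theorem finite_projective_leftIdeal {z : A} (hz : IsIdempotentElem z) :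
    Module.Finite A (leftIdeal z) ∧ Module.Projective A (leftIdeal z) :=
  ⟨Module.Finite.range _, Module.Projective.of_split (leftIdeal z).subtype (toLeftIdeal z)
    (LinearMap.ext fun y => Subtype.ext ((mem_leftIdeal hz).1 y.2))⟩

/-- The rank of the left ideal of an idempotent. -/
noncomputable def idealRank (p : PrimeSpectrum R) (z : A) : ℕ :=
  Module.rankAtStalk (R := R) (leftIdeal z) p

theorem idealRank_pos [ConnectedSpace (PrimeSpectrum R)] (p : PrimeSpectrum R) {z : A}
    (hz : IsIdempotentElem z) (hz0 : z ≠ 0) : 0 < idealRank (R := R) p z := by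
  obtain ⟨_, _⟩ := finite_projective_leftIdeal hz
  obtain ⟨_, _⟩ := finite_projective_restrict (R := R) A (leftIdeal z)
  haveI : Module.FinitePresentation R (leftIdeal z) := Module.finitePresentation_of_projective R _
  refine Nat.pos_of_ne_zero fun h0 => ?_
  haveI : Subsingleton (leftIdeal z) := by
    rw [← Module.rankAtStalk_eq_zero_iff_subsingleton (R := R)]
    funext q
    exact ((Module.isLocallyConstant_rankAtStalk (R := R) (M := leftIdeal z)).apply_eq_of_preconnectedSpace q p).trans h0
  exact hz0 (congrArg Subtype.val (Subsingleton.elim (⟨z, self_mem_leftIdeal z⟩ : leftIdeal z) 0))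

theorem exists_minimal_idempotent [ConnectedSpace (PrimeSpectrum R)] :
    ∃ ε : A, IsIdempotentElem ε ∧ ε ≠ 0 ∧ ∀ b : A, IsIdempotentElem b → b * ε = b → ε * b = b → b = 0 ∨ b = ε := by
  classical
  obtain ⟨p⟩ : Nonempty (PrimeSpectrum R) := inferInstance
  haveI : Nontrivial R := by
    refine nontrivial_of_ne (1 : R) 0 fun h => p.isPrime.ne_top ((Ideal.eq_top_iff_one _).2 (h ▸ p.asIdeal.zero_mem))
  haveI : Nontrivial A := (FaithfulSMul.algebraMap_injective R A).nontrivial
  have hex : ∃ d, ∃ ε : A, IsIdempotentElem ε ∧ ε ≠ 0 ∧ idealRank (R := R) p ε = d :=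
    ⟨_, 1, IsIdempotentElem.one, one_ne_zero, rfl⟩
  obtain ⟨ε, hε, hε0, hd⟩ := Nat.find_spec hex
  refine ⟨ε, hε, hε0, fun b hb hbr hbl => ?_⟩
  by_contra hcon
  push Not at hcon
  obtain ⟨hb0, hbε⟩ := hcon
  have hb' : IsIdempotentElem (ε - b) := by
    show (ε - b) * (ε - b) = ε - b
    rw [sub_mul, mul_sub, mul_sub, hε.eq, hbl, hbr, hb.eq]; abel
  have hb'0 : ε - b ≠ 0 := sub_ne_zero.2 (Ne.symm hbε)
  obtain ⟨_, _⟩ := finite_projective_leftIdeal hb
  obtain ⟨_, _⟩ := finite_projective_leftIdeal hb'
  obtain ⟨_, _⟩ := finite_projective_restrict (R := R) A (leftIdeal b)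
  obtain ⟨_, _⟩ := finite_projective_restrict (R := R) A (leftIdeal (ε - b))
  have hbb' : b * (ε - b) = 0 := by rw [mul_sub, hbr, hb.eq, sub_self]
  have hb'b : (ε - b) * b = 0 := by rw [sub_mul, hbl, hb.eq, sub_self]
  let θ : leftIdeal ε ≃ₗ[R] leftIdeal b × leftIdeal (ε - b) :=
    { toFun := fun x => (toLeftIdeal b x, toLeftIdeal (ε - b) x)
      map_add' := fun x y => Prod.ext (by simp) (by simp)
      map_smul' := fun r x => Prod.ext (Subtype.ext (by simp [toLeftIdeal_val, smul_mul_assoc]))
        (Subtype.ext (by simp [toLeftIdeal_val, smul_mul_assoc]))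
      invFun := fun y => ⟨y.1 + y.2, (mem_leftIdeal hε).2 (by
        rw [add_mul, ← (mem_leftIdeal hb).1 y.1.2, ← (mem_leftIdeal hb').1 y.2.2, mul_assoc, mul_assoc, hbr,
          sub_mul, hε.eq, hbr])⟩
      left_inv := fun x => Subtype.ext (by
        simp only [toLeftIdeal_val, ← mul_add, add_sub_cancel]
        exact (mem_leftIdeal hε).1 x.2)
      right_inv := fun y => by
        have h1 := (mem_leftIdeal hb).1 y.1.2
        have h2 := (mem_leftIdeal hb').1 y.2.2
        refine Prod.ext (Subtype.ext ?_) (Subtype.ext ?_)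
        · simp only [toLeftIdeal_val]
          rw [add_mul, h1, ← h2, mul_assoc, hb'b, mul_zero, add_zero]
        · simp only [toLeftIdeal_val]
          rw [add_mul, h2, ← h1, mul_assoc, hbb', mul_zero, zero_add] }
  have hsum : idealRank (R := R) p ε = idealRank (R := R) p b + idealRank (R := R) p (ε - b) := by
    show Module.rankAtStalk (R := R) (leftIdeal ε) p = _
    rw [Module.rankAtStalk_eq_of_equiv θ, Module.rankAtStalk_prod]
    rfl
  have h1 := Nat.find_min' hex ⟨b, hb, hb0, rfl⟩
  have h2 := idealRank_pos (R := R) p hb' hb'0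
  omega

end Ideal

/-- A Brauer equivalent algebra without nontrivial idempotents. -/
theorem exists_reduced (R : Type u) [CommRing R] [ConnectedSpace (PrimeSpectrum R)] (A : Type u) [Ring A]
    [Algebra R A] [IsAzumaya R A] :
    ∃ (B : Type u) (_ : Ring B) (_ : Algebra R B) (_ : IsAzumaya R B) (P Q : Type u) (_ : AddCommGroup P)
      (_ : Module R P) (_ : AddCommGroup Q) (_ : Module R Q),
      (∀ b : B, IsIdempotentElem b → b = 0 ∨ b = 1) ∧ Module.Finite R P ∧ Module.Projective R P ∧
      FaithfulSMul R P ∧ Module.Finite R Q ∧ Module.Projective R Q ∧ FaithfulSMul R Q ∧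
      Nonempty (A ⊗[R] Module.End R P ≃ₐ[R] B ⊗[R] Module.End R Q) := by
  classical
  obtain ⟨ε, hε, hε0, hmin⟩ := exists_minimal_idempotent (R := R) (A := A)
  let I := leftIdeal ε
  obtain ⟨_, _⟩ := finite_projective_leftIdeal hε
  obtain ⟨_, _⟩ := finite_projective_restrict (R := R) A I
  haveI : SMulCommClass A R I := SMulCommClass.symm _ _ _
  let εI : I := ⟨ε, self_mem_leftIdeal ε⟩
  have hI : ∀ x : I, (x : A) * ε = x := fun x => (mem_leftIdeal hε).1 x.2
  have hexp : ∀ (φ : Module.End A I) (x : I), (φ x : A) = (x : A) * (φ εI : A) := fun φ x => by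
    have : x = (x : A) • εI := Subtype.ext (hI x).symm
    conv_lhs => rw [this, map_smul]
    rfl
  have hεl : ∀ φ : Module.End A I, ε * (φ εI : A) = (φ εI : A) := fun φ => (hexp φ εI).symm
  let ev : Module.End A I →ₗ[R] A :=
    { toFun := fun φ => (φ εI : A)
      map_add' := fun φ ψ => rfl
      map_smul' := fun r φ => rfl }
  let corner : A →ₗ[R] Module.End A I :=
    { toFun := fun a => (toLeftIdeal ε).comp
        ((LinearMap.toSpanSingleton A A (ε * a)).comp I.subtype)
      map_add' := fun a b => LinearMap.ext fun x => Subtype.ext (by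
        simp [toLeftIdeal_val, mul_add, add_mul])
      map_smul' := fun r a => LinearMap.ext fun x => Subtype.ext (by
        simp [toLeftIdeal_val, mul_smul_comm, smul_mul_assoc]) }
  have hcorner : ∀ (a : A) (x : I), (corner a x : A) = (x : A) * a * ε := fun a x => by
    show (x : A) * (ε * a) * ε = _
    rw [← mul_assoc, hI]
  have hcev : ∀ φ : Module.End A I, corner (ev φ) = φ := fun φ => LinearMap.ext fun x => Subtype.ext (by
    rw [hcorner]
    show (x : A) * (φ εI : A) * ε = _
    rw [mul_assoc, hI, ← hexp])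
  let ι : (Module.End A I)ᵐᵒᵖ →ₗ[R] A := ev ∘ₗ (opLinearEquiv R).symm.toLinearMap
  let π : A →ₗ[R] (Module.End A I)ᵐᵒᵖ := (opLinearEquiv R).toLinearMap ∘ₗ corner
  have hπι : ∀ x, π (ι x) = x := fun x => by simp [π, ι, hcev]
  have hI0 : ∀ p, 0 < Module.rankAtStalk (R := R) I p := fun p => idealRank_pos (R := R) p hε hε0
  haveI : FaithfulSMul R I := faithfulSMul_of_rankAtStalk_pos I hI0
  haveI : Module.Projective R (Module.End A I)ᵐᵒᵖ := Module.Projective.of_split ι π (LinearMap.ext hπι)
  haveI : Module.Finite R (Module.End A I)ᵐᵒᵖ := Module.Finite.of_surjective π (Function.LeftInverse.surjective hπι)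
  haveI : FaithfulSMul R (Module.End A I)ᵐᵒᵖ := ⟨fun {r r'} h =>
    FaithfulSMul.eq_of_smul_eq_smul (α := I) fun x => by
      have := congrArg (fun φ : (Module.End A I)ᵐᵒᵖ => φ.unop x) (h 1)
      simpa using this⟩
  have hB : IsAzumaya R (Module.End A I)ᵐᵒᵖ :=
    ⟨mulLeftRight_bijective_of_corner R ι π hπι
      (fun x y => by
        show ((y.unop (x.unop εI) : I) : A) = (x.unop εI : A) * (y.unop εI : A)
        exact hexp _ _)
      (fun m => by
        show (corner m εI : A) = ε * m * ε
        exact hcorner m εI) IsAzumaya.bij⟩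
  let L : A →ₐ[R] Module.End R I := Algebra.lsmul R R I
  let Mid : Module.End A I →ₐ[R] Module.End R I :=
    { toFun := fun φ => φ.restrictScalars R
      map_one' := rfl
      map_mul' := fun _ _ => rfl
      map_zero' := rfl
      map_add' := fun _ _ => rfl
      commutes' := fun r => LinearMap.ext fun x => by simp }
  let Φ : A ⊗[R] Module.End A I →ₐ[R] Module.End R I :=
    Algebra.TensorProduct.lift L Mid fun a φ => LinearMap.ext fun x => by
      show a • φ x = φ (a • x)
      rw [map_smul]
  let J : A ⊗[R] Module.End A I →ₗ[R] A ⊗[R] Aᵐᵒᵖ := ((opLinearEquiv R).toLinearMap ∘ₗ ev).lTensor A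
  let K : A ⊗[R] Aᵐᵒᵖ →ₗ[R] A ⊗[R] Module.End A I := (corner ∘ₗ (opLinearEquiv R).symm.toLinearMap).lTensor A
  have hKJ : ∀ t, K (J t) = t := fun t => by
    induction t using TensorProduct.induction_on with
    | zero => simp
    | add x y hx hy => rw [map_add, map_add, hx, hy]
    | tmul a φ => simp [K, J, hcev]
  have h1 : ∀ t y, AlgHom.mulLeftRight R A (J t) y = (Φ t (toLeftIdeal ε y) : A) := fun t y => by
    induction t using TensorProduct.induction_on with
    | zero => simp
    | add x z hx hz => simp [map_add, hx, hz]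
    | tmul a φ =>
      show AlgHom.mulLeftRight R A (a ⊗ₜ op (φ εI : A)) y = ((a • φ (toLeftIdeal ε y) : I) : A)
      rw [AlgHom.mulLeftRight_apply, unop_op, Submodule.coe_smul, smul_eq_mul, hexp φ (toLeftIdeal ε y),
        toLeftIdeal_val, mul_assoc y, hεl, mul_assoc]
  have h2 : ∀ w (x : I), (Φ (K w) x : A) = AlgHom.mulLeftRight R A w x * ε := fun w x => by
    induction w using TensorProduct.induction_on with
    | zero => simp
    | add a b ha hb => simp [map_add, add_mul, ha, hb]
    | tmul a c =>
      show ((a • corner c.unop x : I) : A) = _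
      rw [Submodule.coe_smul, smul_eq_mul, hcorner, AlgHom.mulLeftRight_apply]
      simp only [mul_assoc]
  have hΦ : Function.Bijective Φ := by
    constructor
    · intro t t' h
      have : J t = J t' := IsAzumaya.bij.1 (LinearMap.ext fun y => by rw [h1, h1, h])
      rw [← hKJ t, this, hKJ]
    · intro g
      obtain ⟨w, hw⟩ := (IsAzumaya.bij (R := R) (A := A)).2
        ((I.subtype.restrictScalars R) ∘ₗ g ∘ₗ ((toLeftIdeal ε).restrictScalars R))
      refine ⟨K w, LinearMap.ext fun x => Subtype.ext ?_⟩
      rw [h2, hw]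
      show (g (toLeftIdeal ε (x : A)) : A) * ε = _
      rw [hI, show toLeftIdeal ε (x : A) = x from Subtype.ext (hI x)]
  haveI := hB
  let ψ : (Module.End A I)ᵐᵒᵖ ⊗[R] (Module.End A I)ᵐᵒᵖᵐᵒᵖ ≃ₐ[R] Module.End R (Module.End A I)ᵐᵒᵖ :=
    AlgEquiv.ofBijective (AlgHom.mulLeftRight R _) IsAzumaya.bij
  let Φ' : A ⊗[R] (Module.End A I)ᵐᵒᵖᵐᵒᵖ ≃ₐ[R] Module.End R I :=
    (Algebra.TensorProduct.congr AlgEquiv.refl (AlgEquiv.opOp R (Module.End A I)).symm).trans
      (AlgEquiv.ofBijective Φ hΦ)
  refine ⟨(Module.End A I)ᵐᵒᵖ, inferInstance, inferInstance, hB, (Module.End A I)ᵐᵒᵖ, I, inferInstance,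
    inferInstance, inferInstance, inferInstance, fun b hb => ?_, inferInstance, inferInstance, inferInstance,
    inferInstance, inferInstance, inferInstance, ⟨?_⟩⟩
  · have hidem : IsIdempotentElem (b.unop εI : A) := by
      show (b.unop εI : A) * (b.unop εI : A) = (b.unop εI : A)
      rw [← hexp]
      have := congrArg (fun φ : (Module.End A I)ᵐᵒᵖ => ((φ.unop εI : I) : A)) hb.eq
      simpa using this
    rcases hmin _ hidem (hI _) (hεl _) with h | h
    · left
      refine unop_injective ?_
      rw [← hcev b.unop]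
      show corner (b.unop εI : A) = 0
      rw [h, map_zero]
    · right
      refine unop_injective ?_
      rw [← hcev b.unop, MulOpposite.unop_one]
      show corner (b.unop εI : A) = 1
      rw [h]
      exact hcev 1
  · exact (Algebra.TensorProduct.congr AlgEquiv.refl ψ.symm).trans
      ((Algebra.TensorProduct.assoc R R R A _ _).symm.trans
        ((Algebra.TensorProduct.congr (Algebra.TensorProduct.comm R A _) AlgEquiv.refl).trans
          ((Algebra.TensorProduct.assoc R R R _ A _).trans
            (Algebra.TensorProduct.congr AlgEquiv.refl Φ'))))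

end Groth.Agent.AzumayaX
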