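import Groth.Agent.AzumayaX.SepElement

/-!
The subalgebra generated by one element of an algebra over a field.
-/

universe u v

namespace Groth.Agent.AzumayaX

open Polynomial

variable {k : Type u} [Field k] {B : Type v} [Ring B] [Algebra k B]

theorem finrank_adjoin_singleton {z : B} (hint : IsIntegral k z) :
    Module.finrank k (Algebra.adjoin k ({z} : Set B)) = (minpoly k z).natDegree := by
  let u₀ : AdjoinRoot (minpoly k z) →ₐ[k] B := CSALib.adjoinRootHom k z
  have hroot : u₀ (AdjoinRoot.root (minpoly k z)) = z := CSALib.adjoinRootHom_root k z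
  have hu₀ : Function.Injective u₀ := by
    rw [injective_iff_map_eq_zero]
    intro y hy
    obtain ⟨F, rfl⟩ := AdjoinRoot.mk_surjective y
    rw [← AdjoinRoot.aeval_eq, ← aeval_algHom_apply, hroot] at hy
    exact AdjoinRoot.mk_eq_zero.2 (minpoly.dvd k z hy)
  have hrange : u₀.range = Algebra.adjoin k ({z} : Set B) := by
    rw [← Algebra.map_top, ← AdjoinRoot.adjoinRoot_eq_top, AlgHom.map_adjoin, Set.image_singleton,
      hroot]
  rw [← hrange, ← (AlgEquiv.ofInjective u₀ hu₀).toLinearEquiv.finrank_eq,
    (AdjoinRoot.powerBasis (minpoly.ne_zero hint)).finrank, AdjoinRoot.powerBasis_dim]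

theorem separable_of_isSeparable_adjoin {z : B}
    (h : Algebra.IsSeparable k (Algebra.adjoin k ({z} : Set B))) : (minpoly k z).Separable := by
  have := h.isSeparable' (⟨z, Algebra.subset_adjoin rfl⟩ : Algebra.adjoin k ({z} : Set B))
  rwa [IsSeparable, ← minpoly.algHom_eq (Algebra.adjoin k ({z} : Set B)).val
    Subtype.val_injective] at this

end Groth.Agent.AzumayaX
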