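import Groth.Agent.AzumayaX.SepAdjoin
import Mathlib.RingTheory.Spectrum.Prime.FreeLocus
import Mathlib.RingTheory.Localization.BaseChange
import Mathlib.RingTheory.LocalRing.ResidueField.Fiber

/-!
Finite étale splitting of an Azumaya algebra near a prime.
-/

universe u v w

set_option linter.style.haveILetI false

namespace Groth.Agent.AzumayaX

open Polynomial TensorProduct

section Scale

variable {k : Type u} [Field k] {B : Type v} [Ring B] [Algebra k B]

theorem minpoly_smul {c : k} (hc : c ≠ 0) {z : B} (hint : IsIntegral k z)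
    (hsep : (minpoly k z).Separable) :
    (minpoly k (c • z)).Separable ∧ (minpoly k (c • z)).natDegree = (minpoly k z).natDegree := by
  let L : k[X] := C c⁻¹ * X
  have hL : aeval (c • z) L = z := by
    simp [L, ← Algebra.smul_def, smul_smul, mul_inv_cancel₀ hc, inv_mul_cancel₀ hc]
  have hd : minpoly k (c • z) ∣ (minpoly k z).comp L :=
    minpoly.dvd k _ (by rw [aeval_comp, hL, minpoly.aeval])
  constructor
  · refine Separable.of_dvd ?_ hd
    obtain ⟨a, b, hab⟩ := hsep
    refine ⟨a.comp L, C c * b.comp L, ?_⟩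
    rw [derivative_comp, show derivative L = C c⁻¹ by simp [L]]
    have h := congrArg (fun F => F.comp L) hab
    simp only [add_comp, mul_comp, one_comp] at h
    have h1 : C c * C c⁻¹ = (1 : k[X]) := by rw [← C_mul, mul_inv_cancel₀ hc, C_1]
    linear_combination h + ((derivative (minpoly k z)).comp L * b.comp L) * h1
  · have hadj : Algebra.adjoin k ({c • z} : Set B) = Algebra.adjoin k ({z} : Set B) := by
      refine le_antisymm (Algebra.adjoin_le ?_) (Algebra.adjoin_le ?_)
      · intro x hx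
        rw [Set.mem_singleton_iff] at hx
        subst hx
        exact Subalgebra.smul_mem _ (Algebra.subset_adjoin (Set.mem_singleton z)) c
      · intro x hx
        rw [Set.mem_singleton_iff] at hx
        subst hx
        have := Subalgebra.smul_mem _
          (Algebra.subset_adjoin (R := k) (Set.mem_singleton (c • x))) c⁻¹
        rwa [smul_smul, inv_mul_cancel₀ hc, one_smul] at this
    have hint' : IsIntegral k (c • z) := hint.smul c
    rw [← finrank_adjoin_singleton hint', hadj, finrank_adjoin_singleton hint]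

end Scale

section Split

variable {R : Type u} [CommRing R] {A : Type u} [Ring A] [Algebra R A] [IsAzumaya R A]

/-- A hom from a base change of an Azumaya algebra to a matrix algebra of the same rank is bijective. -/
theorem algHom_matrix_bijective [Module.Free R A] {r : ℕ} (hA : Module.finrank R A = r ^ 2)
    (E : Type u) [CommRing E] [Algebra R E] (Φ : E ⊗[R] A →ₐ[E] Matrix (Fin r) (Fin r) E) :
    Function.Bijective Φ := by
  refine bijective_of_fibres Φ.toLinearMap fun m _ => ?_
  let K := m.ResidueField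
  haveI := isAzumaya_baseChange R E A
  haveI := isAzumaya_baseChange R K A
  haveI : Nontrivial E := (algebraMap E K).domain_nontrivial
  haveI : Nontrivial R := (algebraMap R E).domain_nontrivial
  obtain ⟨-, hsimple⟩ := fibre_of_isAzumaya (R := E) (E ⊗[R] A) K
  haveI : Nonempty (Fin r) := by
    refine ⟨⟨0, Nat.pos_of_ne_zero fun h0 => ?_⟩⟩
    haveI := nontrivial_of_isAzumaya K (K ⊗[R] A)
    have h := Module.finrank_pos (R := K) (M := K ⊗[R] A)
    rw [Module.finrank_baseChange, hA, h0] at h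
    exact absurd h (by norm_num)
  haveI : Nontrivial (K ⊗[E] Matrix (Fin r) (Fin r) E) :=
    Module.nontrivial_of_finrank_pos (R := K) (by
      rw [Module.finrank_baseChange, Module.finrank_matrix, Module.finrank_self, Fintype.card_fin,
        mul_one]
      exact Nat.mul_pos (Fin.pos' (n := r)) (Fin.pos' (n := r)))
  let ΦK : K ⊗[E] (E ⊗[R] A) →ₐ[K] K ⊗[E] Matrix (Fin r) (Fin r) E :=
    Algebra.TensorProduct.map (AlgHom.id K K) Φ
  have hinj : Function.Injective ΦK := ΦK.toRingHom.injective
  have hbij : Function.Bijective ΦK.toLinearMap := by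
    refine ⟨hinj, (LinearMap.injective_iff_surjective_of_finrank_eq_finrank ?_).1 hinj⟩
    rw [Module.finrank_baseChange, Module.finrank_baseChange, Module.finrank_baseChange, hA,
      Module.finrank_matrix, Module.finrank_self, Fintype.card_fin, mul_one, sq]
  have heq : ∀ x, Φ.toLinearMap.baseChange K x = ΦK x := fun x => by
    induction x using TensorProduct.induction_on with
    | zero => simp
    | add x y hx hy => rw [map_add, map_add, hx, hy]
    | tmul c y => rfl
  rw [show (⇑(Φ.toLinearMap.baseChange K) : _ → _) = ⇑ΦK.toLinearMap from funext heq]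
  exact hbij

/-- A monic root with a spanning family of translates of its powers splits the algebra. -/
theorem split_of_powers {r : ℕ} (P : R[X]) (hP : P.Monic) (hdeg : P.natDegree = r) (a : A)
    (ha : aeval a P = 0) (b : Fin r → A)
    (hl : Function.Bijective (Fintype.linearCombination R fun ij : Fin r × Fin r =>
      b ij.2 * a ^ (ij.1 : ℕ))) :
    Nonempty ((AdjoinRoot P ⊗[R] A) ≃ₐ[AdjoinRoot P] Matrix (Fin r) (Fin r) (AdjoinRoot P)) := by
  classical
  rcases subsingleton_or_nontrivial R with hR | hR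
  · haveI := Module.subsingleton R (AdjoinRoot P)
    haveI := Module.subsingleton R (AdjoinRoot P ⊗[R] A)
    haveI := Module.subsingleton R (Matrix (Fin r) (Fin r) (AdjoinRoot P))
    exact ⟨{ toFun := 0, invFun := 0, left_inv := fun _ => Subsingleton.elim _ _,
             right_inv := fun _ => Subsingleton.elim _ _, map_mul' := fun _ _ => Subsingleton.elim _ _,
             map_add' := fun _ _ => Subsingleton.elim _ _, commutes' := fun _ => Subsingleton.elim _ _ }⟩
  let e := LinearEquiv.ofBijective _ hl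
  haveI : Module.Free R A := Module.Free.of_equiv e
  have hA : Module.finrank R A = r ^ 2 := by
    rw [← e.finrank_eq, Module.finrank_fintype_fun_eq_card, Fintype.card_prod, Fintype.card_fin, sq]
  let u : AdjoinRoot P →ₐ[R] A :=
    Ideal.Quotient.liftₐ (Ideal.span {P}) (aeval a) fun x hx => by
      obtain ⟨y, rfl⟩ := Ideal.mem_span_singleton'.1 hx
      simp [ha]
  have huroot : u (AdjoinRoot.root P) = a := by show aeval a (X : R[X]) = a; simp
  letI : SMul (AdjoinRoot P) A := ⟨fun x y => y * u x⟩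
  have hsmul : ∀ (x : AdjoinRoot P) (y : A), x • y = y * u x := fun _ _ => rfl
  letI : Module (AdjoinRoot P) A :=
    { one_smul := fun y => by rw [hsmul, map_one, mul_one]
      mul_smul := fun x x' y => by rw [hsmul, hsmul, hsmul, mul_comm x, map_mul, mul_assoc]
      smul_zero := fun x => by rw [hsmul, zero_mul]
      smul_add := fun x y y' => by rw [hsmul, hsmul, hsmul, add_mul]
      add_smul := fun x x' y => by rw [hsmul, hsmul, hsmul, map_add, mul_add]
      zero_smul := fun y => by rw [hsmul, map_zero, mul_zero] }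
  haveI : IsScalarTower R (AdjoinRoot P) A := ⟨fun c x y => by
    rw [hsmul, hsmul, map_smul, mul_smul_comm]⟩
  haveI : SMulCommClass (AdjoinRoot P) A A := ⟨fun x y z => by
    rw [hsmul, hsmul, smul_eq_mul, smul_eq_mul, mul_assoc]⟩
  haveI : SMulCommClass R (AdjoinRoot P) A := ⟨fun c x y => by rw [hsmul, hsmul, smul_mul_assoc]⟩
  haveI : SMulCommClass (AdjoinRoot P) R A := SMulCommClass.symm _ _ _
  haveI : SMulCommClass A (AdjoinRoot P) A := SMulCommClass.symm _ _ _
  let ψ : (Fin r → AdjoinRoot P) →ₗ[AdjoinRoot P] A := Fintype.linearCombination (AdjoinRoot P) b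
  have hψsurj : Function.Surjective ψ := by
    have hrange : ∀ ij : Fin r × Fin r,
        b ij.2 * a ^ (ij.1 : ℕ) ∈ LinearMap.range (ψ.restrictScalars R) := fun ij =>
      ⟨Pi.single ij.2 (AdjoinRoot.root P ^ (ij.1 : ℕ)), by
        simp [ψ, Fintype.linearCombination_apply_single, hsmul, huroot]⟩
    intro y
    obtain ⟨x, rfl⟩ := hl.2 y
    rw [Fintype.linearCombination_apply]
    obtain ⟨z, hz⟩ := (Submodule.sum_mem _ fun ij _ => Submodule.smul_mem _ (x ij) (hrange ij) :
      (∑ ij, x ij • (b ij.2 * a ^ (ij.1 : ℕ))) ∈ LinearMap.range (ψ.restrictScalars R))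
    exact ⟨z, hz⟩
  have hψ : Function.Bijective ψ := by
    haveI : Module.Finite R (AdjoinRoot P) := hP.finite_adjoinRoot
    haveI : Module.Free R (AdjoinRoot P) := hP.free_adjoinRoot
    haveI : Module.Finite R A := Module.Finite.equiv e
    let θ : (Fin r → AdjoinRoot P) ≃ₗ[R] A := LinearEquiv.ofFinrankEq _ _ (by
      rw [Module.finrank_pi_fintype, hA, (AdjoinRoot.powerBasis' hP).finrank, AdjoinRoot.powerBasis'_dim,
        hdeg]
      simp [sq])
    have h : Function.Bijective ((ψ.restrictScalars R).comp θ.symm.toLinearMap) :=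
      OrzechProperty.bijective_of_surjective_endomorphism _ (hψsurj.comp θ.symm.surjective)
    exact ⟨fun x y hxy => θ.injective (h.1 (by simpa using hxy)), hψsurj⟩
  let L : A →ₐ[R] Module.End (AdjoinRoot P) A :=
    { toFun := fun x => DistribSMul.toLinearMap (AdjoinRoot P) A x
      map_one' := LinearMap.ext fun x => one_mul x
      map_mul' := fun x y => LinearMap.ext fun z => mul_assoc x y z
      map_zero' := LinearMap.ext fun x => zero_mul x
      map_add' := fun x y => LinearMap.ext fun z => add_mul x y z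
      commutes' := fun c => LinearMap.ext fun x => by
        show algebraMap R A c * x = c • x
        rw [Algebra.smul_def] }
  let B : Module.Basis (Fin r) (AdjoinRoot P) A :=
    Module.Basis.ofEquivFun (LinearEquiv.ofBijective ψ hψ).symm
  let Φ : AdjoinRoot P ⊗[R] A →ₐ[AdjoinRoot P] Matrix (Fin r) (Fin r) (AdjoinRoot P) :=
    (algEquivMatrix B).toAlgHom.comp
      (Algebra.TensorProduct.lift (Algebra.ofId (AdjoinRoot P) (Module.End (AdjoinRoot P) A)) L
        fun x y => Algebra.commutes x (L y))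
  exact ⟨AlgEquiv.ofBijective Φ (algHom_matrix_bijective hA (AdjoinRoot P) Φ)⟩

end Split

section Fiber

theorem exists_smul_eq_one_tmul {R : Type u} [CommRing R] (p : Ideal R) [p.IsPrime] {M : Type v}
    [AddCommGroup M] [Module R M] (z : p.ResidueField ⊗[R] M) :
    ∃ s ∉ p, ∃ m : M, s • z = (1 : p.ResidueField) ⊗ₜ[R] m := by
  induction z using TensorProduct.induction_on with
  | zero => exact ⟨1, fun h => (‹p.IsPrime›).ne_top ((Ideal.eq_top_iff_one p).2 h), 0, by simp⟩
  | add x y hx hy =>
    obtain ⟨s, hs, m, hm⟩ := hx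
    obtain ⟨t, ht, n, hn⟩ := hy
    refine ⟨s * t, fun h => ((‹p.IsPrime›).mem_or_mem h).elim hs ht, t • m + s • n, ?_⟩
    rw [smul_add, mul_comm s t, mul_smul, hm, mul_comm t s, mul_smul, hn, TensorProduct.tmul_add,
      TensorProduct.tmul_smul, TensorProduct.tmul_smul]
  | tmul c m =>
    obtain ⟨⟨x, ⟨s, hs⟩⟩, h⟩ := IsLocalization.surj (nonZeroDivisors (R ⧸ p)) c
    obtain ⟨x, rfl⟩ := Ideal.Quotient.mk_surjective x
    obtain ⟨s, rfl⟩ := Ideal.Quotient.mk_surjective s
    rw [Ideal.algebraMap_quotient_residueField_mk, Ideal.algebraMap_quotient_residueField_mk] at h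
    refine ⟨s, fun hmem => nonZeroDivisors.ne_zero hs (Ideal.Quotient.eq_zero_iff_mem.2 hmem), x • m, ?_⟩
    rw [TensorProduct.smul_tmul', TensorProduct.tmul_smul, TensorProduct.smul_tmul', Algebra.smul_def,
      Algebra.smul_def, mul_one, mul_comm, h]

end Fiber

section Near

variable (R : Type u) [CommRing R] (A : Type u) [Ring A] [Algebra R A] [IsAzumaya R A]
  (p : Ideal R) [p.IsPrime]

/-- A separable element of the fibre lifts to a root of a monic polynomial. -/
theorem exists_monic_root_near {r : ℕ} (hA : Module.finrank p.ResidueField (p.ResidueField ⊗[R] A) = r ^ 2)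
    (hr : 0 < r) :
    ∃ (a : A) (P : R[X]), P.Monic ∧ P.natDegree = r ∧ aeval a P = 0 ∧
      P.map (algebraMap R p.ResidueField) = minpoly p.ResidueField ((1 : p.ResidueField) ⊗ₜ[R] a) ∧
      (minpoly p.ResidueField ((1 : p.ResidueField) ⊗ₜ[R] a)).Separable := by
  classical
  let κ := p.ResidueField
  let Rp := Localization.AtPrime p
  haveI := isAzumaya_baseChange R κ A
  obtain ⟨hc, hs⟩ := fibre_of_isAzumaya (R := R) A κ
  obtain ⟨z, hz1, hz2⟩ : ∃ z : κ ⊗[R] A, (minpoly κ z).Separable ∧ (minpoly κ z).natDegree = r := by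
    rcases finite_or_infinite κ with h | h
    · exact exists_separable_of_finite hA
    · exact exists_separable_of_infinite hA
  obtain ⟨s, hs, a₀, ha₀⟩ := exists_smul_eq_one_tmul p z
  have hz0 : (minpoly κ ((1 : κ) ⊗ₜ[R] a₀)).Separable ∧
      (minpoly κ ((1 : κ) ⊗ₜ[R] a₀)).natDegree = r := by
    rw [← ha₀, ← algebraMap_smul κ s z]
    have h := minpoly_smul (c := algebraMap R κ s) (fun h => hs (Ideal.algebraMap_residueField_eq_zero.1 h))
      (Algebra.IsIntegral.isIntegral z) hz1
    exact ⟨h.1, h.2.trans hz2⟩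
  haveI := isAzumaya_baseChange R Rp A
  haveI : Module.Free Rp (Rp ⊗[R] A) := Module.free_of_flat_of_isLocalRing
  let cB : κ ⊗[Rp] (Rp ⊗[R] A) ≃ₐ[κ] κ ⊗[R] A := cancelAlg Rp κ A
  have hcB : cB ((1 : κ) ⊗ₜ[Rp] ((1 : Rp) ⊗ₜ[R] a₀)) = (1 : κ) ⊗ₜ[R] a₀ := by
    simp [cB, cancelAlg]
  have hAp : Module.finrank Rp (Rp ⊗[R] A) = r ^ 2 := by
    rw [← Module.finrank_baseChange (R := κ) (S := Rp), cB.toLinearEquiv.finrank_eq, hA]
  have hmin : minpoly κ ((1 : κ) ⊗ₜ[Rp] ((1 : Rp) ⊗ₜ[R] a₀)) = minpoly κ ((1 : κ) ⊗ₜ[R] a₀) := by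
    rw [← hcB]
    refine eq_of_monic_of_associated (minpoly.monic (Algebra.IsIntegral.isIntegral _))
      (minpoly.monic (Algebra.IsIntegral.isIntegral _)) (associated_of_dvd_dvd (minpoly.dvd κ _ ?_) (minpoly.dvd κ _ ?_))
    · rw [← map_eq_zero_iff cB cB.injective, ← aeval_algHom_apply]
      exact minpoly.aeval κ _
    · rw [aeval_algHom_apply]
      exact (congrArg cB (minpoly.aeval κ _)).trans (map_zero _)
  obtain ⟨-, E, _, _, -, -, -, -, hspan, -⟩ := powers_of_separable (R := Rp) hAp ((1 : Rp) ⊗ₜ[R] a₀)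
    (by show (minpoly κ ((1 : κ) ⊗ₜ[Rp] ((1 : Rp) ⊗ₜ[R] a₀))).Separable; rw [hmin]; exact hz0.1)
    (by show (minpoly κ ((1 : κ) ⊗ₜ[Rp] ((1 : Rp) ⊗ₜ[R] a₀))).natDegree = r; rw [hmin]; exact hz0.2)
  obtain ⟨c, hc'⟩ := (Submodule.mem_span_range_iff_exists_fun Rp).1 hspan
  obtain ⟨⟨t, ht⟩, hint⟩ := IsLocalization.exist_integer_multiples_of_finite p.primeCompl c
  choose d hd using hint
  have heq : TensorProduct.mk R Rp A 1 (t • a₀ ^ r) = TensorProduct.mk R Rp A 1 (∑ i, d i • a₀ ^ (i : ℕ)) := by
    simp only [map_smul, map_sum, TensorProduct.mk_apply]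
    rw [← one_pow r, ← Algebra.TensorProduct.tmul_pow, one_pow, ← hc', Finset.smul_sum]
    refine Finset.sum_congr rfl fun i _ => ?_
    rw [Algebra.TensorProduct.tmul_pow, one_pow, ← algebraMap_smul Rp (d i), hd i, smul_assoc]
  obtain ⟨⟨t', ht'⟩, hkill⟩ := IsLocalizedModule.exists_of_eq (S := p.primeCompl) heq
  replace hkill : t' • t • a₀ ^ r = t' • ∑ i, d i • a₀ ^ (i : ℕ) := hkill
  have htt : t' * t ∉ p := fun h => ((‹p.IsPrime›).mem_or_mem h).elim ht' ht
  let T : R[X] := ∑ i : Fin r, C ((t' * t) ^ (r - 1 - (i : ℕ)) * (t' * d i)) * X ^ (i : ℕ)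
  have hT : T.degree < r := degree_sum_fin_lt _
  haveI : Nontrivial R := ⟨⟨t' * t, 0, fun h => htt (h ▸ p.zero_mem)⟩⟩
  have hPdeg : (X ^ r - T).natDegree = r := natDegree_eq_of_degree_eq_some (by
    rw [degree_sub_eq_left_of_degree_lt (by rwa [degree_X_pow]), degree_X_pow])
  have hroot : aeval ((t' * t) • a₀) (X ^ r - T) = 0 := by
    rw [map_sub, map_pow, aeval_X, sub_eq_zero]
    calc ((t' * t) • a₀) ^ r = (t' * t) ^ (r - 1) • (t' • t • a₀ ^ r) := by
          rw [smul_pow, smul_smul, smul_smul]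
          congr 1
          rw [mul_assoc, ← pow_succ, show r - 1 + 1 = r by omega]
      _ = ∑ i : Fin r, ((t' * t) ^ (r - 1) * (t' * d i)) • a₀ ^ (i : ℕ) := by
          rw [hkill, Finset.smul_sum, Finset.smul_sum]
          exact Finset.sum_congr rfl fun i _ => by rw [smul_smul, smul_smul, mul_assoc]
      _ = aeval ((t' * t) • a₀) T := by
          simp only [T, map_sum]
          refine Finset.sum_congr rfl fun i _ => ?_
          rw [map_mul (aeval _), aeval_C, map_pow (aeval _), aeval_X, ← Algebra.smul_def, smul_pow, smul_smul]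
          congr 1
          have hi : r - 1 = (r - 1 - (i : ℕ)) + (i : ℕ) := by have := i.isLt; omega
          conv_lhs => rw [hi, pow_add]
          ring
  have hm : (X ^ r - T).Monic := monic_X_pow_sub hT
  have hfin := minpoly_smul (c := algebraMap R κ (t' * t))
    (fun h => htt (Ideal.algebraMap_residueField_eq_zero.1 h))
    (Algebra.IsIntegral.isIntegral ((1 : κ) ⊗ₜ[R] a₀)) hz0.1
  rw [algebraMap_smul, ← TensorProduct.tmul_smul] at hfin
  refine ⟨(t' * t) • a₀, X ^ r - T, hm, hPdeg, hroot, ?_, hfin.1⟩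
  refine (eq_of_monic_of_associated (minpoly.monic (Algebra.IsIntegral.isIntegral _)) (hm.map _) ?_).symm
  refine associated_of_dvd_of_natDegree_le (minpoly.dvd κ _ ?_) (hm.map _).ne_zero ?_
  · rw [aeval_map_algebraMap]
    show aeval ((Algebra.TensorProduct.includeRight : A →ₐ[R] κ ⊗[R] A) ((t' * t) • a₀)) (X ^ r - T) = 0
    rw [aeval_algHom_apply, hroot, map_zero]
  · rw [hm.natDegree_map, hPdeg, hfin.2, hz0.2]

/-- Translates of the powers of a separable element span the fibre. -/
theorem exists_spanning_near {r : ℕ}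
    (hA : Module.finrank p.ResidueField (p.ResidueField ⊗[R] A) = r ^ 2) (a : A)
    (hsep : (minpoly p.ResidueField ((1 : p.ResidueField) ⊗ₜ[R] a)).Separable)
    (hdeg : (minpoly p.ResidueField ((1 : p.ResidueField) ⊗ₜ[R] a)).natDegree = r) :
    ∃ b : Fin r → A, Function.Surjective ((Fintype.linearCombination R fun ij : Fin r × Fin r =>
      b ij.2 * a ^ (ij.1 : ℕ)).baseChange p.ResidueField) := by
  classical
  let κ := p.ResidueField
  haveI := isAzumaya_baseChange R κ A
  let z : κ ⊗[R] A := (1 : κ) ⊗ₜ[R] a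
  let Q := minpoly κ z
  have hQ : Q.Monic := minpoly.monic (Algebra.IsIntegral.isIntegral z)
  haveI : Algebra.Etale κ (AdjoinRoot Q) := etale_adjoinRoot hQ hsep
  haveI : Module.Finite κ (AdjoinRoot Q) := hQ.finite_adjoinRoot
  haveI : Module.Free κ (AdjoinRoot Q) := hQ.free_adjoinRoot
  let u₀ : AdjoinRoot Q →ₐ[κ] κ ⊗[R] A := CSALib.adjoinRootHom κ z
  have hroot : u₀ (AdjoinRoot.root Q) = z := CSALib.adjoinRootHom_root κ z
  have hu₀ : Function.Injective u₀ := by
    rw [injective_iff_map_eq_zero]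
    intro y hy
    obtain ⟨F, rfl⟩ := AdjoinRoot.mk_surjective y
    rw [← AdjoinRoot.aeval_eq, ← aeval_algHom_apply, hroot] at hy
    exact AdjoinRoot.mk_eq_zero.2 (minpoly.dvd κ z hy)
  have hinj : Function.Injective (u₀.toLinearMap.lTensor (IsLocalRing.ResidueField κ)) :=
    Module.Flat.lTensor_preserves_injective_linearMap _ hu₀
  letI : SMul (AdjoinRoot Q) (κ ⊗[R] A) := ⟨fun x y => y * u₀ x⟩
  have hsmul : ∀ (x : AdjoinRoot Q) (y : κ ⊗[R] A), x • y = y * u₀ x := fun _ _ => rfl
  letI : Module (AdjoinRoot Q) (κ ⊗[R] A) :=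
    { one_smul := fun y => by rw [hsmul, map_one, mul_one]
      mul_smul := fun x x' y => by rw [hsmul, hsmul, hsmul, mul_comm x, map_mul, mul_assoc]
      smul_zero := fun x => by rw [hsmul, zero_mul]
      smul_add := fun x y y' => by rw [hsmul, hsmul, hsmul, add_mul]
      add_smul := fun x x' y => by rw [hsmul, hsmul, hsmul, map_add, mul_add]
      zero_smul := fun y => by rw [hsmul, map_zero, mul_zero] }
  haveI : IsScalarTower κ (AdjoinRoot Q) (κ ⊗[R] A) := ⟨fun c x y => by
    rw [hsmul, hsmul, map_smul, mul_smul_comm]⟩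
  obtain ⟨hfree, hrk, -⟩ := free_and_split (R := κ) (A := κ ⊗[R] A) (r := r) hA
    (by rw [(AdjoinRoot.powerBasis' hQ).finrank, AdjoinRoot.powerBasis'_dim]; exact hdeg)
    u₀ hinj hsmul
  haveI := hfree
  haveI : Module.Finite (AdjoinRoot Q) (κ ⊗[R] A) :=
    Module.Finite.of_restrictScalars_finite κ (AdjoinRoot Q) (κ ⊗[R] A)
  haveI := nontrivial_of_isAzumaya κ (κ ⊗[R] A)
  haveI : Nontrivial (AdjoinRoot Q) := u₀.toRingHom.domain_nontrivial
  let c : Module.Basis (Fin r) (AdjoinRoot Q) (κ ⊗[R] A) := Module.finBasisOfFinrankEq _ _ hrk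
  choose s hs b hb using fun j => exists_smul_eq_one_tmul p (c j)
  let pb : Module.Basis (Fin r) κ (AdjoinRoot Q) := (AdjoinRoot.powerBasis' hQ).basis.reindex (finCongr (by
    rw [AdjoinRoot.powerBasis'_dim]; exact hdeg))
  refine ⟨b, ?_⟩
  rw [← LinearMap.range_eq_top, ← top_le_iff, ← (pb.smulTower c).span_eq, Submodule.span_le]
  rintro _ ⟨ij, rfl⟩
  have hne : algebraMap R κ (s ij.2) ≠ 0 := fun h =>
    hs ij.2 (Ideal.algebraMap_residueField_eq_zero.1 h)
  refine ⟨(algebraMap R κ (s ij.2))⁻¹ ⊗ₜ[R] Pi.single ij 1, ?_⟩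
  rw [LinearMap.baseChange_tmul, Fintype.linearCombination_apply_single, one_smul,
    Module.Basis.smulTower_apply, show pb ij.1 = AdjoinRoot.root Q ^ (ij.1 : ℕ) by simp [pb], hsmul,
    map_pow, hroot]
  show _ = c ij.2 * ((1 : κ) ⊗ₜ[R] a) ^ (ij.1 : ℕ)
  rw [show c ij.2 = (algebraMap R κ (s ij.2))⁻¹ • ((1 : κ) ⊗ₜ[R] b ij.2) by
    rw [← hb, ← algebraMap_smul κ (s ij.2) (c ij.2), smul_smul, inv_mul_cancel₀ hne, one_smul],
    Algebra.TensorProduct.tmul_pow, one_pow, smul_mul_assoc, Algebra.TensorProduct.tmul_mul_tmul, one_mul,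
    TensorProduct.smul_tmul', smul_eq_mul, mul_one]

/-- Every Azumaya algebra is split by a finite étale cover of a neighbourhood of a given prime. -/
theorem exists_split_near :
    ∃ f : R, f ∉ p ∧ ∃ r : ℕ, 1 ≤ r ∧ ∃ P : (Localization.Away f)[X], P.Monic ∧ P.natDegree = r ∧
      P.Separable ∧ Nonempty ((AdjoinRoot P ⊗[Localization.Away f] (Localization.Away f ⊗[R] A)) ≃ₐ[AdjoinRoot P]
        Matrix (Fin r) (Fin r) (AdjoinRoot P)) := by
  classical
  let κ := p.ResidueField
  haveI := isAzumaya_baseChange R κ A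
  obtain ⟨hc, hs⟩ := fibre_of_isAzumaya (R := R) A κ
  obtain ⟨r, hr, hA⟩ := CSALib.exists_finrank_eq_sq (k := κ) (A := κ ⊗[R] A)
  obtain ⟨a, P, hPm, hPdeg, hroot, hPmap, hsep⟩ := exists_monic_root_near R A p hA hr
  have hQdeg : (minpoly κ ((1 : κ) ⊗ₜ[R] a)).natDegree = r := by
    rw [← hPmap, hPm.natDegree_map, hPdeg]
  obtain ⟨b, hb⟩ := exists_spanning_near R A p hA a hsep hQdeg
  let l : (Fin r × Fin r → R) →ₗ[R] A :=
    Fintype.linearCombination R fun ij : Fin r × Fin r => b ij.2 * a ^ (ij.1 : ℕ)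
  let N := A ⧸ LinearMap.range l
  haveI : Subsingleton (κ ⊗[R] N) := subsingleton_of_forall_eq 0 fun x => by
    obtain ⟨y, rfl⟩ := LinearMap.lTensor_surjective κ (LinearMap.range l).mkQ_surjective x
    obtain ⟨z, rfl⟩ := hb y
    rw [show (l.baseChange κ) z = l.lTensor κ z from rfl, ← LinearMap.lTensor_comp_apply,
      LinearMap.range_mkQ_comp]
    simp
  have hns : (⟨p, inferInstance⟩ : PrimeSpectrum R) ∉ Module.support R N := fun hmem => by
    rw [Module.mem_support_iff_nontrivial_residueField_tensorProduct] at hmem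
    haveI : Nontrivial (κ ⊗[R] N) := hmem
    exact not_subsingleton (κ ⊗[R] N) inferInstance
  rw [Module.mem_support_iff_of_finite, SetLike.not_le_iff_exists] at hns
  obtain ⟨g₁, hg₁, hg₁p⟩ := hns
  haveI : Module.FinitePresentation R A := Module.finitePresentation_of_projective R A
  have hopen := (Module.isLocallyConstant_rankAtStalk (R := R) (M := A)).isOpen_fiber (r ^ 2)
  have hmem : (⟨p, inferInstance⟩ : PrimeSpectrum R) ∈ {q | Module.rankAtStalk A q = r ^ 2} := by
    rw [Set.mem_setOf_eq, ← Ideal.finrank_fiber_eq_rankAtStalk]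
    exact hA
  obtain ⟨_, ⟨g₂, rfl⟩, hg₂p, hg₂⟩ :=
    (PrimeSpectrum.isTopologicalBasis_basic_opens (R := R)).exists_subset_of_mem_open hmem hopen
  let ρ : R := P.resultant (derivative P) r r
  have hρ : ρ ∉ p := fun h => by
    have h1 : algebraMap R κ ρ = 0 := Ideal.algebraMap_residueField_eq_zero.2 h
    rw [← resultant_map_map, ← derivative_map, hPmap] at h1
    obtain ⟨Q, hQ⟩ : ∃ Q, Q = minpoly κ ((1 : κ) ⊗ₜ[R] a) := ⟨_, rfl⟩
    rw [← hQ] at h1 hsep hQdeg
    obtain ⟨e, he⟩ := Nat.exists_eq_add_of_le ((natDegree_derivative_le Q).trans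
      (by omega) : (derivative Q).natDegree ≤ r)
    have h2 := resultant_ne_zero Q (derivative Q) hsep
    rw [hQdeg] at h2
    rw [show Q.resultant (derivative Q) r r = Q.resultant (derivative Q) r ((derivative Q).natDegree + e)
        from congrArg (fun n => Q.resultant (derivative Q) r n) he,
      resultant_add_right_deg _ _ _ _ _ le_rfl,
      show Q.coeff r = 1 from by
        rw [← hQdeg, hQ]; exact (minpoly.monic (Algebra.IsIntegral.isIntegral _)).coeff_natDegree,
      one_pow, one_mul] at h1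
    exact h2 h1
  let f := g₁ * g₂ * ρ
  have hfp : f ∉ p := fun h => ((‹p.IsPrime›).mem_or_mem h).elim
    (fun h' => ((‹p.IsPrime›).mem_or_mem h').elim hg₁p hg₂p) hρ
  let S := Localization.Away f
  have hu : ∀ x : R, x ∣ f → IsUnit (algebraMap R S x) := fun x hx =>
    isUnit_of_dvd_unit (map_dvd (algebraMap R S) hx) (IsLocalization.Away.algebraMap_isUnit f)
  have hfκ : IsUnit (algebraMap R κ f) :=
    isUnit_iff_ne_zero.2 fun h => hfp (Ideal.algebraMap_residueField_eq_zero.1 h)
  haveI : Nontrivial S := (IsLocalization.Away.lift (S := S) f hfκ).domain_nontrivial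
  refine ⟨f, hfp, r, hr, P.map (algebraMap R S), hPm.map _, by rw [hPm.natDegree_map, hPdeg], ?_, ?_⟩
  · obtain ⟨x, y, -, -, hxy⟩ := exists_mul_add_mul_eq_C_resultant P (derivative P)
      (m := r) (n := r) hPdeg.le ((natDegree_derivative_le _).trans (by omega)) (Or.inl (by omega))
    obtain ⟨w, hw⟩ := hu ρ (dvd_mul_left _ _)
    refine ⟨C ((w⁻¹ : Sˣ) : S) * x.map (algebraMap R S), C ((w⁻¹ : Sˣ) : S) * y.map (algebraMap R S), ?_⟩
    have h := congrArg (Polynomial.map (algebraMap R S)) hxy
    rw [Polynomial.map_add, Polynomial.map_mul, Polynomial.map_mul, map_C, ← derivative_map,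
      show P.resultant (derivative P) r r = ρ from rfl, ← hw] at h
    rw [mul_assoc, mul_assoc, ← mul_add, mul_comm (x.map (algebraMap R S)), mul_comm (y.map (algebraMap R S)), h,
      ← C_mul, Units.inv_mul, C_1]
  · haveI := isAzumaya_baseChange R S A
    refine split_of_powers _ (hPm.map _) (by rw [hPm.natDegree_map, hPdeg]) ((1 : S) ⊗ₜ[R] a) ?_
      (fun j => (1 : S) ⊗ₜ[R] b j) ?_
    · rw [aeval_map_algebraMap]
      show aeval ((Algebra.TensorProduct.includeRight : A →ₐ[R] S ⊗[R] A) a) P = 0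
      rw [aeval_algHom_apply, hroot, map_zero]
    · let lS : (Fin r × Fin r → S) →ₗ[S] S ⊗[R] A := Fintype.linearCombination S
        fun ij : Fin r × Fin r => ((1 : S) ⊗ₜ[R] b ij.2) * ((1 : S) ⊗ₜ[R] a) ^ (ij.1 : ℕ)
      show Function.Bijective lS
      have hsurj : Function.Surjective lS := by
        intro x
        induction x using TensorProduct.induction_on with
        | zero => exact ⟨0, map_zero _⟩
        | add x y hx hy =>
          obtain ⟨x', rfl⟩ := hx
          obtain ⟨y', rfl⟩ := hy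
          exact ⟨x' + y', map_add _ _ _⟩
        | tmul s m =>
          obtain ⟨x, hx⟩ : g₁ • m ∈ LinearMap.range l := by
            rw [← Submodule.Quotient.mk_eq_zero, Submodule.Quotient.mk_smul]
            exact Module.mem_annihilator.1 hg₁ _
          obtain ⟨w, hw⟩ := hu g₁ (dvd_mul_of_dvd_left (dvd_mul_right _ _) _)
          refine ⟨(s * ((w⁻¹ : Sˣ) : S)) • (fun ij => algebraMap R S (x ij)), ?_⟩
          rw [map_smul]
          have hcomp : lS (fun ij => algebraMap R S (x ij)) = (1 : S) ⊗ₜ[R] l x := by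
            simp only [lS, l, Fintype.linearCombination_apply, TensorProduct.tmul_sum, TensorProduct.tmul_smul,
              algebraMap_smul]
            refine Finset.sum_congr rfl fun i _ => congrArg (x i • ·) ?_
            show (Algebra.TensorProduct.includeRight : A →ₐ[R] S ⊗[R] A) (b i.2) *
              (Algebra.TensorProduct.includeRight : A →ₐ[R] S ⊗[R] A) a ^ (i.1 : ℕ) =
              (Algebra.TensorProduct.includeRight : A →ₐ[R] S ⊗[R] A) (b i.2 * a ^ (i.1 : ℕ))
            rw [map_mul, map_pow]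
          rw [hcomp, hx, TensorProduct.tmul_smul, TensorProduct.smul_tmul', TensorProduct.smul_tmul']
          congr 1
          rw [show g₁ • (1 : S) = (w : S) by rw [Algebra.smul_def, mul_one, hw], smul_eq_mul, mul_assoc,
            Units.inv_mul, mul_one]
      refine bijective_of_fibres lS fun m _ => ?_
      have hs : Function.Surjective (lS.baseChange m.ResidueField) :=
        LinearMap.lTensor_surjective m.ResidueField hsurj
      refine ⟨(LinearMap.injective_iff_surjective_of_finrank_eq_finrank ?_).2 hs, hs⟩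
      have hq : PrimeSpectrum.comap (algebraMap R S) ⟨m, inferInstance⟩ ∈
          (PrimeSpectrum.basicOpen g₂ : Set (PrimeSpectrum R)) := fun hmem =>
        (‹m.IsMaximal›).ne_top (Ideal.eq_top_of_isUnit_mem _ hmem
          (hu g₂ (dvd_mul_of_dvd_left (dvd_mul_left _ _) _)))
      rw [Module.finrank_baseChange, Module.finrank_fintype_fun_eq_card, Fintype.card_prod, Fintype.card_fin,
        ← sq, ← hg₂ hq, ← Module.rankAtStalk_baseChange, ← Ideal.finrank_fiber_eq_rankAtStalk]

end Near

end Groth.Agent.AzumayaX
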