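import Groth.Agent.AzumayaX.Fibres
import Groth.Agent.EtMil7.Presented
import Mathlib.Algebra.Azumaya.Basic

/-!
Azumaya algebras over a fibre product of rings.
-/

universe u

set_option linter.style.haveILetI false

namespace Groth.Agent.AzumayaX

open TensorProduct

variable {B' B A' A : Type u} [CommRing B'] [CommRing B] [CommRing A'] [CommRing A]
  [Algebra B' B] [Algebra B' A'] [Algebra B A] [Algebra A' A] [Algebra B' A] [IsScalarTower B' B A]
  [IsScalarTower B' A' A]

theorem isAzumaya_of_pair (hsq : EtMil.IsFibreSquare B' B A' A) (D : Type u) [Ring D] [Algebra B' D]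
    [IsAzumaya B (B ⊗[B'] D)] [IsAzumaya A' (A' ⊗[B'] D)] : IsAzumaya B' D := by
  haveI : Module.FinitePresentation B (B ⊗[B'] D) := Module.finitePresentation_of_projective B _
  haveI : Module.FinitePresentation A' (A' ⊗[B'] D) := Module.finitePresentation_of_projective A' _
  haveI := EtMil7.finitePresentation_of_pair hsq D
  haveI := EtMil7.flat_of_flat_baseChange_pair hsq D
  haveI : Module.Projective B' D := Module.Flat.projective_of_finitePresentation
  refine isAzumaya_of_fibres D fun m _ => ?_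
  let κ := m.ResidueField
  have key : ∀ (S : Type u) [CommRing S] [Algebra B' S] [IsAzumaya S (S ⊗[B'] D)] (g : S →ₐ[B'] κ),
      IsAzumaya κ (κ ⊗[B'] D) := by
    intro S _ _ _ g
    letI : Algebra S κ := g.toRingHom.toAlgebra
    haveI : IsScalarTower B' S κ := IsScalarTower.of_algebraMap_eq fun x => (g.commutes x).symm
    haveI := isAzumaya_baseChange S κ (S ⊗[B'] D)
    exact IsAzumaya.of_AlgEquiv _ _ _ (cancelAlg (R := B') S κ D)
  by_cases hK : RingHom.ker (algebraMap B' B) ≤ m
  · have hsurj : Function.Surjective (algebraMap B' B) := (EtMil7.isWeakSquare hsq).surjB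
    refine key B ⟨RingHom.liftOfSurjective (algebraMap B' B) hsurj ⟨algebraMap B' κ, fun x hx =>
      RingHom.mem_ker.2 (Ideal.algebraMap_residueField_eq_zero.2 (hK hx))⟩, fun x => ?_⟩
    exact RingHom.liftOfRightInverse_comp_apply _ _ _ _ x
  · obtain ⟨j, hj, hjm⟩ := SetLike.not_le_iff_exists.1 hK
    rw [RingHom.mem_ker] at hj
    have hex : ∀ a : A', ∃! k : B', algebraMap B' B k = 0 ∧ algebraMap B' A' k = a * algebraMap B' A' j := fun a =>
      EtMil7.existsUnique_ker hsq _ (by
        rw [map_mul, ← IsScalarTower.algebraMap_apply B' A' A, IsScalarTower.algebraMap_apply B' B A, hj,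
          map_zero, mul_zero])
    choose σ hσ hσu using hex
    have hjκ : algebraMap B' κ j ≠ 0 := fun h => hjm (Ideal.algebraMap_residueField_eq_zero.1 h)
    have hext : ∀ x y : B', algebraMap B' B x = algebraMap B' B y → algebraMap B' A' x = algebraMap B' A' y →
        x = y := fun x y h1 h2 => EtMil7.eq_of_square hsq h1 h2
    have hbase : ∀ x : B', σ (algebraMap B' A' x) = x * j := fun x =>
      hext _ _ (by rw [(hσ _).1, map_mul, hj, mul_zero]) (by rw [(hσ _).2, map_mul])
    have hadd : ∀ a b, σ (a + b) = σ a + σ b := fun a b =>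
      hext _ _ (by rw [(hσ _).1, map_add, (hσ a).1, (hσ b).1, add_zero])
        (by rw [(hσ _).2, map_add, (hσ a).2, (hσ b).2, add_mul])
    have hmul : ∀ a b, σ (a * b) * j = σ a * σ b := fun a b =>
      hext _ _ (by rw [map_mul, (hσ _).1, map_mul, (hσ a).1, zero_mul, zero_mul])
        (by rw [map_mul, (hσ _).2, map_mul, (hσ a).2, (hσ b).2]; ring)
    let g : A' →+* κ :=
      { toFun := fun a => algebraMap B' κ (σ a) / algebraMap B' κ j
        map_one' := by rw [← map_one (algebraMap B' A'), hbase, one_mul, div_self hjκ]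
        map_mul' := fun a b => by
          rw [div_mul_div_comm, ← map_mul, ← hmul, map_mul, mul_div_mul_right _ _ hjκ]
        map_zero' := by rw [← map_zero (algebraMap B' A'), hbase, zero_mul, map_zero, zero_div]
        map_add' := fun a b => by rw [hadd, map_add, add_div] }
    refine key A' ⟨g, fun x => ?_⟩
    show algebraMap B' κ (σ (algebraMap B' A' x)) / algebraMap B' κ j = algebraMap B' κ x
    rw [hbase, map_mul, mul_div_assoc, div_self hjκ, mul_one]

theorem isAzumaya_iff_pair (hsq : EtMil.IsFibreSquare B' B A' A) (D : Type u) [Ring D] [Algebra B' D] :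
    IsAzumaya B' D ↔ IsAzumaya B (B ⊗[B'] D) ∧ IsAzumaya A' (A' ⊗[B'] D) := by
  refine ⟨fun _ => ⟨isAzumaya_baseChange B' B D, isAzumaya_baseChange B' A' D⟩, ?_⟩
  rintro ⟨h1, h2⟩
  exact isAzumaya_of_pair hsq D

theorem isAzumaya_of_glue (hsq : EtMil.IsFibreSquare B' B A' A)
    (N : Type u) [Ring N] [Algebra B N] [Algebra B' N] [IsScalarTower B' B N] [IsAzumaya B N]
    (M' : Type u) [Ring M'] [Algebra A' M'] [Algebra B' M'] [IsScalarTower B' A' M'] [IsAzumaya A' M']
    (φ : A ⊗[B] N ≃ₐ[A] A ⊗[A'] M')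
    (D : Type u) [Ring D] [Algebra B' D] (π₁ : D →ₐ[B'] N) (π₂ : D →ₐ[B'] M')
    (hinj : ∀ d : D, π₁ d = 0 → π₂ d = 0 → d = 0)
    (himg : ∀ (n : N) (m' : M'), φ ((1 : A) ⊗ₜ[B] n) = (1 : A) ⊗ₜ[A'] m' ↔ ∃ d : D, π₁ d = n ∧ π₂ d = m') :
    IsAzumaya B' D := by
  let ψ := φ.toLinearEquiv
  let j : D →ₗ[B'] EtMil.glue B' ψ :=
    LinearMap.codRestrict _ (π₁.toLinearMap.prod π₂.toLinearMap) fun d => (himg _ _).2 ⟨d, rfl, rfl⟩
  have hj : Function.Bijective j := by
    refine ⟨(injective_iff_map_eq_zero j).2 fun d hd => ?_, fun x => ?_⟩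
    · exact hinj d (congrArg (fun x : EtMil.glue B' ψ => (x : N × M').1) hd)
        (congrArg (fun x : EtMil.glue B' ψ => (x : N × M').2) hd)
    · obtain ⟨d, h1, h2⟩ := (himg (x : N × M').1 (x : N × M').2).1 x.2
      exact ⟨d, Subtype.ext (Prod.ext h1 h2)⟩
  let e := LinearEquiv.ofBijective j hj
  let f₁ : B ⊗[B'] D →ₐ[B] N :=
    Algebra.TensorProduct.lift (Algebra.ofId B N) π₁ fun b d => Algebra.commutes b (π₁ d)
  let f₂ : A' ⊗[B'] D →ₐ[A'] M' :=
    Algebra.TensorProduct.lift (Algebra.ofId A' M') π₂ fun b d => Algebra.commutes b (π₂ d)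
  have h₁ : Function.Bijective f₁ := by
    have hfun : ∀ x, f₁ x = LinearMap.liftBaseChange B (EtMil.glueFst B' ψ) ((LinearEquiv.baseChange B' B _ _ e) x) := fun x => by
      induction x using TensorProduct.induction_on with
      | zero => simp
      | add x y hx hy => simp only [map_add, hx, hy]
      | tmul b d => simp [f₁, e, j, Algebra.smul_def]; rfl
    rw [show (⇑f₁) = _ from funext hfun]
    exact (EtMil7.bijective_liftBaseChange_glueFst ψ (EtMil7.isWeakSquare hsq)).comp (LinearEquiv.bijective _)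
  have h₂ : Function.Bijective f₂ := by
    have hfun : ∀ x, f₂ x = LinearMap.liftBaseChange A' (EtMil.glueSnd B' ψ) ((LinearEquiv.baseChange B' A' _ _ e) x) := fun x => by
      induction x using TensorProduct.induction_on with
      | zero => simp
      | add x y hx hy => simp only [map_add, hx, hy]
      | tmul b d => simp [f₂, e, j, Algebra.smul_def]; rfl
    rw [show (⇑f₂) = _ from funext hfun]
    exact (EtMil7.bijective_liftBaseChange_glueSnd ψ (EtMil7.isWeakSquare hsq)).comp (LinearEquiv.bijective _)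
  haveI := IsAzumaya.of_AlgEquiv _ _ _ (AlgEquiv.ofBijective f₁ h₁).symm
  haveI := IsAzumaya.of_AlgEquiv _ _ _ (AlgEquiv.ofBijective f₂ h₂).symm
  exact isAzumaya_of_pair hsq D

end Groth.Agent.AzumayaX
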