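import Groth.Agent.AzumayaX.Antisym
import Groth.Agent.AzumayaX.Cover
import Groth.Agent.AzumayaX.ReducedCharpoly
import Mathlib.LinearAlgebra.PiTensorProduct.Finite

/-!
The rank-th tensor power of an Azumaya algebra is split.
-/

universe u v w

set_option linter.style.haveILetI false

namespace Groth.Agent.AzumayaX

open TensorProduct

section Word

variable {R : Type u} [CommRing R] {A : Type v} [Ring A] [Algebra R A] {T : Type w} [CommRing T]
  [Algebra R T] {n : ℕ} (Φ : (T ⊗[R] A) ≃ₐ[T] Matrix (Fin n) (Fin n) T)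

/-- The `k`-th insertion. -/
noncomputable def insertAt (k : Fin n) : T ⊗[R] A →ₐ[T] T ⊗[R] (⨂[R] _i : Fin n, A) :=
  Algebra.TensorProduct.map (AlgHom.id T T) (PiTensorProduct.singleAlgHom (A := fun _ : Fin n => A) k)

/-- The backward comparison map. -/
noncomputable def backMap :
    (⨂[T] _k : Fin n, Matrix (Fin n) (Fin n) T) →ₗ[T] T ⊗[R] (⨂[R] _i : Fin n, A) :=
  PiTensorProduct.lift ((MultilinearMap.mkPiAlgebraFin T n (T ⊗[R] (⨂[R] _i : Fin n, A))).compLinearMap
    fun k => ((insertAt k).comp Φ.symm.toAlgHom).toLinearMap)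

theorem backMap_tprod (X : Fin n → Matrix (Fin n) (Fin n) T) :
    backMap Φ (PiTensorProduct.tprod T X) =
      (List.ofFn fun k => insertAt (R := R) (A := A) (T := T) k (Φ.symm (X k))).prod := by
  simp [backMap]

/-- The forward comparison map. -/
noncomputable def foreMap :
    T ⊗[R] (⨂[R] _i : Fin n, A) →ₐ[T] (⨂[T] _k : Fin n, Matrix (Fin n) (Fin n) T) :=
  Algebra.TensorProduct.lift (Algebra.ofId T _)
    (PiTensorProduct.liftAlgHom
      (((PiTensorProduct.tprod T (s := fun _ : Fin n => Matrix (Fin n) (Fin n) T)).restrictScalars R).compLinearMap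
        fun _ => ((Φ.toAlgHom.restrictScalars R).comp Algebra.TensorProduct.includeRight).toLinearMap)
      (by
        show PiTensorProduct.tprod T (fun _ : Fin n => Φ ((1 : T) ⊗ₜ[R] (1 : A))) = 1
        rw [← Algebra.TensorProduct.one_def]
        simp [map_one, PiTensorProduct.one_def, Pi.one_def])
      (fun x y => by
        show PiTensorProduct.tprod T (fun k => Φ ((1 : T) ⊗ₜ[R] (x k * y k))) =
          PiTensorProduct.tprod T (fun k => Φ ((1 : T) ⊗ₜ[R] x k)) *
            PiTensorProduct.tprod T (fun k => Φ ((1 : T) ⊗ₜ[R] y k))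
        rw [PiTensorProduct.tprod_mul_tprod]
        congr 1
        funext k
        rw [Pi.mul_apply, ← map_mul, Algebra.TensorProduct.tmul_mul_tmul, one_mul]))
    fun t _ => Algebra.commutes t _

theorem foreMap_tmul (t : T) (a : Fin n → A) :
    foreMap Φ (t ⊗ₜ PiTensorProduct.tprod R a) =
      t • PiTensorProduct.tprod T (fun k => Φ ((1 : T) ⊗ₜ[R] a k)) := by
  rw [show t ⊗ₜ[R] PiTensorProduct.tprod R a = t • ((1 : T) ⊗ₜ[R] PiTensorProduct.tprod R a) by
      rw [TensorProduct.smul_tmul', smul_eq_mul, mul_one], map_smul]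
  refine congrArg (t • ·) ?_
  rw [foreMap, Algebra.TensorProduct.lift_tmul, map_one, one_mul]
  exact PiTensorProduct.lift.tprod _

theorem prod_ofFn_mulSingle {M : Fin n → Type*} [∀ i, Monoid (M i)] (a : ∀ i, M i) :
    (List.ofFn fun k => Pi.mulSingle k (a k)).prod = a := by
  funext j
  rw [Pi.list_prod_apply, List.ofFn_eq_map, List.map_map,
    List.prod_map_eq_pow_single j _ fun k hk _ => Pi.mulSingle_eq_of_ne (Ne.symm hk) _]
  simp [List.count_eq_one_of_mem (List.nodup_finRange n) (List.mem_finRange j)]

theorem backMap_foreMap (x : T ⊗[R] (⨂[R] _i : Fin n, A)) : backMap Φ (foreMap Φ x) = x := by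
  induction x using TensorProduct.induction_on with
  | zero => simp
  | add x y hx hy => rw [map_add, map_add, hx, hy]
  | tmul t b =>
    induction b using PiTensorProduct.induction_on with
    | add x y hx hy => rw [TensorProduct.tmul_add, map_add, map_add, hx, hy]
    | smul_tprod r a =>
      rw [← TensorProduct.smul_tmul, foreMap_tmul, map_smul, backMap_tprod]
      have h : ∀ k, insertAt (R := R) (A := A) (T := T) k (Φ.symm (Φ ((1 : T) ⊗ₜ[R] a k))) =
          (Algebra.TensorProduct.includeRight :
            (⨂[R] _i : Fin n, A) →ₐ[R] T ⊗[R] (⨂[R] _i : Fin n, A)).toMonoidHom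
            (PiTensorProduct.tprodMonoidHom R (Pi.mulSingle k (a k))) := by
        intro k
        rw [AlgEquiv.symm_apply_apply]
        rfl
      simp only [h]
      rw [show (List.ofFn fun k => (Algebra.TensorProduct.includeRight :
            (⨂[R] _i : Fin n, A) →ₐ[R] T ⊗[R] (⨂[R] _i : Fin n, A)).toMonoidHom
            (PiTensorProduct.tprodMonoidHom R (Pi.mulSingle k (a k)))) =
          (List.ofFn fun k => Pi.mulSingle k (a k)).map
            ((Algebra.TensorProduct.includeRight :
              (⨂[R] _i : Fin n, A) →ₐ[R] T ⊗[R] (⨂[R] _i : Fin n, A)).toMonoidHom.comp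
              (PiTensorProduct.tprodMonoidHom R)) by rw [List.map_ofFn]; rfl,
        ← map_list_prod, prod_ofFn_mulSingle]
      show (r • t) • ((1 : T) ⊗ₜ[R] PiTensorProduct.tprod R a) = (r • t) ⊗ₜ[R] PiTensorProduct.tprod R a
      rw [TensorProduct.smul_tmul', smul_eq_mul, mul_one]

theorem foreMap_surjective : Function.Surjective (foreMap Φ) := by
  classical
  intro m
  show m ∈ LinearMap.range (foreMap Φ).toLinearMap
  induction m using PiTensorProduct.induction_on with
  | add x y hx hy => exact add_mem hx hy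
  | smul_tprod r X =>
    refine Submodule.smul_mem _ r ?_
    choose S hS using fun k => TensorProduct.exists_finset (Φ.symm (X k))
    have hX : X = fun k => ∑ j ∈ S k, j.1 • Φ ((1 : T) ⊗ₜ[R] j.2) := funext fun k => by
      rw [← Φ.apply_symm_apply (X k), hS k, map_sum]
      refine Finset.sum_congr rfl fun j _ => ?_
      rw [← map_smul, TensorProduct.smul_tmul', smul_eq_mul, mul_one]
    rw [hX, MultilinearMap.map_sum_finset]
    refine Submodule.sum_mem _ fun c _ => ⟨(∏ k, (c k).1) ⊗ₜ PiTensorProduct.tprod R (fun k => (c k).2), ?_⟩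
    rw [MultilinearMap.map_smul_univ]
    exact foreMap_tmul Φ _ _

/-- The tensor power of a split algebra is the tensor power of the matrix algebra. -/
noncomputable def foreEquiv :
    (T ⊗[R] (⨂[R] _i : Fin n, A)) ≃ₐ[T] (⨂[T] _k : Fin n, Matrix (Fin n) (Fin n) T) :=
  AlgEquiv.ofBijective (foreMap Φ)
    ⟨Function.LeftInverse.injective (backMap_foreMap Φ), foreMap_surjective Φ⟩

theorem foreEquiv_apply (x) : foreEquiv Φ x = foreMap Φ x := rfl

theorem foreMap_backMap (m) : foreMap Φ (backMap Φ m) = m := by
  obtain ⟨x, rfl⟩ := foreMap_surjective Φ m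
  rw [backMap_foreMap]

theorem foreEquiv_backMap (m) : foreEquiv Φ (backMap Φ m) = m := foreMap_backMap Φ m

/-- The antisymmetriser transported to the tensor power. -/
noncomputable def antisymEl : T ⊗[R] (⨂[R] _i : Fin n, A) := backMap Φ (antisym T n)

end Word

section Descent

variable {R : Type u} [CommRing R] {A : Type v} [Ring A] [Algebra R A] {T : Type w} [CommRing T]
  [Algebra R T] {n : ℕ}

theorem antisymEl_eq (Φ Ψ : (T ⊗[R] A) ≃ₐ[T] Matrix (Fin n) (Fin n) T) : antisymEl Ψ = antisymEl Φ := by
  conv_rhs => rw [antisymEl, ← antisym_invariant (Ψ.symm.trans Φ)]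
  simp only [antisymEl, antisym, map_sum, map_smul, backMap_tprod, unitTensor, AlgEquiv.trans_apply,
    AlgEquiv.symm_apply_apply, Function.comp_apply]

variable {T' : Type*} [CommRing T'] [Algebra R T'] (h : T →ₐ[R] T')
  (Φ : (T ⊗[R] A) ≃ₐ[T] Matrix (Fin n) (Fin n) T) (Φ' : (T' ⊗[R] A) ≃ₐ[T'] Matrix (Fin n) (Fin n) T')
  (hΦ : ∀ y, Φ' (Algebra.TensorProduct.map h (AlgHom.id R A) y) = (Φ y).map h)

include hΦ

theorem antisymEl_natural :
    Algebra.TensorProduct.map h (AlgHom.id R (⨂[R] _i : Fin n, A)) (antisymEl Φ) = antisymEl Φ' := by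
  have hins : ∀ (k : Fin n) (y : T ⊗[R] A),
      Algebra.TensorProduct.map h (AlgHom.id R (⨂[R] _i : Fin n, A)) (insertAt (R := R) (A := A) (T := T) k y) =
        insertAt (R := R) (A := A) (T := T') k (Algebra.TensorProduct.map h (AlgHom.id R A) y) := by
    intro k y
    induction y using TensorProduct.induction_on with
    | zero => simp
    | add x y hx hy => simp only [map_add, hx, hy]
    | tmul t a => simp [insertAt]
  have hsymm : ∀ i j : Fin n, Algebra.TensorProduct.map h (AlgHom.id R A) (Φ.symm (Matrix.single i j 1)) =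
      Φ'.symm (Matrix.single i j 1) := fun i j => Φ'.injective (by
    rw [hΦ, AlgEquiv.apply_symm_apply, AlgEquiv.apply_symm_apply]
    ext a b
    simp [Matrix.single, apply_ite h])
  have hsmul : ∀ (c : ℤ) (x : T ⊗[R] (⨂[R] _i : Fin n, A)),
      Algebra.TensorProduct.map h (AlgHom.id R (⨂[R] _i : Fin n, A)) ((c : T) • x) =
        (c : T') • Algebra.TensorProduct.map h (AlgHom.id R (⨂[R] _i : Fin n, A)) x := fun c x => by
    induction x using TensorProduct.induction_on with
    | zero => simp
    | add x y hx hy => simp only [smul_add, map_add, hx, hy]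
    | tmul t b => simp [TensorProduct.smul_tmul']
  simp only [antisymEl, antisym, map_sum, map_smul, sgn, hsmul, unitTensor, backMap_tprod, map_list_prod,
    List.map_ofFn, Function.comp_def, hins, hsymm]

end Descent

section Main

variable {R : Type u} [CommRing R] {A : Type u} [Ring A] [Algebra R A] [IsAzumaya R A] {n : ℕ}
  {T : Type u} [CommRing T] [Algebra R T]

theorem exists_antisymmetriser (hA : ∀ p : PrimeSpectrum R, Module.rankAtStalk (R := R) A p = n ^ 2)
    (hn : 0 < n) [Module.FaithfullyFlat R T] [Module.Flat R (⨂[R] _i : Fin n, A)]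
    (Φ : (T ⊗[R] A) ≃ₐ[T] Matrix (Fin n) (Fin n) T) :
    ∃ b : ⨂[R] _i : Fin n, A, (1 : T) ⊗ₜ[R] b = antisymEl Φ := by
  obtain ⟨Φl, hΦl⟩ : ∃ e : ((T ⊗[R] T) ⊗[R] A) ≃ₐ[T ⊗[R] T] Matrix (Fin n) (Fin n) (T ⊗[R] T),
      ∀ x, e x = pushSplitting Φ Algebra.TensorProduct.includeLeft x :=
    ⟨AlgEquiv.ofBijective _ (algHom_matrix_bijective' hA hn (T ⊗[R] T) _), fun _ => AlgEquiv.ofBijective_apply ..⟩
  obtain ⟨Φr, hΦr⟩ : ∃ e : ((T ⊗[R] T) ⊗[R] A) ≃ₐ[T ⊗[R] T] Matrix (Fin n) (Fin n) (T ⊗[R] T),
      ∀ x, e x = pushSplitting Φ Algebra.TensorProduct.includeRight x :=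
    ⟨AlgEquiv.ofBijective _ (algHom_matrix_bijective' hA hn (T ⊗[R] T) _), fun _ => AlgEquiv.ofBijective_apply ..⟩
  have hcompat : ∀ (i : T →ₐ[R] T ⊗[R] T) (y : T ⊗[R] A),
      pushSplitting Φ i (Algebra.TensorProduct.map i (AlgHom.id R A) y) = (Φ y).map i := by
    intro i y
    induction y using TensorProduct.induction_on with
    | zero => simp
    | add x y hx hy => rw [map_add, map_add, hx, hy, map_add, Matrix.map_add _ (fun a b => map_add i a b)]
    | tmul t a =>
      rw [Algebra.TensorProduct.map_tmul, AlgHom.id_apply, pushSplitting_tmul,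
        show t ⊗ₜ[R] a = t • ((1 : T) ⊗ₜ[R] a) by rw [TensorProduct.smul_tmul', smul_eq_mul, mul_one],
        map_smul]
      ext p q
      simp
  have hl := antisymEl_natural (Algebra.TensorProduct.includeLeft : T →ₐ[R] T ⊗[R] T) Φ Φl
    fun y => (hΦl _).trans (hcompat _ y)
  have hr := antisymEl_natural (Algebra.TensorProduct.includeRight : T →ₐ[R] T ⊗[R] T) Φ Φr
    fun y => (hΦr _).trans (hcompat _ y)
  have heq : ((Algebra.TensorProduct.includeLeftSubRight R T).rTensor (⨂[R] _i : Fin n, A))
      (antisymEl Φ) = 0 := by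
    have hd : ∀ x : T ⊗[R] (⨂[R] _i : Fin n, A),
        ((Algebra.TensorProduct.includeLeftSubRight R T).rTensor (⨂[R] _i : Fin n, A)) x =
          Algebra.TensorProduct.map (Algebra.TensorProduct.includeLeft : T →ₐ[R] T ⊗[R] T) (AlgHom.id R _) x -
          Algebra.TensorProduct.map (Algebra.TensorProduct.includeRight : T →ₐ[R] T ⊗[R] T) (AlgHom.id R _) x := by
      intro x
      induction x using TensorProduct.induction_on with
      | zero => simp
      | add x y hx hy => simp only [map_add, hx, hy]; abel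
      | tmul t b => simp [TensorProduct.sub_tmul]
    rw [hd, hl, hr, antisymEl_eq Φl Φr, sub_self]
  obtain ⟨y, hy⟩ := (Module.Flat.rTensor_exact (⨂[R] _i : Fin n, A)
    (Algebra.IsEffective.of_faithfullyFlat (R := R) (S := T)) (antisymEl Φ)).1 heq
  refine ⟨TensorProduct.lid R _ y, ?_⟩
  rw [← hy]
  clear hy heq
  induction y using TensorProduct.induction_on with
  | zero => simp
  | add x y hx hy => rw [map_add, TensorProduct.tmul_add, hx, hy, map_add]
  | tmul r b =>
    simp [TensorProduct.tmul_smul, TensorProduct.smul_tmul', Algebra.algebraMap_eq_smul_one]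

/-- The tensor power of an Azumaya algebra of constant rank equal to the exponent is an
endomorphism algebra. -/
theorem tensorPower_algEquiv_end (R : Type u) [CommRing R] (A : Type u) [Ring A] [Algebra R A]
    [IsAzumaya R A] {n : ℕ} (hn : 0 < n)
    (hA : ∀ p : PrimeSpectrum R, Module.rankAtStalk (R := R) A p = n ^ 2) :
    ∃ (E : Type u) (_ : AddCommGroup E) (_ : Module R E), Module.Finite R E ∧ Module.Projective R E ∧
      (∀ p : PrimeSpectrum R, Module.rankAtStalk (R := R) E p = n ^ n) ∧
      Nonempty ((⨂[R] _ : Fin n, A) ≃ₐ[R] Module.End R E) := by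
  classical
  obtain ⟨T, _, _, hT, ⟨Φ⟩⟩ := exists_cover R A hA hn
  let B := ⨂[R] _i : Fin n, A
  letI : SMulCommClass R B B := Algebra.to_smulCommClass (R := R) (A := B)
  letI : IsScalarTower R B B := IsScalarTower.right (R := R) (A := B)
  let M := ⨂[T] _k : Fin n, Matrix (Fin n) (Fin n) T
  letI : SMulCommClass T M M := Algebra.to_smulCommClass (R := T) (A := M)
  letI : IsScalarTower T M M := IsScalarTower.right (R := T) (A := M)
  let θ : T ⊗[R] B ≃ₐ[T] M := foreEquiv Φ
  haveI : Module.Free T (T ⊗[R] B) :=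
    Module.Free.of_equiv' (Module.Free.of_basis (unitBasis T n)) θ.toLinearEquiv.symm
  haveI : Module.Projective R B := projective_descent T B
  obtain ⟨b₀, hb₀⟩ := exists_antisymmetriser hA hn Φ
  have hθb : θ ((1 : T) ⊗ₜ[R] b₀) = antisym T n := by
    rw [hb₀]; exact foreEquiv_backMap Φ _
  let ρ : B →ₗ[R] B := LinearMap.mulRight R b₀
  let E := LinearMap.range ρ
  have hρ : ∀ x ∈ E, ∀ c : B, c * x ∈ E := by
    rintro _ ⟨x, rfl⟩ c
    exact ⟨c * x, mul_assoc c x b₀⟩
  let L : B →ₐ[R] Module.End R E :=
    { toFun := fun c => LinearMap.codRestrict E ((LinearMap.mulLeft R c).comp E.subtype)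
        fun x => hρ _ x.2 c
      map_one' := LinearMap.ext fun x => Subtype.ext (one_mul (x : B))
      map_mul' := fun c d => LinearMap.ext fun x => Subtype.ext (mul_assoc c d (x : B))
      map_zero' := LinearMap.ext fun x => Subtype.ext (zero_mul (x : B))
      map_add' := fun c d => LinearMap.ext fun x => Subtype.ext (add_mul c d (x : B))
      commutes' := fun r => LinearMap.ext fun x => Subtype.ext (by
        show algebraMap R B r * (x : B) = r • (x : B)
        rw [Algebra.smul_def]) }
  haveI : Module.Finite R E := Module.Finite.range ρ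
  let η : T ⊗[R] E →ₗ[T] M := θ.toLinearMap.comp (E.subtype.baseChange T)
  have hη : Function.Injective η :=
    θ.injective.comp (Module.Flat.lTensor_preserves_injective_linearMap _ Subtype.val_injective)
  have hηtmul : ∀ (t : T) (x : E), η (t ⊗ₜ x) = θ (t ⊗ₜ (x : B)) := fun t x => rfl
  have hfact : ∀ z : T ⊗[R] B, θ z * antisym T n = η ((ρ.rangeRestrict.baseChange T) z) := by
    intro z
    induction z using TensorProduct.induction_on with
    | zero => simp
    | add x y hx hy => rw [map_add, add_mul, hx, hy, map_add, map_add]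
    | tmul t c =>
      rw [← hθb, ← map_mul, Algebra.TensorProduct.tmul_mul_tmul, mul_one, LinearMap.baseChange_tmul, hηtmul]
      rfl
  have hrange : LinearMap.range η = Submodule.span T (Set.range (antisymLine T n)) := by
    rw [← range_mulRight_antisym]
    apply le_antisymm
    · rintro _ ⟨z, rfl⟩
      obtain ⟨w, rfl⟩ := LinearMap.lTensor_surjective T ρ.surjective_rangeRestrict z
      exact ⟨θ w, hfact w⟩
    · rintro _ ⟨m, rfl⟩
      exact ⟨(ρ.rangeRestrict.baseChange T) (θ.symm m), by rw [← hfact, AlgEquiv.apply_symm_apply]; rfl⟩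
  let β : Module.Basis (Fin n → Fin n) T (T ⊗[R] E) :=
    (Module.Basis.span (linearIndependent_antisymLine T n)).map
      ((LinearEquiv.ofInjective η hη).trans (LinearEquiv.ofEq _ _ hrange)).symm
  have hβ : ∀ a, η (β a) = antisymLine T n a := by
    intro a
    obtain ⟨z, hz⟩ : antisymLine T n a ∈ LinearMap.range η := hrange ▸ Submodule.subset_span ⟨a, rfl⟩
    have : β a = z := ((LinearEquiv.ofInjective η hη).trans (LinearEquiv.ofEq _ _ hrange)).injective
      (Subtype.ext (by simp [β, hz, Module.Basis.span_apply]))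
    rw [this, hz]
  haveI : Module.Free T (T ⊗[R] E) := Module.Free.of_basis β
  haveI : Module.Projective R E := projective_descent T E
  have hsurj : Function.Surjective (PrimeSpectrum.comap (algebraMap R T)) :=
    PrimeSpectrum.comap_surjective_of_faithfullyFlat
  refine ⟨E, inferInstance, inferInstance, inferInstance, inferInstance, fun p => ?_, ⟨AlgEquiv.ofBijective L ?_⟩⟩
  · obtain ⟨q, rfl⟩ := hsurj p
    haveI : Nontrivial T := nontrivial_of_ne 1 0 fun h => q.isPrime.ne_top
      ((Ideal.eq_top_iff_one _).2 (h ▸ q.asIdeal.zero_mem))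
    rw [← Module.rankAtStalk_baseChange, Module.rankAtStalk_eq_finrank_of_free,
      Module.finrank_eq_card_basis β]
    simp
  obtain ⟨_, _⟩ := end_finite_projective R E
  let Ll : B →ₗ[R] Module.End R E :=
    { toFun := fun c => L c
      map_add' := fun c d => map_add L c d
      map_smul' := fun r c => map_smul L r c }
  show Function.Bijective Ll
  refine bijective_of_baseChange (R := R) (M := B) (N := Module.End R E) T hsurj Ll ?_
  have hact : ∀ (y : T ⊗[R] B) (z : T ⊗[R] E),
      η (homBC T E E (Ll.baseChange T y) z) = θ y * η z := by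
    intro y z
    induction y using TensorProduct.induction_on with
    | zero => simp
    | add x y hx hy => simp [map_add, add_mul, hx, hy]
    | tmul t c =>
      induction z using TensorProduct.induction_on with
      | zero => simp
      | add x y hx hy => simp only [map_add, mul_add, hx, hy]
      | tmul s x =>
        rw [LinearMap.baseChange_tmul, homBC_tmul, LinearMap.smul_apply, LinearMap.baseChange_tmul,
          TensorProduct.smul_tmul', hηtmul, hηtmul, ← map_mul, Algebra.TensorProduct.tmul_mul_tmul]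
        rfl
  have hunit : ∀ (c : (Fin n → Fin n) → (Fin n → Fin n) → T) (b : Fin n → Fin n),
      (∑ a, ∑ d, c a d • unitTensor T n a d) * antisymLine T n b = ∑ a, c a b • antisymLine T n a := by
    intro c b
    simp only [Finset.sum_mul, smul_mul_assoc, unitTensor_mul_antisymLine]
    refine Finset.sum_congr rfl fun a _ => ?_
    simp [smul_ite]
  have hexp : ∀ m : M, ∃ c : (Fin n → Fin n) → (Fin n → Fin n) → T,
      m = ∑ a, ∑ d, c a d • unitTensor T n a d := by
    intro m
    refine ⟨fun a d => (unitBasis T n).repr m (fun k => (a k, d k)), ?_⟩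
    conv_lhs => rw [← (unitBasis T n).sum_repr m]
    rw [← Fintype.sum_prod_type']
    refine (Fintype.sum_equiv (Equiv.arrowProdEquivProdArrow (Fin n) (fun _ => Fin n) (fun _ => Fin n))
      _ _ fun q => ?_)
    rw [unitBasis_apply]
    rfl
  have hf : Function.Bijective ((homBC (R := R) T E E).comp (Ll.baseChange T)) := by
    constructor
    · refine (injective_iff_map_eq_zero _).2 fun y hy => ?_
      rw [LinearMap.comp_apply] at hy
      refine θ.injective (Eq.trans ?_ (map_zero θ).symm)
      obtain ⟨c, hc⟩ := hexp (θ y)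
      rw [hc]
      refine Finset.sum_eq_zero fun a _ => Finset.sum_eq_zero fun d _ => ?_
      have h := hact y (β d)
      rw [hy, LinearMap.zero_apply, map_zero, hβ, hc, hunit] at h
      rw [Fintype.linearIndependent_iff.1 (linearIndependent_antisymLine T n) _ h.symm a, zero_smul]
    · intro g
      refine ⟨θ.symm (∑ a, ∑ d, β.repr (g (β d)) a • unitTensor T n a d), β.ext fun b => hη ?_⟩
      show η (homBC T E E (Ll.baseChange T _) (β b)) = η (g (β b))
      rw [hact, AlgEquiv.apply_symm_apply, hβ, hunit]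
      conv_rhs => rw [← β.sum_repr (g (β b)), map_sum]
      exact Finset.sum_congr rfl fun a _ => by rw [map_smul, hβ]
  have hh := homBC_bijective (R := R) T E E
  exact (Function.Bijective.of_comp_iff' hh _).1 hf

end Main

end Groth.Agent.AzumayaX
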